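import Mathlib

/-!
Roots of an irreducible polynomial in finite commutative algebras, and endomorphisms killed by one.
-/

set_option autoImplicit false

namespace Cfsg.Agent.NormalCover

open Polynomial

variable {F : Type*} [Field F] [Fintype F]

theorem exists_irreducible {r : ℕ} (hr : 0 < r) :
    ∃ h : F[X], h.Monic ∧ Irreducible h ∧ h.natDegree = r := by
  obtain ⟨p, hp⟩ := CharP.exists F
  have : Fact p.Prime := ⟨(CharP.char_is_prime_or_zero F p).resolve_right (CharP.char_ne_zero_of_finite F p)⟩
  have : NeZero r := ⟨by omega⟩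
  let K := FiniteField.Extension F p r
  obtain ⟨α, hα⟩ := Field.exists_primitive_element_of_finite_top F K
  have hint : IsIntegral F α := Algebra.IsIntegral.isIntegral α
  refine ⟨minpoly F α, minpoly.monic hint, minpoly.irreducible hint, ?_⟩
  rw [← IntermediateField.adjoin.finrank hint, hα, IntermediateField.finrank_top']
  exact FiniteField.finrank_extension F p r

/-- An algebra all of whose residue fields contain a root contains a root. -/
theorem exists_root {A : Type*} [CommRing A] [Algebra F A] [Finite A] {x : A} {f h : F[X]}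
    (hf : aeval x f = 0) (hh : Irreducible h)
    (hdvd : ∀ π : F[X], π.Monic → Irreducible π → π ∣ f → h.natDegree ∣ π.natDegree) :
    ∃ a : A, aeval a h = 0 := by
  classical
  have : Fact (Irreducible h) := ⟨hh⟩
  have hroot : ∀ m : MaximalSpectrum A, ∃ a : A, aeval a h ∈ m.asIdeal := by
    intro m
    letI : Field (A ⧸ m.asIdeal) := Ideal.Quotient.field m.asIdeal
    have : Finite (A ⧸ m.asIdeal) := Finite.of_surjective _ Ideal.Quotient.mk_surjective
    have : Module.Finite F (A ⧸ m.asIdeal) := Module.Finite.of_finite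
    set y : A ⧸ m.asIdeal := Ideal.Quotient.mk _ x
    have hint : IsIntegral F y := Algebra.IsIntegral.isIntegral y
    have hy : aeval y f = 0 := by
      show aeval (Ideal.Quotient.mkₐ F m.asIdeal x) f = 0
      rw [aeval_algHom_apply, hf, map_zero]
    have h1 := hdvd _ (minpoly.monic hint) (minpoly.irreducible hint) (minpoly.dvd F y hy)
    have h2 : (minpoly F y).natDegree ∣ Module.finrank F (A ⧸ m.asIdeal) := minpoly.degree_dvd hint
    have h3 : Module.finrank F (AdjoinRoot h) ∣ Module.finrank F (A ⧸ m.asIdeal) := by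
      rw [(AdjoinRoot.powerBasis hh.ne_zero).finrank, AdjoinRoot.powerBasis_dim]
      exact h1.trans h2
    have : Finite (AdjoinRoot h) :=
      have := (AdjoinRoot.powerBasis hh.ne_zero).finite
      Module.finite_of_finite F
    obtain ⟨φ⟩ := FiniteField.nonempty_algHom_of_finrank_dvd h3
    obtain ⟨a, ha⟩ := Ideal.Quotient.mk_surjective (φ (AdjoinRoot.root h))
    refine ⟨a, Ideal.Quotient.eq_zero_iff_mem.1 ?_⟩
    show Ideal.Quotient.mkₐ F m.asIdeal _ = 0
    rw [← aeval_algHom_apply, show Ideal.Quotient.mkₐ F m.asIdeal a = φ (AdjoinRoot.root h) from ha,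
      aeval_algHom_apply, AdjoinRoot.aeval_eq, AdjoinRoot.mk_self, map_zero]
  choose a ha using hroot
  have hcop : Pairwise (fun m m' : MaximalSpectrum A => IsCoprime m.asIdeal m'.asIdeal) := fun m m' e =>
    Ideal.isCoprime_iff_sup_eq.2 (m.isMaximal.coprime_of_ne m'.isMaximal fun e' => e (MaximalSpectrum.ext e'))
  obtain ⟨b, hb⟩ := Ideal.quotientInfToPiQuotient_surj hcop fun m => Ideal.Quotient.mk m.asIdeal (a m)
  obtain ⟨b, rfl⟩ := Ideal.Quotient.mk_surjective b
  have hbm : ∀ m : MaximalSpectrum A, aeval b h ∈ m.asIdeal := fun m => by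
    have e : Ideal.Quotient.mk m.asIdeal b = Ideal.Quotient.mk m.asIdeal (a m) := congrFun hb m
    refine Ideal.Quotient.eq_zero_iff_mem.1 ?_
    show Ideal.Quotient.mkₐ F m.asIdeal _ = 0
    rw [← aeval_algHom_apply, show Ideal.Quotient.mkₐ F m.asIdeal b = Ideal.Quotient.mkₐ F m.asIdeal (a m) from e,
      aeval_algHom_apply]
    exact Ideal.Quotient.eq_zero_iff_mem.2 (ha m)
  have hnil : IsNilpotent (aeval b h) := by
    rw [← mem_nilradical, nilradical_eq_sInf, Submodule.mem_sInf]
    intro J hJ
    have := Set.mem_ofPred_eq ▸ hJ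
    exact hbm ⟨J, (IsArtinianRing.isPrime_iff_isMaximal J).1 this⟩
  obtain ⟨k, hk⟩ := hnil
  refine ⟨b ^ Fintype.card F ^ k, ?_⟩
  have hpow : ∀ M : ℕ, aeval (b ^ Fintype.card F ^ M) h = aeval b h ^ Fintype.card F ^ M := by
    intro M
    induction M with
    | zero => simp
    | succ M ih =>
      rw [pow_succ, pow_mul, pow_mul, ← ih, ← map_pow, ← FiniteField.expand_card, expand_aeval]
  rw [hpow]
  exact pow_eq_zero_of_le (Nat.lt_pow_self (Fintype.one_lt_card)).le hk

variable {V W : Type*} [AddCommGroup V] [Module F V] [AddCommGroup W] [Module F W]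

omit [Fintype F] in
/-- Two endomorphisms killed by the same irreducible polynomial are similar. -/
theorem exists_equiv_of_root [FiniteDimensional F V] [FiniteDimensional F W]
    (hd : Module.finrank F V = Module.finrank F W) {h : F[X]} (hh : Irreducible h)
    {a : Module.End F V} (ha : aeval a h = 0) {b : Module.End F W} (hb : aeval b h = 0) :
    ∃ φ : V ≃ₗ[F] W, ∀ v, φ (a v) = b (φ v) := by
  have : Fact (Irreducible h) := ⟨hh⟩
  let σ : AdjoinRoot h →ₐ[F] Module.End F V := Ideal.Quotient.liftₐ _ (aeval a) fun p hp => by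
    obtain ⟨c, rfl⟩ := Ideal.mem_span_singleton.1 hp
    rw [map_mul, ha, zero_mul]
  let τ : AdjoinRoot h →ₐ[F] Module.End F W := Ideal.Quotient.liftₐ _ (aeval b) fun p hp => by
    obtain ⟨c, rfl⟩ := Ideal.mem_span_singleton.1 hp
    rw [map_mul, hb, zero_mul]
  letI : Module (AdjoinRoot h) V := Module.compHom V σ.toRingHom
  letI : Module (AdjoinRoot h) W := Module.compHom W τ.toRingHom
  have : IsScalarTower F (AdjoinRoot h) V := ⟨fun c k v => by
    show σ (c • k) v = c • σ k v
    rw [map_smul]; rfl⟩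
  have : IsScalarTower F (AdjoinRoot h) W := ⟨fun c k v => by
    show τ (c • k) v = c • τ k v
    rw [map_smul]; rfl⟩
  have : Module.Finite (AdjoinRoot h) V := Module.Finite.right F _ _
  have : Module.Finite (AdjoinRoot h) W := Module.Finite.right F _ _
  have h1 := Module.finrank_mul_finrank F (AdjoinRoot h) V
  have h2 := Module.finrank_mul_finrank F (AdjoinRoot h) W
  have hpos : 0 < Module.finrank F (AdjoinRoot h) := by
    rw [(AdjoinRoot.powerBasis hh.ne_zero).finrank, AdjoinRoot.powerBasis_dim]
    exact hh.natDegree_pos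
  let e : V ≃ₗ[AdjoinRoot h] W := LinearEquiv.ofFinrankEq _ _
    (Nat.eq_of_mul_eq_mul_left hpos (h1.trans (hd.trans h2.symm)))
  refine ⟨e.restrictScalars F, fun v => ?_⟩
  have e1 : (AdjoinRoot.root h) • v = a v := by
    show σ (AdjoinRoot.root h) v = a v
    show aeval a (X : F[X]) v = _
    rw [aeval_X]
  have e2 : (AdjoinRoot.root h) • e v = b (e v) := by
    show τ (AdjoinRoot.root h) (e v) = b (e v)
    show aeval b (X : F[X]) (e v) = _
    rw [aeval_X]
  show e (a v) = b (e v)
  rw [← e1, map_smul, e2]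

/-- Every determinant occurs in the centralizer. -/
theorem exists_commute_det [FiniteDimensional F V] [Nontrivial V] {h : F[X]} (hh : Irreducible h)
    {b : Module.End F V} (hb : aeval b h = 0) {c : F} (hc : c ≠ 0) :
    ∃ ψ : V ≃ₗ[F] V, (∀ v, ψ (b v) = b (ψ v)) ∧ LinearMap.det (ψ : V →ₗ[F] V) = c := by
  classical
  have : Fact (Irreducible h) := ⟨hh⟩
  let σ : AdjoinRoot h →ₐ[F] Module.End F V := Ideal.Quotient.liftₐ _ (aeval b) fun p hp => by
    obtain ⟨d, rfl⟩ := Ideal.mem_span_singleton.1 hp
    rw [map_mul, hb, zero_mul]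
  letI : Module (AdjoinRoot h) V := Module.compHom V σ.toRingHom
  have : IsScalarTower F (AdjoinRoot h) V := ⟨fun c k v => by
    show σ (c • k) v = c • σ k v
    rw [map_smul]; rfl⟩
  have : Module.Finite (AdjoinRoot h) V := Module.Finite.right F _ _
  have : Module.Finite F (AdjoinRoot h) := (AdjoinRoot.powerBasis hh.ne_zero).finite
  have : Finite (AdjoinRoot h) := Module.finite_of_finite F
  obtain ⟨k, hk⟩ := FiniteField.norm_surjective F (AdjoinRoot h) c
  let B := Module.finBasis (AdjoinRoot h) V
  have hpos : 0 < Module.finrank (AdjoinRoot h) V := Module.finrank_pos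
  let i₀ : Fin (Module.finrank (AdjoinRoot h) V) := ⟨0, hpos⟩
  let T : V →ₗ[AdjoinRoot h] V := Matrix.toLin B B (Matrix.diagonal (Function.update 1 i₀ k))
  have hT : LinearMap.det T = k := by
    rw [← LinearMap.det_toMatrix B, LinearMap.toMatrix_toLin, Matrix.det_diagonal,
      Finset.prod_update_of_mem (Finset.mem_univ i₀)]
    simp
  have hdet : LinearMap.det (T.restrictScalars F) = c := by
    rw [LinearMap.det_restrictScalars, hT, hk]
  refine ⟨LinearMap.equivOfDetNeZero (T.restrictScalars F) (hdet ▸ hc), fun v => ?_, hdet⟩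
  have e1 : ∀ w : V, (AdjoinRoot.root h) • w = b w := fun w => by
    show σ (AdjoinRoot.root h) w = b w
    show aeval b (X : F[X]) w = _
    rw [aeval_X]
  show T (b v) = b (T v)
  rw [← e1, map_smul, e1]

omit [Fintype F] in
/-- An endomorphism killed by a given irreducible polynomial exists. -/
theorem exists_root_end [FiniteDimensional F V] {h : F[X]} (hh : Irreducible h)
    (hdvd : h.natDegree ∣ Module.finrank F V) : ∃ b : Module.End F V, aeval b h = 0 := by
  have : Fact (Irreducible h) := ⟨hh⟩
  obtain ⟨d, hd⟩ := hdvd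
  let B := AdjoinRoot.powerBasis hh.ne_zero
  have := B.finite
  let e : (Fin d → AdjoinRoot h) ≃ₗ[F] V := LinearEquiv.ofFinrankEq _ _ (by
    rw [Module.finrank_pi_fintype, hd]
    simp [B.finrank, B, AdjoinRoot.powerBasis_dim, mul_comm])
  let μ : AdjoinRoot h →ₐ[F] Module.End F (Fin d → AdjoinRoot h) := Algebra.lsmul F F _
  refine ⟨(e.conjAlgEquiv F).toAlgHom (μ (AdjoinRoot.root h)), ?_⟩
  rw [aeval_algHom_apply, aeval_algHom_apply, AdjoinRoot.aeval_eq, AdjoinRoot.mk_self, map_zero,
    map_zero]

end Cfsg.Agent.NormalCover
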