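import Mathlib

/-!
Coverings of a group by two conjugacy classes of proper subgroups, modulo the centre.
-/

set_option autoImplicit false

namespace Cfsg.Agent.NormalCover

/-- Two subgroups containing the centre give a covering of the central quotient. -/
theorem exists_cover_quotient {G : Type*} [Group G] {H K : Subgroup G} (hH : H ≠ ⊤) (hK : K ≠ ⊤)
    (hZH : Subgroup.center G ≤ H) (hZK : Subgroup.center G ≤ K)
    (hcov : ∀ g : G, ∃ x : G, x * g * x⁻¹ ∈ H ∨ x * g * x⁻¹ ∈ K) :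
    ∃ H' K' : Subgroup (G ⧸ Subgroup.center G), H' ≠ ⊤ ∧ K' ≠ ⊤ ∧
      ∀ g : G ⧸ Subgroup.center G, ∃ x : G ⧸ Subgroup.center G,
        x * g * x⁻¹ ∈ H' ∨ x * g * x⁻¹ ∈ K' := by
  have key : ∀ L : Subgroup G, L ≠ ⊤ → Subgroup.center G ≤ L →
      L.map (QuotientGroup.mk' (Subgroup.center G)) ≠ ⊤ := by
    intro L hL hZ e
    refine hL ?_
    have := congrArg (Subgroup.comap (QuotientGroup.mk' (Subgroup.center G))) e
    rw [Subgroup.comap_map_eq, QuotientGroup.ker_mk', sup_eq_left.2 hZ, Subgroup.comap_top] at this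
    exact this
  refine ⟨_, _, key H hH hZH, key K hK hZK, fun g => ?_⟩
  obtain ⟨g, rfl⟩ := QuotientGroup.mk'_surjective _ g
  obtain ⟨x, hx⟩ := hcov g
  refine ⟨QuotientGroup.mk' _ x, ?_⟩
  rw [← map_inv, ← map_mul, ← map_mul]
  exact hx.imp (Subgroup.mem_map_of_mem _) (Subgroup.mem_map_of_mem _)

end Cfsg.Agent.NormalCover
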