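import Cfsg.Agent.Lib.SylowSquares.Octonion
import Cfsg.Agent.Lib.GL.Action

/-!
`G₂(q)`, `q` even: every element fixes or moves by `1` an octonion of trace one.
-/

set_option autoImplicit false
set_option linter.unusedSectionVars false

namespace Cfsg.Agent.NormalCover.GTwo

open Matrix Cfsg.Lie
open Cfsg.Agent.SylowSquares

variable {F : Type*} [Field F]

/-- The unit. -/
def one8 (F : Type*) [Field F] : Fin 8 → F := ![1, 0, 0, 0, 0, 0, 0, 1]

/-- The trace. -/
def tr8 (x : Fin 8 → F) : F := x 0 + x 7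

/-- The norm. -/
def nm8 (x : Fin 8 → F) : F := x 0 * x 7 - (x 1 * x 4 + x 2 * x 5 + x 3 * x 6)

theorem one_zornMul (x : Fin 8 → F) : zornMul (one8 F) x = x := by
  funext i; fin_cases i <;> simp [zornMul, one8, dot3, cross3]

theorem zornMul_one (x : Fin 8 → F) : zornMul x (one8 F) = x := by
  funext i; fin_cases i <;> simp [zornMul, one8, dot3, cross3]

theorem quad_eq (x : Fin 8 → F) : zornMul x x - tr8 x • x + nm8 x • one8 F = 0 := by
  funext i
  simp only [Pi.add_apply, Pi.sub_apply, Pi.smul_apply, Pi.zero_apply, smul_eq_mul]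
  fin_cases i <;> simp [zornMul, one8, dot3, cross3, tr8, nm8] <;> ring

/-- The matrix of an element. -/
abbrev mat (g : ↥(G2 F)) : Matrix (Fin 8) (Fin 8) F := ((g : GL (Fin 8) F) : Matrix (Fin 8) (Fin 8) F)

theorem mat_mul (g : ↥(G2 F)) (x y : Fin 8 → F) :
    mat g *ᵥ zornMul x y = zornMul (mat g *ᵥ x) (mat g *ᵥ y) := g.2 x y

theorem mat_inv (g : ↥(G2 F)) (x : Fin 8 → F) : mat g⁻¹ *ᵥ (mat g *ᵥ x) = x := by
  rw [mulVec_mulVec, ← Units.val_mul, Subgroup.coe_inv, inv_mul_cancel, Units.val_one, one_mulVec]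

theorem mat_comp (g h : ↥(G2 F)) (x : Fin 8 → F) : mat (g * h) *ᵥ x = mat g *ᵥ (mat h *ᵥ x) := by
  rw [mulVec_mulVec]; rfl

theorem mat_one (g : ↥(G2 F)) : mat g *ᵥ one8 F = one8 F := by
  have h := mat_mul g (one8 F) (mat g⁻¹ *ᵥ one8 F)
  have e : mat g *ᵥ (mat g⁻¹ *ᵥ one8 F) = one8 F := by
    simpa using mat_inv g⁻¹ (one8 F)
  rw [one_zornMul, e, zornMul_one] at h
  exact h.symm

theorem mat_tr_nm (g : ↥(G2 F)) (x : Fin 8 → F) :
    tr8 (mat g *ᵥ x) = tr8 x ∧ nm8 (mat g *ᵥ x) = nm8 x := by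
  set y := mat g *ᵥ x
  by_cases hy : ∃ c : F, y = c • one8 F
  · obtain ⟨c, hc⟩ := hy
    have : x = c • one8 F := by
      rw [← mat_inv g x]; show mat g⁻¹ *ᵥ y = _; rw [hc, mulVec_smul, mat_one]
    rw [hc, ← this]; exact ⟨rfl, rfl⟩
  · have h1 : zornMul y y - tr8 x • y + nm8 x • one8 F = 0 := by
      have := congrArg (fun v : Fin 8 → F => mat g *ᵥ v) (quad_eq x)
      simp only [mulVec_add, mulVec_sub, mulVec_smul, mat_mul, mat_one, mulVec_zero] at this
      exact this
    have h2 := quad_eq y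
    have h3 : (tr8 x - tr8 y) • y = (nm8 x - nm8 y) • one8 F := by
      have h4 := sub_eq_zero.2 (h2.trans h1.symm)
      rw [sub_smul, sub_smul]
      funext i
      have := congrFun h4 i
      simp only [Pi.sub_apply, Pi.add_apply, Pi.smul_apply, smul_eq_mul, Pi.zero_apply] at this ⊢
      linear_combination this
    have ht : tr8 y = tr8 x := by
      by_contra hne
      have hne' : tr8 x - tr8 y ≠ 0 := sub_ne_zero.2 (Ne.symm hne)
      exact hy ⟨(tr8 x - tr8 y)⁻¹ * (nm8 x - nm8 y), by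
        rw [← smul_smul, ← h3, smul_smul, inv_mul_cancel₀ hne', one_smul]⟩
    refine ⟨ht, ?_⟩
    have := congrFun h3 0
    simp only [Pi.smul_apply, smul_eq_mul, ht, sub_self, zero_mul, one8, cons_val_zero, mul_one] at this
    linear_combination this

variable [CharP F 2]

theorem one_add_one : one8 F + one8 F = 0 := funext fun _ => CharTwo.add_self_eq_zero _

/-- The polar form of the norm. -/
def pol (u x : Fin 8 → F) : F :=
  u 0 * x 7 + u 7 * x 0 + u 1 * x 4 + u 4 * x 1 + u 2 * x 5 + u 5 * x 2 + u 3 * x 6 + u 6 * x 3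

theorem nm8_add (u x : Fin 8 → F) : nm8 (u + x) = nm8 u + nm8 x + pol u x := by
  simp only [nm8, pol, Pi.add_apply]
  linear_combination -(u 1 * x 4 + u 4 * x 1 + u 2 * x 5 + u 5 * x 2 + u 3 * x 6 + u 6 * x 3) *
    CharTwo.two_eq_zero (R := F)

theorem pol_add_left (u v x : Fin 8 → F) : pol (u + v) x = pol u x + pol v x := by
  simp only [pol, Pi.add_apply]; ring

theorem mat_pol (g : ↥(G2 F)) (u x : Fin 8 → F) : pol (mat g *ᵥ u) (mat g *ᵥ x) = pol u x := by
  have h := nm8_add (mat g *ᵥ u) (mat g *ᵥ x)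
  rw [← mulVec_add, (mat_tr_nm g (u + x)).2, (mat_tr_nm g u).2, (mat_tr_nm g x).2, nm8_add] at h
  exact (add_left_cancel h).symm

theorem pol_sep {v : Fin 8 → F} (h : ∀ x, pol v x = tr8 x) : v = one8 F := by
  have h0 := h ![1, 0, 0, 0, 0, 0, 0, 0]
  have h1 := h ![0, 1, 0, 0, 0, 0, 0, 0]
  have h2 := h ![0, 0, 1, 0, 0, 0, 0, 0]
  have h3 := h ![0, 0, 0, 1, 0, 0, 0, 0]
  have h4 := h ![0, 0, 0, 0, 1, 0, 0, 0]
  have h5 := h ![0, 0, 0, 0, 0, 1, 0, 0]
  have h6 := h ![0, 0, 0, 0, 0, 0, 1, 0]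
  have h7 := h ![0, 0, 0, 0, 0, 0, 0, 1]
  simp [pol, tr8] at h0 h1 h2 h3 h4 h5 h6 h7
  funext i; fin_cases i <;> simp [one8, *]

/-- The stabiliser of `{z, z + 1}`. -/
def pairStab (z : Fin 8 → F) : Subgroup ↥(G2 F) where
  carrier := {g | mat g *ᵥ z = z ∨ mat g *ᵥ z = z + one8 F}
  one_mem' := Or.inl (by simp [mat])
  mul_mem' := by
    intro a b ha hb
    rcases ha with ha | ha <;> rcases hb with hb | hb <;>
      simp only [Set.mem_ofPred_eq, mat_comp, hb, ha, mulVec_add, mat_one, add_assoc, one_add_one, add_zero] <;>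
      simp
  inv_mem' := by
    intro a ha
    rcases ha with ha | ha
    · left; conv_lhs => rw [← ha]
      exact mat_inv a z
    · right
      calc mat a⁻¹ *ᵥ z = mat a⁻¹ *ᵥ (z + one8 F + one8 F) := by rw [add_assoc, one_add_one, add_zero]
        _ = _ := by
          rw [mulVec_add, mat_one]
          conv_lhs => rw [← ha, mat_inv]

/-- Every element preserves some `{z, z + 1}` with trace one. -/
theorem exists_pair (g : ↥(G2 F)) : ∃ z, tr8 z = 1 ∧ g ∈ pairStab z := by
  classical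
  by_cases hw : ∃ w, mat g *ᵥ w = w ∧ tr8 w ≠ 0
  · obtain ⟨w, hw, hw0⟩ := hw
    refine ⟨(tr8 w)⁻¹ • w, ?_, Or.inl (by rw [mulVec_smul, hw])⟩
    show (tr8 w)⁻¹ * w 0 + (tr8 w)⁻¹ * w 7 = 1
    rw [← mul_add]; exact inv_mul_cancel₀ hw0
  · push Not at hw
    let T : (Fin 8 → F) →ₗ[F] (Fin 8 → F) := (mat g).mulVecLin + LinearMap.id
    let l : Module.Dual F (Fin 8 → F) := LinearMap.proj (R := F) (φ := fun _ : Fin 8 => F) 0 + LinearMap.proj 7
    have hl : l ∈ LinearMap.range T.dualMap := by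
      rw [LinearMap.range_dualMap_eq_dualAnnihilator_ker, Submodule.mem_dualAnnihilator]
      intro w hw'
      have : mat g *ᵥ w + w = 0 := hw'
      exact hw w (funext fun i => CharTwo.add_eq_zero.1 (congrFun this i))
    obtain ⟨μ, hμ⟩ := hl
    let e : Fin 8 → Fin 8 → F := fun i => Pi.single i 1
    let u : Fin 8 → F := ![μ (e 7), μ (e 4), μ (e 5), μ (e 6), μ (e 1), μ (e 2), μ (e 3), μ (e 0)]
    have hb : ∀ x, μ x = pol u x := fun x => by
      have hsum : μ x = ∑ i, x i * μ (e i) := by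
        conv_lhs => rw [pi_eq_sum_univ' x]
        simp [map_sum, e]
      rw [hsum, Fin.sum_univ_eight]
      simp only [pol, u]
      simp only [Matrix.cons_val]
      ring
    have hkey : mat g⁻¹ *ᵥ u + u = one8 F := by
      refine pol_sep fun x => ?_
      have e1 : μ (mat g *ᵥ x + x) = tr8 x := LinearMap.congr_fun hμ x
      rw [map_add, hb, hb] at e1
      have e2 : pol (mat g⁻¹ *ᵥ u) x = pol u (mat g *ᵥ x) := by
        conv_lhs => rw [← mat_inv g x]
        rw [mat_pol]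
      rw [pol_add_left, e2, e1]
    have hgu : mat g *ᵥ u = u + one8 F := by
      have := congrArg (mat g *ᵥ ·) hkey
      simp only [mulVec_add, mat_one] at this
      rw [show mat g *ᵥ (mat g⁻¹ *ᵥ u) = u by simpa using mat_inv g⁻¹ u] at this
      funext i
      have := congrFun this i
      simp only [Pi.add_apply] at this ⊢
      linear_combination this - u i * CharTwo.two_eq_zero (R := F)
    refine ⟨u, ?_, Or.inr hgu⟩
    have := (mat_tr_nm g u).2
    rw [hgu] at this
    simp [nm8, one8, CharTwo.sub_eq_add] at this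
    show u 0 + u 7 = 1
    linear_combination this - CharTwo.two_eq_zero (R := F)

/-- The standard octonion with trace one and norm `c`. -/
def z0 (c : F) : Fin 8 → F := ![0, 1, 0, 0, c, 0, 0, 1]

theorem cof_dot (B : Matrix (Fin 3) (Fin 3) F) (hB : B.det = 1) (x y : Fin 3 → F) :
    dot3 (B *ᵥ x) (B.adjugateᵀ *ᵥ y) = dot3 x y := by
  rw [det_fin_three] at hB
  simp [dot3, mulVec, dotProduct, Fin.sum_univ_three, adjugate_fin_three]
  linear_combination (x 0 * y 0 + x 1 * y 1 + x 2 * y 2) * hB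

theorem cof_cross (B : Matrix (Fin 3) (Fin 3) F) (x y : Fin 3 → F) :
    cross3 (B *ᵥ x) (B *ᵥ y) = B.adjugateᵀ *ᵥ cross3 x y := by
  funext i
  fin_cases i <;> simp [cross3, mulVec, dotProduct, Fin.sum_univ_three, adjugate_fin_three] <;> ring

theorem cof_cross' (B : Matrix (Fin 3) (Fin 3) F) (hB : B.det = 1) (x y : Fin 3 → F) :
    cross3 (B.adjugateᵀ *ᵥ x) (B.adjugateᵀ *ᵥ y) = B *ᵥ cross3 x y := by
  rw [cof_cross, ← adjugate_transpose, transpose_transpose, adjugate_adjugate _ (by simp), hB]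
  simp

/-- Build an octonion. -/
def mk8 (a : F) (u v : Fin 3 → F) (b : F) : Fin 8 → F := ![a, u 0, u 1, u 2, v 0, v 1, v 2, b]

theorem zA_mk8 (a : F) (u v : Fin 3 → F) (b : F) : zA F (mk8 a u v b) = u := by
  funext i; fin_cases i <;> simp [mk8]

theorem zB_mk8 (a : F) (u v : Fin 3 → F) (b : F) : zB F (mk8 a u v b) = v := by
  funext i; fin_cases i <;> simp [mk8]

@[simp] theorem mk8_zero (a : F) (u v : Fin 3 → F) (b : F) : mk8 a u v b 0 = a := rfl

@[simp] theorem mk8_seven (a : F) (u v : Fin 3 → F) (b : F) : mk8 a u v b 7 = b := rfl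

theorem zornMul_eq (x y : Fin 8 → F) : zornMul x y = mk8 (x 0 * y 0 + dot3 (zA F x) (zB F y))
    (x 0 • zA F y + y 7 • zA F x - cross3 (zB F x) (zB F y))
    (y 0 • zB F x + x 7 • zB F y + cross3 (zA F x) (zA F y))
    (dot3 (zB F x) (zA F y) + x 7 * y 7) := rfl

theorem exists_sl (B : Matrix (Fin 3) (Fin 3) F) (hB : B.det = 1) :
    ∃ g : ↥(G2 F), ∀ x, mat g *ᵥ x = mk8 (x 0) (B *ᵥ zA F x) (B.adjugateᵀ *ᵥ zB F x) (x 7) := by
  let L : (Fin 8 → F) →ₗ[F] (Fin 8 → F) :=
    { toFun := fun x => mk8 (x 0) (B *ᵥ zA F x) (B.adjugateᵀ *ᵥ zB F x) (x 7)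
      map_add' := fun x y => by
        rw [show zA F (x + y) = zA F x + zA F y by funext i; fin_cases i <;> simp,
          show zB F (x + y) = zB F x + zB F y by funext i; fin_cases i <;> simp, mulVec_add, mulVec_add]
        funext i; fin_cases i <;> simp [mk8]
      map_smul' := fun c x => by
        rw [show zA F (c • x) = c • zA F x by funext i; fin_cases i <;> simp,
          show zB F (c • x) = c • zB F x by funext i; fin_cases i <;> simp, mulVec_smul, mulVec_smul]
        funext i; fin_cases i <;> simp [mk8] }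
  have hinj : Function.Injective L := by
    rw [injective_iff_map_eq_zero]
    intro x hx
    have ha : B *ᵥ zA F x = 0 := by
      rw [← zA_mk8 (x 0) (B *ᵥ zA F x) (B.adjugateᵀ *ᵥ zB F x) (x 7)]
      show zA F (L x) = 0
      rw [hx]; funext j; fin_cases j <;> simp
    have hb : B.adjugateᵀ *ᵥ zB F x = 0 := by
      rw [← zB_mk8 (x 0) (B *ᵥ zA F x) (B.adjugateᵀ *ᵥ zB F x) (x 7)]
      show zB F (L x) = 0
      rw [hx]; funext j; fin_cases j <;> simp
    have ha' : zA F x = 0 := by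
      have := congrArg (fun v => B.adjugate *ᵥ v) ha
      simpa [mulVec_mulVec, adjugate_mul, hB] using this
    have hb' : zB F x = 0 := by
      have := congrArg (fun v => Bᵀ *ᵥ v) hb
      simpa [mulVec_mulVec, ← transpose_mul, adjugate_mul, hB] using this
    funext i
    fin_cases i
    · exact congrFun hx 0
    · exact congrFun ha' 0
    · exact congrFun ha' 1
    · exact congrFun ha' 2
    · exact congrFun hb' 0
    · exact congrFun hb' 1
    · exact congrFun hb' 2
    · exact congrFun hx 7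
  have hu : IsUnit (LinearMap.toMatrix' L) := by
    rw [← Matrix.mulVec_injective_iff_isUnit]
    intro x y h
    exact hinj (by simpa [LinearMap.toMatrix'_mulVec] using h)
  have hmem : hu.unit ∈ G2 F := by
    intro x y
    simp only [Units.coeHom_apply, IsUnit.unit_spec, LinearMap.toMatrix'_mulVec]
    show mk8 _ (B *ᵥ zA F (zornMul x y)) (B.adjugateᵀ *ᵥ zB F (zornMul x y)) _ =
      zornMul (mk8 _ _ _ _) (mk8 _ _ _ _)
    rw [zornMul_eq (mk8 _ _ _ _), zA_mk8, zB_mk8, zA_mk8, zB_mk8, zornMul_eq x y, zA_mk8, zB_mk8,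
      cof_dot B hB, cof_cross' B hB, cof_cross, mulVec_add, mulVec_add, mulVec_sub, mulVec_add,
      mulVec_smul, mulVec_smul, mulVec_smul, mulVec_smul]
    rw [show ∀ u v : Fin 3 → F, dot3 (B.adjugateᵀ *ᵥ u) (B *ᵥ v) = dot3 u v from fun u v => by
      rw [show ∀ p r : Fin 3 → F, dot3 p r = dot3 r p from fun p r => by simp only [dot3]; ring,
        cof_dot B hB, show dot3 v u = dot3 u v by simp only [dot3]; ring]]
    simp [mk8]
  exact ⟨⟨hu.unit, hmem⟩, fun x => LinearMap.toMatrix'_mulVec L x⟩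

theorem exists_pairs {P D : GL (Fin 2) F} (h : GeneralLinearGroup.det P = GeneralLinearGroup.det D) :
    ∃ g : ↥(G2 F), ∀ x, Octonion.zornEquiv F (mat g *ᵥ x) = Octonion.pairLin (P, D) (Octonion.zornEquiv F x) :=
  ⟨Octonion.pairHom F ⟨(P, D), (Octonion.mem_pairs F).2 h⟩, fun x => Octonion.zornEquiv_pairMat _ x⟩

theorem exists_move {z : Fin 8 → F} (ht : tr8 z = 1) : ∃ g : ↥(G2 F), mat g *ᵥ z = z0 (nm8 z) := by
  classical
  have h3 : 2 ≤ Fintype.card (Fin 3) := by simp
  -- arrange `z` in the quaternion block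
  suffices h : ∃ g : ↥(G2 F), ∀ w, mat g *ᵥ z = w → w 2 = 0 ∧ w 3 = 0 ∧ w 5 = 0 ∧ w 6 = 0 by
    obtain ⟨g, hg⟩ := h
    obtain ⟨h2, h3', h5, h6⟩ := hg _ rfl
    obtain ⟨ht', hn'⟩ := mat_tr_nm g z
    set w := mat g *ᵥ z
    have hw : w 0 + w 7 = 1 := ht'.trans ht
    have hc : nm8 z = w 0 * w 7 + w 1 * w 4 := by
      rw [← hn', nm8, h2, h3']; simp [CharTwo.sub_eq_add]
    let X : Matrix (Fin 2) (Fin 2) F := !![w 0, w 1; w 4, w 7]
    obtain ⟨u, hu⟩ : ∃ u : Fin 2 → F,
        u 0 * (u 0 * w 1 + u 1 * w 7) - u 1 * (u 0 * w 0 + u 1 * w 4) ≠ 0 := by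
      by_cases h1 : w 1 = 0
      · by_cases h4 : w 4 = 0
        · refine ⟨![1, 1], ?_⟩
          simp [h1, h4]
          intro e
          exact one_ne_zero (by linear_combination e - hw + w 0 * CharTwo.two_eq_zero (R := F) : (1 : F) = 0)
        · exact ⟨![0, 1], by simp [h4]⟩
      · exact ⟨![1, 0], by simp [h1]⟩
    let Pm : Matrix (Fin 2) (Fin 2) F := !![u 0, u 1; u 0 * w 0 + u 1 * w 4, u 0 * w 1 + u 1 * w 7]
    have hP : Pm.det ≠ 0 := by simpa [Pm, det_fin_two] using hu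
    let P : GL (Fin 2) F := GeneralLinearGroup.mkOfDetNeZero Pm hP
    let D : GL (Fin 2) F := GeneralLinearGroup.mkOfDetNeZero !![Pm.det, 0; 0, 1] (by simpa [det_fin_two] using hP)
    obtain ⟨k, hk⟩ := exists_pairs (P := P) (D := D) (Units.ext (by
      show Pm.det = (!![Pm.det, 0; 0, 1] : Matrix (Fin 2) (Fin 2) F).det
      simp [det_fin_two]))
    refine ⟨k * g, (Octonion.zornEquiv F).injective ?_⟩
    rw [mat_comp, hk]
    have hY : (Octonion.zornEquiv F w).2 = 0 := by
      ext i j; fin_cases i <;> fin_cases j <;> simp [Octonion.zornEquiv, h2, h3', h5, h6]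
    have hX : Pm * X = !![0, 1; nm8 z, 1] * Pm := by
      have two := CharTwo.two_eq_zero (R := F)
      rw [hc]
      ext i j; fin_cases i <;> fin_cases j <;> simp [Pm, X, Matrix.mul_apply, Fin.sum_univ_two]
      · linear_combination (u 0 * w 0 + u 1 * w 4) * hw - u 0 * w 0 * w 7 * two
      · linear_combination (u 0 * w 1 + u 1 * w 7) * hw - u 1 * w 0 * w 7 * two
    refine Prod.ext ?_ ?_
    · show (P : Matrix (Fin 2) (Fin 2) F) * (Octonion.zornEquiv F w).1 * ((P⁻¹ : GL (Fin 2) F) : Matrix (Fin 2) (Fin 2) F) = _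
      rw [show (Octonion.zornEquiv F w).1 = X from rfl, show (P : Matrix (Fin 2) (Fin 2) F) = Pm from rfl, hX,
        Matrix.mul_assoc, show Pm = (P : Matrix (Fin 2) (Fin 2) F) from rfl, ← Units.val_mul, mul_inv_cancel,
        Units.val_one, Matrix.mul_one]
      ext i j; fin_cases i <;> fin_cases j <;> simp [Octonion.zornEquiv, z0]
    · show Octonion.theta _ * (Octonion.zornEquiv F w).2 * Octonion.theta _ = _
      rw [hY]
      ext i j; fin_cases i <;> fin_cases j <;> simp [Octonion.zornEquiv, z0]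
  -- step for vanishing vector `a`
  have step : ∀ v : Fin 8 → F, v 1 = 0 → v 2 = 0 → v 3 = 0 →
      ∃ g : ↥(G2 F), ∀ w, mat g *ᵥ v = w → w 2 = 0 ∧ w 3 = 0 ∧ w 5 = 0 ∧ w 6 = 0 := by
    intro v v1 v2 v3
    by_cases hb : zB F v = 0
    · refine ⟨1, fun w hw => ?_⟩
      rw [← hw]
      have := congrFun hb
      simp [mat, v2, v3]
      exact ⟨this 1, this 2⟩
    · obtain ⟨x, hx⟩ := GL.exists_SL_mulVec_eq h3 hb (w := (![1, 0, 0] : Fin 3 → F)) (by simp)
      let y := x⁻¹
      have e1 : ((y : Matrix (Fin 3) (Fin 3) F)ᵀ).adjugateᵀ = (x : Matrix (Fin 3) (Fin 3) F) := by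
        rw [adjugate_transpose, transpose_transpose, ← Matrix.SpecialLinearGroup.coe_inv, inv_inv]
      obtain ⟨g, hg⟩ := exists_sl ((y : Matrix (Fin 3) (Fin 3) F)ᵀ) (by rw [det_transpose]; exact y.2)
      refine ⟨g, fun w hw => ?_⟩
      have hA : zA F v = 0 := by funext j; fin_cases j <;> assumption
      rw [← hw, hg, e1, hx, hA, mulVec_zero]
      simp [mk8]
  -- general reduction
  by_cases ha : zA F z = 0
  · exact step z (congrFun ha 0) (congrFun ha 1) (congrFun ha 2)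
  obtain ⟨x, hx⟩ := GL.exists_SL_mulVec_eq h3 ha (w := (![1, 0, 0] : Fin 3 → F)) (by simp)
  obtain ⟨g₁, hg₁⟩ := exists_sl (x : Matrix (Fin 3) (Fin 3) F) x.2
  set v := mat g₁ *ᵥ z with hv
  have v1 : v 1 = 1 := by rw [hv, hg₁, hx]; simp [mk8]
  have v2 : v 2 = 0 := by rw [hv, hg₁, hx]; simp [mk8]
  have v3 : v 3 = 0 := by rw [hv, hg₁, hx]; simp [mk8]
  by_cases h4 : v 4 = 0
  · have htv : v 0 + v 7 = 1 := ((mat_tr_nm g₁ z).1).trans ht
    let P : GL (Fin 2) F := GeneralLinearGroup.mkOfDetNeZero !![1, 1; 0, 1] (by simp [det_fin_two])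
    obtain ⟨g₂, hg₂⟩ := exists_pairs (P := P) (D := 1) (Units.ext (by
      show (!![1, 1; 0, 1] : Matrix (Fin 2) (Fin 2) F).det = _
      simp [det_fin_two]))
    have hPinv : ((P⁻¹ : GL (Fin 2) F) : Matrix (Fin 2) (Fin 2) F) = !![1, 1; 0, 1] := by
      rw [Matrix.coe_units_inv]
      refine Matrix.inv_eq_right_inv ?_
      show (!![1, 1; 0, 1] : Matrix (Fin 2) (Fin 2) F) * !![1, 1; 0, 1] = 1
      simp [CharTwo.two_eq_zero, one_add_one_eq_two, Matrix.one_fin_two]
    set v' := mat g₂ *ᵥ v with hv'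
    have e := hg₂ v
    rw [← hv'] at e
    have eX := congrArg Prod.fst e
    have eY := congrArg Prod.snd e
    simp only [Octonion.pairLin, LinearMap.coe_mk, AddHom.coe_mk, hPinv] at eX eY
    rw [show (P : Matrix (Fin 2) (Fin 2) F) = !![1, 1; 0, 1] from rfl] at eX
    have w1 : v' 1 = 0 := by
      have := congrFun (congrFun eX 0) 1
      simp [Octonion.zornEquiv, Matrix.mul_apply, Fin.sum_univ_two, v1, h4] at this
      rw [this]
      linear_combination htv + CharTwo.two_eq_zero (R := F)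
    have w2 : v' 2 = 0 := by
      have := congrFun (congrFun eY 0) 0
      simp [Octonion.zornEquiv, Octonion.theta, Matrix.mul_apply, Fin.sum_univ_two, v2, v3] at this
      exact this
    have w3 : v' 3 = 0 := by
      have := congrFun (congrFun eY 0) 1
      simp [Octonion.zornEquiv, Octonion.theta, Matrix.mul_apply, Fin.sum_univ_two, v2, v3] at this
      exact this
    obtain ⟨g₃, hg₃⟩ := step v' w1 w2 w3
    refine ⟨g₃ * (g₂ * g₁), fun w hw => hg₃ w ?_⟩
    rw [← hw, mat_comp, mat_comp]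
  · let B : Matrix (Fin 3) (Fin 3) F := !![1, v 5 / v 4, v 6 / v 4; 0, 1, 0; 0, 0, 1]
    obtain ⟨g₂, hg₂⟩ := exists_sl B (by simp [B, det_fin_three])
    refine ⟨g₂ * g₁, fun w hw => ?_⟩
    rw [← hw, mat_comp, ← hv, hg₂]
    simp [mk8, B, v1, v2, v3, adjugate_fin_three]
    refine ⟨?_, ?_⟩ <;> (simp [mulVec, dotProduct, Fin.sum_univ_three]; field_simp; ring_nf)

theorem pairStab_z0_ne_top (c : F) : pairStab (z0 c) ≠ ⊤ := by
  intro e
  obtain ⟨g, hg⟩ := exists_sl (!![0, 1, 0; 1, 0, 0; 0, 0, 1] : Matrix (Fin 3) (Fin 3) F)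
    (by simp [det_fin_three, CharTwo.neg_eq])
  rcases (e ▸ Subgroup.mem_top g : g ∈ pairStab (z0 c)) with h | h <;>
  · rw [hg] at h
    have := congrFun h 2
    simp [mk8, z0, one8] at this

theorem cover [Fintype F] :
    ∃ H K : Subgroup ↥(G2 F), H ≠ ⊤ ∧ K ≠ ⊤ ∧
      ∀ g : ↥(G2 F), ∃ x : ↥(G2 F), x * g * x⁻¹ ∈ H ∨ x * g * x⁻¹ ∈ K := by
  classical
  let φ : F →+ F := AddMonoidHom.mk' (fun a => a * a + a) fun a b => by
    linear_combination a * b * CharTwo.two_eq_zero (R := F)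
  have hidx : φ.range.index = 2 := by
    have hk : Nat.card φ.ker = 2 := by
      have e : (φ.ker : Set F) = {0, 1} := by
        ext a
        show a * a + a = 0 ↔ a = 0 ∨ a = 1
        constructor
        · intro h
          have h' : a * (a + 1) = 0 := by linear_combination h
          exact (mul_eq_zero.1 h').imp id CharTwo.add_eq_zero.1
        · rintro (rfl | rfl) <;> simp [CharTwo.add_self_eq_zero]
      show Nat.card ((φ.ker : Set F)) = 2
      rw [e, Nat.card_eq_fintype_card]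
      simp
    have h1 := φ.range.index_mul_card
    have h2 := φ.ker.index_mul_card
    rw [AddSubgroup.index_ker, hk] at h2
    have hpos : 0 < Nat.card φ.range := Nat.card_pos
    have : φ.range.index * Nat.card φ.range = 2 * Nat.card φ.range := by rw [h1, ← h2]; ring
    exact Nat.eq_of_mul_eq_mul_right hpos this
  obtain ⟨c₀, hc₀⟩ : ∃ c, c ∉ φ.range := by
    by_contra! h
    rw [show φ.range = ⊤ from eq_top_iff.2 fun a _ => h a, AddSubgroup.index_top] at hidx
    norm_num at hidx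
  refine ⟨pairStab (z0 0), pairStab (z0 c₀), pairStab_z0_ne_top 0, pairStab_z0_ne_top c₀, fun g => ?_⟩
  obtain ⟨z, hz, hg⟩ := exists_pair g
  -- shift `z` to a standard norm
  have key : ∀ c, nm8 z + c ∈ φ.range → ∃ x, x * g * x⁻¹ ∈ pairStab (z0 c) := by
    rintro c ⟨l, hl⟩
    have hl : l * l + l = nm8 z + c := hl
    let z' := z + l • one8 F
    have ht' : tr8 z' = 1 := by
      simp only [z', tr8, Pi.add_apply, Pi.smul_apply, smul_eq_mul]
      simp [one8]
      have hz' : z 0 + z 7 = 1 := hz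
      linear_combination hz' + l * CharTwo.two_eq_zero (R := F)
    have hn' : nm8 z' = c := by
      simp only [z', nm8, Pi.add_apply, Pi.smul_apply, smul_eq_mul]
      simp [one8]
      have hz' : z 0 + z 7 = 1 := hz
      simp only [nm8] at hl
      linear_combination hl + l * hz' + (z 0 * z 7 - z 1 * z 4 - z 2 * z 5 - z 3 * z 6) * CharTwo.two_eq_zero (R := F)
    obtain ⟨x, hx⟩ := exists_move ht'
    rw [hn'] at hx
    refine ⟨x, ?_⟩
    have hg' : mat g *ᵥ z' = z' ∨ mat g *ᵥ z' = z' + one8 F := by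
      rcases hg with h | h
      · left; rw [mulVec_add, mulVec_smul, mat_one, h]
      · right; show _ = z + l • one8 F + one8 F; rw [mulVec_add, mulVec_smul, mat_one, h]; abel
    have hxi : mat x⁻¹ *ᵥ z0 c = z' := by rw [← hx, mat_inv]
    rcases hg' with h | h
    · left; rw [mat_comp, mat_comp, hxi, h, hx]
    · right; rw [mat_comp, mat_comp, hxi, h, mulVec_add, hx, mat_one]
  by_cases hn : nm8 z ∈ φ.range
  · obtain ⟨x, hx⟩ := key 0 (by rwa [add_zero])
    exact ⟨x, Or.inl hx⟩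
  · obtain ⟨x, hx⟩ := key c₀ ((AddSubgroup.add_mem_iff_of_index_two hidx).2 (iff_of_false hn hc₀))
    exact ⟨x, Or.inr hx⟩

end Cfsg.Agent.NormalCover.GTwo
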