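import Cfsg.Agent.Lib.GL.Action
import Cfsg.Agent.Lib.NormalCover.Alg
import Cfsg.Agent.Lib.NormalCover.Basic

/-!
`PSL₂`, `PSL₃` and `PSL₄`: a point stabiliser and the centralizer of an extension field.
-/

set_option autoImplicit false

namespace Cfsg.Agent.NormalCover

open Polynomial Matrix

variable {F : Type*} [Field F] {n : ℕ}

/-- The stabiliser of a line. -/
def lineStab (v : Fin n → F) (hv : v ≠ 0) : Subgroup (Matrix.SpecialLinearGroup (Fin n) F) where
  carrier := {g | ∃ c : F, (g : Matrix (Fin n) (Fin n) F) *ᵥ v = c • v}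
  one_mem' := ⟨1, by simp⟩
  mul_mem' := by
    rintro a b ⟨c, hc⟩ ⟨d, hd⟩
    exact ⟨d * c, by rw [Matrix.SpecialLinearGroup.coe_mul, ← mulVec_mulVec, hd, mulVec_smul, hc, smul_smul]⟩
  inv_mem' := by
    rintro a ⟨c, hc⟩
    have h1 : (↑(a⁻¹) : Matrix (Fin n) (Fin n) F) *ᵥ ((a : Matrix (Fin n) (Fin n) F) *ᵥ v) = v := by
      rw [mulVec_mulVec, ← Matrix.SpecialLinearGroup.coe_mul, inv_mul_cancel, Matrix.SpecialLinearGroup.coe_one, one_mulVec]
    rw [hc, mulVec_smul] at h1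
    have hc0 : c ≠ 0 := fun e => hv (by rw [← h1, e, zero_smul])
    exact ⟨c⁻¹, by rw [eq_inv_smul_iff₀ hc0]; exact h1⟩

/-- The centralizer of a matrix. -/
def matCent (J : Matrix (Fin n) (Fin n) F) : Subgroup (Matrix.SpecialLinearGroup (Fin n) F) where
  carrier := {g | Commute (g : Matrix (Fin n) (Fin n) F) J}
  one_mem' := by simp
  mul_mem' := by
    intro a b ha hb
    show Commute (↑(a * b) : Matrix (Fin n) (Fin n) F) J
    rw [Matrix.SpecialLinearGroup.coe_mul]
    exact ha.mul_left hb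
  inv_mem' := by
    intro a ha
    show Commute (↑(a⁻¹) : Matrix (Fin n) (Fin n) F) J
    exact (ha.units_inv_left (u := Matrix.SpecialLinearGroup.toGL a) :)

variable [Fintype F]

theorem psl_cover {r : ℕ} (hr : 2 ≤ r) (hn : 2 ≤ n) (hrn : r ∣ n)
    (hd : ∀ d, 2 ≤ d → d ≤ n → d + 1 ≠ n → r ∣ d) :
    ∃ H K : Subgroup (Matrix.ProjectiveSpecialLinearGroup (Fin n) F), H ≠ ⊤ ∧ K ≠ ⊤ ∧
      ∀ g : Matrix.ProjectiveSpecialLinearGroup (Fin n) F, ∃ x : Matrix.ProjectiveSpecialLinearGroup (Fin n) F,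
        x * g * x⁻¹ ∈ H ∨ x * g * x⁻¹ ∈ K := by
  classical
  obtain ⟨h, -, hirr, hdeg⟩ := exists_irreducible (F := F) (show 0 < r by omega)
  have hN : Module.finrank F (Fin n → F) = n := Module.finrank_fin_fun F
  obtain ⟨b, hb⟩ := exists_root_end (V := Fin n → F) hirr (by rw [hN, hdeg]; exact hrn)
  set J : Matrix (Fin n) (Fin n) F := LinearMap.toMatrix' b with hJ
  let e₀ : Fin n → F := Pi.single ⟨0, by omega⟩ 1
  let e₁ : Fin n → F := Pi.single ⟨1, by omega⟩ 1
  have he₀ : e₀ ≠ 0 := by simp [e₀]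
  have he₁ : e₁ ≠ 0 := by simp [e₁]
  have : Nontrivial (Fin n → F) := ⟨⟨e₀, 0, he₀⟩⟩
  have hcard : 2 ≤ Fintype.card (Fin n) := by simpa using hn
  refine exists_cover_quotient (H := lineStab e₀ he₀) (K := matCent J) ?_ ?_ ?_ ?_ ?_
  · intro e
    obtain ⟨x, hx⟩ := GL.exists_SL_mulVec_eq hcard he₀ he₁
    obtain ⟨c, hc⟩ : x ∈ lineStab e₀ he₀ := e ▸ Subgroup.mem_top x
    have h1 := congrFun (hx.symm.trans hc) ⟨1, by omega⟩
    simp [e₀, e₁] at h1
  · intro e
    have hcomm : ∀ t : TransvectionStruct (Fin n) F, Commute t.toMatrix J := fun t => by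
      let u : Matrix.SpecialLinearGroup (Fin n) F := ⟨t.toMatrix, t.det⟩
      have h1 : u ∈ matCent J := e ▸ Subgroup.mem_top u
      exact h1
    obtain ⟨c, hc⟩ := mem_range_scalar_of_commute_transvectionStruct hcomm
    have hb' : b = algebraMap F (Module.End F (Fin n → F)) c := by
      refine LinearMap.ext fun v => ?_
      have e1 : b v = J *ᵥ v := by rw [hJ, LinearMap.toMatrix'_mulVec]
      rw [e1, ← hc]
      ext i
      simp [mulVec_diagonal]
    rw [hb', aeval_algebraMap_apply, ← map_zero (algebraMap F (Module.End F (Fin n → F)))] at hb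
    have hroot : h.IsRoot c := by
      simpa using (algebraMap F (Module.End F (Fin n → F))).injective hb
    have := degree_eq_one_of_irreducible_of_root hirr hroot
    rw [degree_eq_natDegree hirr.ne_zero] at this
    norm_cast at this
    omega
  · intro z hz
    obtain ⟨c, -, hc⟩ := Matrix.SpecialLinearGroup.mem_center_iff.1 hz
    exact ⟨c, by rw [← hc, scalar_apply]; ext i; simp [mulVec_diagonal]⟩
  · intro z hz
    obtain ⟨c, -, hc⟩ := Matrix.SpecialLinearGroup.mem_center_iff.1 hz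
    show Commute (z : Matrix (Fin n) (Fin n) F) J
    rw [← hc]
    exact scalar_commute _ (fun _ => Commute.all _ _) _
  intro g
  set M : Matrix (Fin n) (Fin n) F := (g : Matrix (Fin n) (Fin n) F)
  by_cases hroot : ∃ c, M.charpoly.IsRoot c
  · obtain ⟨c, hc⟩ := hroot
    rw [IsRoot.def, eval_charpoly] at hc
    obtain ⟨v, hv, hv'⟩ := exists_mulVec_eq_zero_iff.2 hc
    have hgv : M *ᵥ v = c • v := by
      rw [sub_mulVec, sub_eq_zero] at hv'
      rw [← hv']
      ext i
      simp [mulVec_diagonal]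
    obtain ⟨x, hx⟩ := GL.exists_SL_mulVec_eq hcard hv he₀
    refine ⟨x, Or.inl ⟨c, ?_⟩⟩
    have hix : (↑(x⁻¹) : Matrix (Fin n) (Fin n) F) * (x : Matrix (Fin n) (Fin n) F) = 1 := by
      rw [← Matrix.SpecialLinearGroup.coe_mul, inv_mul_cancel, Matrix.SpecialLinearGroup.coe_one]
    rw [Matrix.SpecialLinearGroup.coe_mul, Matrix.SpecialLinearGroup.coe_mul, ← hx, mulVec_mulVec, Matrix.mul_assoc,
      hix, Matrix.mul_one, ← mulVec_mulVec, hgv, mulVec_smul]
  · push Not at hroot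
    have hf : M.charpoly.natDegree = n := by rw [charpoly_natDegree_eq_dim]; simp
    have hf0 : M.charpoly.Monic := charpoly_monic M
    have : Finite (AdjoinRoot M.charpoly) :=
      have := hf0.finite_adjoinRoot
      Module.finite_of_finite F
    obtain ⟨a, ha⟩ := exists_root (x := AdjoinRoot.root M.charpoly) (AdjoinRoot.eval₂_root _) hirr
      fun π hπ hπi hπd => by
        rw [hdeg]
        have h1 : 1 ≤ π.natDegree := hπi.natDegree_pos
        have h2 : π.natDegree ≤ n := hf ▸ natDegree_le_of_dvd hπd hf0.ne_zero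
        have h3 : ∀ τ : F[X], τ ∣ M.charpoly → τ.natDegree ≠ 1 := fun τ hτ e => by
          obtain ⟨c, hc⟩ := exists_root_of_degree_eq_one
            ((degree_eq_iff_natDegree_eq_of_pos one_pos).2 e)
          exact hroot c (hc.dvd hτ)
        refine hd _ (by have := h3 π hπd; omega) h2 fun e => ?_
        obtain ⟨τ, hτ⟩ := hπd
        refine h3 τ ⟨π, by rw [hτ, mul_comm]⟩ ?_
        have hτ0 : τ ≠ 0 := fun e0 => hf0.ne_zero (by rw [hτ, e0, mul_zero])
        have := congrArg natDegree hτ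
        rw [natDegree_mul hπi.ne_zero hτ0, hf] at this
        omega
    obtain ⟨p, rfl⟩ := AdjoinRoot.mk_surjective a
    let P : Matrix (Fin n) (Fin n) F := aeval M p
    have hP : aeval (Matrix.toLinAlgEquiv' P) h = 0 := by
      have e1 : M.charpoly ∣ h.comp p := by
        rw [← AdjoinRoot.mk_eq_zero, comp_eq_aeval, ← ha]
        exact (aeval_algHom_apply (AdjoinRoot.mkₐ M.charpoly) p h).symm
      obtain ⟨τ, hτ⟩ := e1
      rw [show Matrix.toLinAlgEquiv' P = (Matrix.toLinAlgEquiv' : Matrix (Fin n) (Fin n) F ≃ₐ[F] _).toAlgHom P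
        from rfl, aeval_algHom_apply, ← aeval_comp, hτ, map_mul, aeval_self_charpoly, zero_mul, map_zero]
    obtain ⟨φ, hφ⟩ := exists_equiv_of_root rfl hirr hP hb
    have hdet : LinearMap.det (φ : (Fin n → F) →ₗ[F] (Fin n → F)) ≠ 0 :=
      (LinearEquiv.isUnit_det' φ).ne_zero
    obtain ⟨ψ, hψ, hψd⟩ := exists_commute_det hirr hb (inv_ne_zero hdet)
    let x : Matrix.SpecialLinearGroup (Fin n) F := ⟨LinearMap.toMatrix' (φ.trans ψ : (Fin n → F) →ₗ[F] (Fin n → F)),
      by rw [LinearMap.det_toMatrix', LinearEquiv.coe_trans, LinearMap.det_comp, hψd,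
        inv_mul_cancel₀ hdet]⟩
    refine ⟨x, Or.inr ?_⟩
    have hxP : (x : Matrix (Fin n) (Fin n) F) * P = J * (x : Matrix (Fin n) (Fin n) F) := by
      refine Matrix.ext_iff_mulVec.2 fun v => ?_
      have e1 := hφ v
      rw [show Matrix.toLinAlgEquiv' P v = P *ᵥ v from rfl] at e1
      simp only [x, ← mulVec_mulVec, LinearMap.toMatrix'_mulVec, hJ]
      show ψ (φ (P *ᵥ v)) = b (ψ (φ v))
      rw [e1, hψ]
    have hMP : M * P = P * M := Algebra.commute_of_mem_adjoin_self (aeval_mem_adjoin_singleton F M)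
    show Commute (↑(x * g * x⁻¹) : Matrix (Fin n) (Fin n) F) J
    have hxi : (x : Matrix (Fin n) (Fin n) F) * (↑(x⁻¹) : Matrix (Fin n) (Fin n) F) = 1 := by
      rw [← Matrix.SpecialLinearGroup.coe_mul, mul_inv_cancel, Matrix.SpecialLinearGroup.coe_one]
    have hix : (↑(x⁻¹) : Matrix (Fin n) (Fin n) F) * (x : Matrix (Fin n) (Fin n) F) = 1 := by
      rw [← Matrix.SpecialLinearGroup.coe_mul, inv_mul_cancel, Matrix.SpecialLinearGroup.coe_one]
    have hJ' : J = (x : Matrix (Fin n) (Fin n) F) * P * (↑(x⁻¹) : Matrix (Fin n) (Fin n) F) := by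
      rw [hxP, Matrix.mul_assoc, hxi, Matrix.mul_one]
    rw [Matrix.SpecialLinearGroup.coe_mul, Matrix.SpecialLinearGroup.coe_mul, hJ', commute_iff_eq]
    calc (x : Matrix (Fin n) (Fin n) F) * M * ↑(x⁻¹) * ((x : Matrix (Fin n) (Fin n) F) * P * ↑(x⁻¹))
        = x * M * (↑(x⁻¹) * x) * P * ↑(x⁻¹) := by simp only [Matrix.mul_assoc]
      _ = x * (M * P) * ↑(x⁻¹) := by rw [hix, Matrix.mul_one, Matrix.mul_assoc (x : Matrix (Fin n) (Fin n) F)]
      _ = x * P * (↑(x⁻¹) * x) * M * ↑(x⁻¹) := by rw [hix, Matrix.mul_one, hMP, ← Matrix.mul_assoc (x : Matrix (Fin n) (Fin n) F)]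
      _ = (x : Matrix (Fin n) (Fin n) F) * P * ↑(x⁻¹) * ((x : Matrix (Fin n) (Fin n) F) * M * ↑(x⁻¹)) := by
          simp only [Matrix.mul_assoc]

end Cfsg.Agent.NormalCover
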