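import Cfsg.Agent.Lib.NormalCover.Alg

/-!
Normalizers of the field generated by an endomorphism killed by an irreducible cubic.
-/

set_option autoImplicit false

namespace Cfsg.Agent.NormalCover

open Polynomial

variable {F : Type*} [Field F] [Fintype F] {ι : Type*} [Fintype ι] [DecidableEq ι]
variable {G : Type*} [Group G] (ρ : G →* Matrix ι ι F)

/-- Conjugation as an algebra endomorphism. -/
noncomputable def conjAlg (g : G) : Matrix ι ι F →ₐ[F] Matrix ι ι F :=
  (MulSemiringAction.toAlgHom F (Matrix ι ι F)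
    (ConjAct.toConjAct (ρ.toHomUnits g) : ConjAct (Matrix ι ι F)ˣ) :)

omit [Fintype F] in
theorem conjAlg_apply (g : G) (a : Matrix ι ι F) : conjAlg ρ g a = ρ g * a * ρ g⁻¹ := by
  show ((ConjAct.toConjAct (ρ.toHomUnits g) : ConjAct (Matrix ι ι F)ˣ)) • a = _
  rw [ConjAct.units_smul_def, ConjAct.ofConjAct_toConjAct, ← map_inv ρ.toHomUnits]
  rfl

omit [Fintype F] in
theorem conjAlg_mul (g g' : G) (a : Matrix ι ι F) : conjAlg ρ (g * g') a = conjAlg ρ g (conjAlg ρ g' a) := by
  rw [conjAlg_apply, conjAlg_apply, conjAlg_apply, mul_inv_rev, map_mul, map_mul]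
  simp only [mul_assoc]

omit [Fintype F] in
theorem conjAlg_inv (g : G) (a : Matrix ι ι F) : conjAlg ρ g⁻¹ (conjAlg ρ g a) = a := by
  rw [← conjAlg_mul, inv_mul_cancel]; simp [conjAlg_apply]

omit [Fintype F] in
/-- The normalizer of `F[b]`. -/
noncomputable def algNorm (b : Matrix ι ι F) : Subgroup G where
  carrier := {g | ∀ a, conjAlg ρ g a ∈ Algebra.adjoin F {b} ↔ a ∈ Algebra.adjoin F {b}}
  one_mem' := fun a => by simp [conjAlg_apply]
  mul_mem' {x y} hx hy := fun a => by rw [conjAlg_mul, hx, hy]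
  inv_mem' {x} hx := fun a => by
    rw [← hx (conjAlg ρ x⁻¹ a)]
    have := conjAlg_inv ρ x⁻¹ a
    rw [inv_inv] at this
    rw [this]

theorem mem_algNorm {b : Matrix ι ι F} {g : G} (h : conjAlg ρ g b ∈ Algebra.adjoin F {b}) :
    g ∈ algNorm ρ b := by
  have hle : ∀ a ∈ Algebra.adjoin F {b}, conjAlg ρ g a ∈ Algebra.adjoin F {b} := by
    intro a ha
    have : conjAlg ρ g a ∈ (Algebra.adjoin F {b}).map (conjAlg ρ g) := ⟨a, ha, rfl⟩
    rw [AlgHom.map_adjoin, Set.image_singleton] at this
    exact Algebra.adjoin_le (Set.singleton_subset_iff.2 h) this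
  let f : Algebra.adjoin F {b} → Algebra.adjoin F {b} := fun a => ⟨_, hle a a.2⟩
  have hf : Function.Surjective f := by
    refine Finite.injective_iff_surjective.1 fun x y e => Subtype.ext ?_
    have := congrArg (fun z : Algebra.adjoin F {b} => conjAlg ρ g⁻¹ z.1) e
    simpa [f, conjAlg_inv] using this
  refine fun a => ⟨fun ha => ?_, hle a⟩
  obtain ⟨c, hc⟩ := hf ⟨_, ha⟩
  have := congrArg (fun z : Algebra.adjoin F {b} => conjAlg ρ g⁻¹ z.1) hc
  simp only [f, conjAlg_inv] at this
  exact this ▸ c.2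

/-- Transport. -/
theorem conj_mem_algNorm {b J : Matrix ι ι F} {x g : G} (hx : conjAlg ρ x J = b)
    (hg : conjAlg ρ g J ∈ Algebra.adjoin F {J}) : x * g * x⁻¹ ∈ algNorm ρ b := by
  refine mem_algNorm ρ ?_
  rw [conjAlg_mul, conjAlg_mul, show conjAlg ρ x⁻¹ b = J by rw [← hx, conjAlg_inv]]
  have : conjAlg ρ x (conjAlg ρ g J) ∈ (Algebra.adjoin F {J}).map (conjAlg ρ x) := ⟨_, hg, rfl⟩
  rwa [AlgHom.map_adjoin, Set.image_singleton, hx] at this

theorem commute_mem_algNorm {b : Matrix ι ι F} {g : G} (h : Commute (ρ g) b) : g ∈ algNorm ρ b := by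
  refine mem_algNorm ρ ?_
  rw [conjAlg_apply, h.eq, mul_assoc, ← map_mul, mul_inv_cancel, map_one, mul_one]
  exact Algebra.self_mem_adjoin_singleton F b

omit [Fintype F] in
/-- An element `1 + c ⊗ f` does not normalize `F[b]`. -/
theorem not_mem_algNorm {b : Matrix ι ι F} {h : F[X]} (hirr : Irreducible h) (hd : 3 ≤ h.natDegree)
    (hb : aeval b h = 0) {g : G} {c : ι → F} {f : (ι → F) →ₗ[F] F} (hc : c ≠ 0) (hf : f ≠ 0)
    (hg : ∀ v, Matrix.mulVec (ρ g) v = v + f v • c) : g ∉ algNorm ρ b := by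
  classical
  intro hmem
  have key : ∀ (p : F[X]) (y : ι → F), Matrix.mulVec (aeval b p) y = 0 → y ≠ 0 → h ∣ p := by
    intro p y hp hy
    by_contra hnd
    obtain ⟨s, t, hst⟩ := hirr.coprime_iff_not_dvd.2 hnd
    refine hy ?_
    have := congrArg (fun m : F[X] => Matrix.mulVec (aeval b m) y) hst
    simp only [map_add, map_mul, hb, mul_zero, zero_add, map_one, Matrix.one_mulVec,
      ← Matrix.mulVec_mulVec, hp, Matrix.mulVec_zero] at this
    exact this.symm
  set d := conjAlg ρ g b - b with hddef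
  have hda : d ∈ Algebra.adjoin F {b} :=
    Subalgebra.sub_mem _ ((hmem b).2 (Algebra.self_mem_adjoin_singleton F b)) (Algebra.self_mem_adjoin_singleton F b)
  have hdb : ∀ v, Matrix.mulVec b (Matrix.mulVec d v) = Matrix.mulVec d (Matrix.mulVec b v) := fun v => by
    rw [Matrix.mulVec_mulVec, Matrix.mulVec_mulVec, (Algebra.commute_of_mem_adjoin_self hda).eq]
  set W := Submodule.span F ({c, Matrix.mulVec b c} : Set (ι → F))
  have hdW : ∀ v, Matrix.mulVec d v ∈ W := by
    intro v
    set w := Matrix.mulVec (ρ g⁻¹) v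
    have hw : v = w + f w • c := by
      rw [← hg w, Matrix.mulVec_mulVec, ← map_mul, mul_inv_cancel, map_one, Matrix.one_mulVec]
    have e : Matrix.mulVec d v = f (Matrix.mulVec b w) • c + (-f w) • Matrix.mulVec b c := by
      rw [hddef, Matrix.sub_mulVec, conjAlg_apply, ← Matrix.mulVec_mulVec, ← Matrix.mulVec_mulVec, hg]
      conv_lhs => arg 2; rw [hw, Matrix.mulVec_add, Matrix.mulVec_smul]
      module
    rw [e]
    exact Submodule.add_mem _ (Submodule.smul_mem _ _ (Submodule.subset_span (by simp)))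
      (Submodule.smul_mem _ _ (Submodule.subset_span (by simp)))
  by_cases hd0 : ∀ v, Matrix.mulVec d v = 0
  · obtain ⟨w₀, hw₀⟩ : ∃ w, f w ≠ 0 := by
      by_contra! hcon
      exact hf (LinearMap.ext hcon)
    have e := hd0 (Matrix.mulVec (ρ g) w₀)
    rw [hddef, Matrix.sub_mulVec, conjAlg_apply, ← Matrix.mulVec_mulVec, ← Matrix.mulVec_mulVec,
      Matrix.mulVec_mulVec w₀ (ρ g⁻¹), ← map_mul, inv_mul_cancel, map_one, Matrix.one_mulVec, hg, hg,
      Matrix.mulVec_add, Matrix.mulVec_smul, sub_eq_zero, add_right_inj] at e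
    have := key (X - C ((f w₀)⁻¹ * f (Matrix.mulVec b w₀))) c (by
      rw [map_sub, aeval_X, aeval_C, Matrix.sub_mulVec, Algebra.algebraMap_eq_smul_one, Matrix.smul_mulVec,
        Matrix.one_mulVec, ← smul_smul, e, smul_smul, inv_mul_cancel₀ hw₀, one_smul, sub_self]) hc
    have := natDegree_le_of_dvd this (X_sub_C_ne_zero _)
    rw [natDegree_X_sub_C] at this
    omega
  · push Not at hd0
    obtain ⟨v, hv⟩ := hd0
    set y := Matrix.mulVec d v
    let z : Fin 3 → W := fun i => ⟨Matrix.mulVec (b ^ i.1) y, by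
      obtain ⟨i, -⟩ := i
      show Matrix.mulVec (b ^ i) (Matrix.mulVec d v) ∈ W
      induction i generalizing v with
      | zero => simpa using hdW v
      | succ i ih =>
        rw [pow_succ, ← Matrix.mulVec_mulVec, hdb]
        by_cases h0 : Matrix.mulVec d (Matrix.mulVec b v) = 0
        · rw [h0, Matrix.mulVec_zero]; exact W.zero_mem
        · exact ih _ h0 (by omega)⟩
    have hli : ¬ LinearIndependent F z := fun hl => by
      have h1 := hl.fintype_card_le_finrank
      have h2 : Module.finrank F W ≤ 2 :=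
        (finrank_span_le_card _).trans (by rw [Set.toFinset_insert, Set.toFinset_singleton]; exact Finset.card_le_two)
      rw [Fintype.card_fin] at h1
      omega
    obtain ⟨a, ha, i, hi⟩ := Fintype.not_linearIndependent_iff.1 hli
    let p : F[X] := ∑ j : Fin 3, C (a j) * X ^ j.1
    have hp : Matrix.mulVec (aeval b p) y = 0 := by
      have := congrArg Subtype.val ha
      simp only [Submodule.coe_sum, Submodule.coe_smul, z, ZeroMemClass.coe_zero] at this
      rw [← this]
      simp only [p, map_sum, map_mul, aeval_C, map_pow, aeval_X, Matrix.sum_mulVec,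
        Algebra.algebraMap_eq_smul_one, smul_mul_assoc, one_mul, Matrix.smul_mulVec]
    have hp0 := eq_zero_of_dvd_of_natDegree_lt (key p y hp hv) (lt_of_le_of_lt
      (natDegree_sum_le_of_forall_le (n := 2) _ _ fun j _ => (natDegree_C_mul_X_pow_le _ _).trans (by omega))
      (by omega))
    refine hi ?_
    have := congrArg (fun f => coeff f i.1) hp0
    simpa [p, finsetSum_coeff, coeff_X_pow, Fin.val_inj] using this

end Cfsg.Agent.NormalCover
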