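import Cfsg.Agent.Lib.Forms.Herm
import Cfsg.Agent.Lib.NormalCover.Alg

/-!
Irreducible factors of unitary transformations on nondegenerate cyclic subspaces have odd degree.
-/

set_option autoImplicit false

namespace Cfsg.Agent.NormalCover

open Polynomial Forms

variable {F : Type*} [Field F] [Fintype F] {q : ℕ} (hF : Fintype.card F = q ^ 2)

include hF in
theorem frob_poly (p : F[X]) : p ^ q = (p.map (qEnd hF)).comp (X ^ q) := by
  obtain ⟨p₀, k, hp₀, hchar, hq⟩ := exists_prime_pow_q hF
  have : Fact p₀.Prime := ⟨hp₀⟩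
  induction p using Polynomial.induction_on with
  | C a => rw [map_C, C_comp, qEnd_apply, C_pow]
  | add f g ihf ihg =>
    rw [Polynomial.map_add, add_comp, ← ihf, ← ihg]
    subst hq
    exact add_pow_char_pow f g p₀ k
  | monomial n a _ =>
    rw [Polynomial.map_mul, Polynomial.map_pow, map_C, map_X, mul_comp, C_comp, pow_comp, X_comp, qEnd_apply,
      mul_pow, C_pow, ← pow_mul, ← pow_mul, mul_comm q]

section Roots

variable {E : Type*} [Field E] [Finite E] [Algebra F E] {π : F[X]} (hm : π.Monic) (hirr : Irreducible π)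
  {r : E} (hr : aeval r π = 0)

include hF in
omit [Finite E] in
theorem pow_q_injective : Function.Injective fun x : E => x ^ q := by
  obtain ⟨p₀, k, hp₀, hchar, hq⟩ := exists_prime_pow_q hF
  have : Fact p₀.Prime := ⟨hp₀⟩
  have : CharP E p₀ := charP_of_injective_algebraMap (algebraMap F E).injective p₀
  subst hq
  exact (iterateFrobenius E p₀ k).injective

include hF in
omit [Finite E] in
theorem pow_Q_pow_injective (i : ℕ) : Function.Injective fun x : E => x ^ (q ^ 2) ^ i := by
  induction i with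
  | zero => intro a b h; simpa using h
  | succ i ih =>
    intro a b h
    simp only [pow_succ, pow_mul] at h
    refine ih (pow_q_injective hF (pow_q_injective hF ?_))
    simpa [← pow_mul, pow_two, pow_succ] using h

include hm hirr hr hF in
theorem period (n : ℕ) : r ^ (q ^ 2) ^ n = r ↔ π.natDegree ∣ n := by
  have : Finite F := inferInstance
  rw [hirr.natDegree_dvd_iff_dvd_X_pow_card_pow_sub_X,
    minpoly.eq_of_irreducible_of_monic hirr hr hm, minpoly.dvd_iff, Nat.card_eq_fintype_card, hF]
  simp [sub_eq_zero]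

include hm hirr hr hF in
theorem pow_eq_pow_iff (a b : ℕ) : r ^ (q ^ 2) ^ a = r ^ (q ^ 2) ^ b ↔ a ≡ b [MOD π.natDegree] := by
  wlog hab : a ≤ b generalizing a b
  · exact eq_comm.trans ((this b a (le_of_not_ge hab)).trans Nat.ModEq.comm)
  obtain ⟨c, rfl⟩ := Nat.exists_eq_add_of_le hab
  rw [Nat.modEq_iff_dvd' hab, Nat.add_sub_cancel_left, ← period hF hm hirr hr c, add_comm a c,
    pow_add (q ^ 2), pow_mul]
  exact ⟨fun h => pow_Q_pow_injective hF a h.symm, fun h => by rw [h]⟩

include hm hirr hr hF in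
theorem exists_root_eq_pow {s : E} (hs : aeval s π = 0) :
    ∃ i < π.natDegree, s = r ^ (q ^ 2) ^ i := by
  classical
  by_contra! hcon
  let Z : Finset E := insert s ((Finset.range π.natDegree).image fun i => r ^ (q ^ 2) ^ i)
  have hroot : ∀ i : ℕ, aeval (r ^ (q ^ 2) ^ i) π = 0 := by
    intro i
    induction i with
    | zero => simpa using hr
    | succ i ih =>
      rw [pow_succ, pow_mul]
      generalize r ^ (q ^ 2) ^ i = y at ih ⊢
      rw [← hF, ← expand_aeval, FiniteField.expand_card, map_pow, ih, zero_pow Fintype.card_ne_zero]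
  have hZ : Z.card = π.natDegree + 1 := by
    rw [Finset.card_insert_of_notMem, Finset.card_image_of_injOn, Finset.card_range]
    · intro a ha b hb hab
      rw [Finset.mem_coe, Finset.mem_range] at ha hb
      have := (pow_eq_pow_iff hF hm hirr hr a b).1 hab
      rwa [Nat.ModEq, Nat.mod_eq_of_lt ha, Nat.mod_eq_of_lt hb] at this
    · simp only [Finset.mem_image, Finset.mem_range, not_exists, not_and]
      exact fun i hi e => hcon i hi e.symm
  have hne : π.map (algebraMap F E) ≠ 0 := (hm.map _).ne_zero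
  have hle : Z.card ≤ (π.map (algebraMap F E)).natDegree := by
    refine card_le_degree_of_subset_roots fun x hx => ?_
    rw [Finset.mem_val] at hx
    rw [mem_roots hne, IsRoot.def, eval_map_algebraMap]
    rcases Finset.mem_insert.1 hx with rfl | hx
    · exact hs
    · obtain ⟨i, -, rfl⟩ := Finset.mem_image.1 hx
      exact hroot i
  rw [hm.natDegree_map, hZ] at hle
  omega

include hm hirr hr hF in
/-- If `r⁻¹` is a root of the conjugate polynomial, the degree `d` is odd and `r ^ q ^ d = r⁻¹`. -/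
theorem selfdual_root (hs : aeval r⁻¹ (π.map (qEnd hF)) = 0) :
    Odd π.natDegree ∧ r ^ q ^ π.natDegree = r⁻¹ := by
  have hs' : aeval (r⁻¹ ^ q) π = 0 := by
    have h1 := congrArg (aeval r⁻¹) (frob_poly hF (π.map (qEnd hF)))
    rw [map_pow, hs, zero_pow (by have := one_lt_q hF; omega), Polynomial.map_map,
      show (qEnd hF).comp (qEnd hF) = RingHom.id F from RingHom.ext (qEnd_qEnd hF), Polynomial.map_id,
      aeval_comp, map_pow, aeval_X] at h1
    exact h1.symm
  obtain ⟨i, -, hi⟩ := exists_root_eq_pow hF hm hirr hr hs'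
  have h2 : 2 * i ≡ 1 [MOD π.natDegree] := by
    rw [← pow_eq_pow_iff hF hm hirr hr]
    calc r ^ (q ^ 2) ^ (2 * i) = (r ^ (q ^ 2) ^ i) ^ (q ^ 2) ^ i := by
          rw [← pow_mul r, ← pow_add (q ^ 2), two_mul]
      _ = ((r⁻¹ ^ q) ^ (q ^ 2) ^ i) := by rw [hi]
      _ = ((r ^ (q ^ 2) ^ i)⁻¹) ^ q := by rw [← inv_pow r, ← pow_mul r⁻¹, ← pow_mul r⁻¹, mul_comm q]
      _ = r ^ (q ^ 2) ^ 1 := by rw [← hi, inv_pow r, inv_inv, ← pow_mul, pow_one, pow_two]
  have hodd : Odd π.natDegree := by
    by_contra h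
    rw [Nat.not_odd_iff_even] at h
    have := (h2.of_dvd h.two_dvd)
    simp [Nat.ModEq] at this
  refine ⟨hodd, ?_⟩
  obtain ⟨k, hk⟩ := hodd
  have h3 : i ≡ k + 1 [MOD π.natDegree] := by
    refine Nat.ModEq.cancel_left_of_coprime (c := 2) ?_ (h2.trans ?_)
    · rw [hk]; simp
    · rw [show 2 * (k + 1) = π.natDegree + 1 by omega]
      exact (Nat.ModEq.symm (by simpa [Nat.ModEq] using Nat.add_mod_left π.natDegree 1))
  have h4 : (r ^ q ^ π.natDegree) ^ q = r⁻¹ ^ q := by
    rw [hi, (pow_eq_pow_iff hF hm hirr hr i (k + 1)).2 h3, ← pow_mul, ← pow_mul q, ← pow_succ, hk]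
    ring_nf
  exact pow_q_injective hF h4

end Roots

section Operators

variable {V : Type*} [AddCommGroup V] [Module F V]
  {h : V →ₛₗ[qEnd hF] V →ₗ[F] F} {T S : Module.End F V}
  (hT : ∀ x y, h (T x) (T y) = h x y) (hTS : T * S = 1)

omit [Fintype F] in
theorem kill_mul {u : V} (p t : F[X]) (hp : aeval T p u = 0) : aeval T (t * p) u = 0 := by
  rw [map_mul, Module.End.mul_apply, hp, map_zero]

omit [Fintype F] in
theorem dvd_of_kill {π p : F[X]} (hirr : Irreducible π) {u : V} (hu : u ≠ 0)
    (hπ : aeval T π u = 0) (hp : aeval T p u = 0) : π ∣ p := by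
  by_contra hnd
  obtain ⟨a, b, hab⟩ := (hirr.coprime_iff_not_dvd).2 hnd
  refine hu ?_
  have := congrArg (fun f : F[X] => aeval T f u) hab
  simp only [map_add, map_one, LinearMap.add_apply, Module.End.one_apply, kill_mul π a hπ,
    kill_mul p b hp, add_zero] at this
  exact this.symm

include hT hTS in
theorem adjoint_aeval (p : F[X]) (u v : V) :
    h u (aeval T p v) = h (aeval S (p.map (qEnd hF)) u) v := by
  induction p using Polynomial.induction_on generalizing u v with
  | C a =>
    simp [Module.algebraMap_end_apply, LinearMap.map_smulₛₗ, qEnd_qEnd hF]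
  | add f g ihf ihg =>
    simp only [map_add, Polynomial.map_add, LinearMap.add_apply, ihf, ihg]
  | monomial n a ih =>
    have e : ∀ x y, h x (T y) = h (S x) y := fun x y => by
      conv_lhs => rw [← Module.End.one_apply (R := F) x, ← hTS, Module.End.mul_apply, hT]
    rw [show C a * X ^ (n + 1) = X * (C a * X ^ n) by ring, map_mul, Module.End.mul_apply, aeval_X, e, ih,
      mul_comm X (C a * X ^ n), Polynomial.map_mul (p := C a * X ^ n), map_mul, Module.End.mul_apply,
      Polynomial.map_X, aeval_X]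

include hT hTS in
/-- The cyclic subspace of an irreducible factor, when nondegenerate, forces odd degree. -/
theorem selfdual_of_cyclic [FiniteDimensional F V] {π : F[X]} (hm : π.Monic) (hirr : Irreducible π)
    {u : V} (hu : u ≠ 0) (hπ : aeval T π u = 0)
    (hnd : ∀ f : F[X], (∀ g : F[X], h (aeval T f u) (aeval T g u) = 0) → aeval T f u = 0) :
    Odd π.natDegree ∧ π ∣ X ^ (q ^ π.natDegree + 1) - 1 := by
  have : Finite V := Module.finite_of_finite F
  have : Finite (Module.End F V) :=
    Finite.of_injective (fun (f : Module.End F V) => (f : V → V)) DFunLike.coe_injective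
  let U : (Module.End F V)ˣ := ⟨T, S, hTS, mul_eq_one_comm.1 hTS⟩
  obtain ⟨m, hm0, hmT⟩ := isOfFinOrder_iff_pow_eq_one.1 (isOfFinOrder_of_finite U)
  have hS : aeval T (X ^ (m - 1) : F[X]) = S := by
    rw [map_pow, aeval_X]
    have e : U ^ (m - 1) = U⁻¹ := eq_inv_of_mul_eq_one_left (by rw [← pow_succ, Nat.sub_add_cancel hm0, hmT])
    exact congrArg Units.val e
  let s : F[X] := X ^ (m - 1)
  have hkill : aeval T ((π.map (qEnd hF)).comp s) u = 0 := by
    refine hnd _ fun g => ?_
    rw [aeval_comp, hS, ← adjoint_aeval hF hT hTS π u, ← Module.End.mul_apply, ← map_mul, mul_comm,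
      kill_mul π g hπ, map_zero]
  have hinv : aeval T (X * s - 1) u = 0 := by
    rw [map_sub, map_mul, aeval_X, hS, hTS, map_one, sub_self, LinearMap.zero_apply]
  have : Fact (Irreducible π) := ⟨hirr⟩
  have := (AdjoinRoot.powerBasis hirr.ne_zero).finite
  have : Finite (AdjoinRoot π) := Module.finite_of_finite F
  set r := AdjoinRoot.root π
  have e1 : r * aeval r s = 1 := by
    have := AdjoinRoot.mk_eq_zero.2 (dvd_of_kill hirr hu hπ hinv)
    rw [← AdjoinRoot.aeval_eq, map_sub, map_mul, aeval_X, map_one, sub_eq_zero] at this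
    exact this
  have e2 : aeval r⁻¹ (π.map (qEnd hF)) = 0 := by
    rw [inv_eq_of_mul_eq_one_right e1, ← aeval_comp, AdjoinRoot.aeval_eq, AdjoinRoot.mk_eq_zero]
    exact dvd_of_kill hirr hu hπ hkill
  have hr : aeval r π = 0 := by rw [AdjoinRoot.aeval_eq, AdjoinRoot.mk_self]
  obtain ⟨hodd, hpow⟩ := selfdual_root hF hm hirr hr e2
  refine ⟨hodd, AdjoinRoot.mk_eq_zero.1 ?_⟩
  have hr0 : r ≠ 0 := left_ne_zero_of_mul_eq_one e1
  rw [← AdjoinRoot.aeval_eq, map_sub, map_pow, aeval_X, map_one, sub_eq_zero, pow_succ, hpow,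
    inv_mul_cancel₀ hr0]

end Operators

end Cfsg.Agent.NormalCover
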