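import Cfsg.Agent.Lib.QForm.Classify
import Cfsg.Agent.Lib.QForm.Std
import Cfsg.Agent.Lib.GL.SympOrders
import Cfsg.Agent.Lib.ClassicalSimple.SympMatrix
import Cfsg.Agent.Lib.NormalCover.Alg
import Cfsg.Agent.Lib.NormalCover.Basic

/-!
In characteristic two every symplectic transformation fixes a quadratic form with the given polar form.
-/

set_option autoImplicit false

namespace Cfsg.Agent.NormalCover

open Matrix

variable {F : Type*} [Field F] {m : ℕ}

/-- The stabiliser of a quadratic form in the symplectic group. -/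
def qStab (Q : QuadraticForm F (Fin m ⊕ Fin m → F)) : Subgroup (Matrix.symplecticGroup (Fin m) F) where
  carrier := {A | ∀ v, Q ((A : Matrix (Fin m ⊕ Fin m) (Fin m ⊕ Fin m) F) *ᵥ v) = Q v}
  one_mem' := by simp
  mul_mem' := by
    intro a b ha hb v
    rw [Submonoid.coe_mul, ← mulVec_mulVec, ha, hb]
  inv_mem' := by
    intro a ha v
    have := ha (((a⁻¹ : Matrix.symplecticGroup (Fin m) F) : Matrix (Fin m ⊕ Fin m) (Fin m ⊕ Fin m) F) *ᵥ v)
    rw [mulVec_mulVec, ← Submonoid.coe_mul, mul_inv_cancel, Submonoid.coe_one, one_mulVec] at this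
    exact this.symm

variable [Fintype F] [CharP F 2]

theorem sympForm_two (u v : Fin m ⊕ Fin m → F) :
    sympForm m F u v = ∑ i, (u (.inl i) * v (.inr i) + u (.inr i) * v (.inl i)) := by
  rw [Forms.sympForm_eq_sum]
  exact Finset.sum_congr rfl fun i _ => by rw [CharTwo.sub_eq_add, add_comm]

/-- Every symplectic transformation fixes a quadratic form polarizing to `sympForm`. -/
theorem exists_fixed_form (A : Matrix.symplecticGroup (Fin m) F) :
    ∃ Q : QuadraticForm F (Fin m ⊕ Fin m → F),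
      (∀ u v, QuadraticMap.polar ⇑Q u v = sympForm m F u v) ∧ A ∈ qStab Q := by
  set Q₀ := QForm.plusForm F m
  have hpol : ∀ u v, QuadraticMap.polar ⇑Q₀ u v = sympForm m F u v := fun u v => by
    rw [QForm.coe_plusForm, QForm.polar_plus, sympForm_two]
  set M : Matrix (Fin m ⊕ Fin m) (Fin m ⊕ Fin m) F := (A : Matrix (Fin m ⊕ Fin m) (Fin m ⊕ Fin m) F)
  have hadd : ∀ u v, Q₀ (u + v) = Q₀ u + Q₀ v + sympForm m F u v := fun u v => by
    rw [← hpol]; simp [QuadraticMap.polar]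
  let D : (Fin m ⊕ Fin m → F) → F := fun v => Q₀ (M *ᵥ v) + Q₀ v
  have hDadd : ∀ u v, D (u + v) = D u + D v := fun u v => by
    have e := (Forms.mem_symplecticGroup_iff_form.1 A.2) u v
    simp only [D, mulVec_add, hadd]
    linear_combination e + (sympForm m F u v) * CharTwo.two_eq_zero (R := F)
  let s := (frobeniusEquiv F 2).symm
  have hs : ∀ a : F, (s a) ^ 2 = a := fun a => frobeniusEquiv_symm_pow_p F 2 a
  let l : (Fin m ⊕ Fin m → F) →ₗ[F] F :=
    { toFun := fun v => s (D v)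
      map_add' := fun u v => by rw [hDadd, map_add]
      map_smul' := fun c v => by
        have e : D (c • v) = c ^ 2 * D v := by
          simp only [D, mulVec_smul, QuadraticMap.map_smul, smul_eq_mul]; ring
        simp only [e, map_mul, RingHom.id_apply, smul_eq_mul]
        congr 1
        exact frobeniusEquiv_symm_apply_frobenius F 2 c }
  let T : (Fin m ⊕ Fin m → F) →ₗ[F] (Fin m ⊕ Fin m → F) := M.mulVecLin + LinearMap.id
  have hl : l ∈ LinearMap.range T.dualMap := by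
    rw [LinearMap.range_dualMap_eq_dualAnnihilator_ker, Submodule.mem_dualAnnihilator]
    intro w hw
    have hw' : M *ᵥ w = w := by
      have : M *ᵥ w + w = 0 := hw
      exact funext fun i => CharTwo.add_eq_zero.1 (congrFun this i)
    show s (D w) = 0
    simp only [D, hw', CharTwo.add_self_eq_zero, map_zero]
  obtain ⟨μ, hμ⟩ := hl
  refine ⟨Q₀ + QuadraticMap.linMulLin μ μ, fun u v => ?_, fun v => ?_⟩
  · rw [← hpol]
    simp only [QuadraticMap.polar, _root_.map_add, QuadraticMap.add_apply,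
      QuadraticMap.linMulLin_apply]
    linear_combination (μ u * μ v) * CharTwo.two_eq_zero (R := F)
  · have e1 : μ (M *ᵥ v) + μ v = s (D v) := by
      rw [← map_add]
      exact LinearMap.congr_fun hμ v
    have e2 : s (D v) ^ 2 = Q₀ (M *ᵥ v) + Q₀ v := hs _
    simp only [QuadraticMap.add_apply, QuadraticMap.linMulLin_apply]
    show Q₀ (M *ᵥ v) + μ (M *ᵥ v) * μ (M *ᵥ v) = Q₀ v + μ v * μ v
    linear_combination (μ (M *ᵥ v) + μ v + s (D v)) * e1 + e2 +
      (Q₀ (M *ᵥ v) - μ (M *ᵥ v) * μ v - μ v * μ v) * CharTwo.two_eq_zero (R := F) - 0 * hs 0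

theorem qStab_ne_top (hm : 2 ≤ m) {Q : QuadraticForm F (Fin m ⊕ Fin m → F)}
    (hpol : ∀ u v, QuadraticMap.polar ⇑Q u v = sympForm m F u v) : qStab Q ≠ ⊤ := by
  classical
  intro e
  let a : Fin m ⊕ Fin m → F := Pi.single (.inl ⟨0, by omega⟩) 1
  let b : Fin m ⊕ Fin m → F := Pi.single (.inl ⟨1, by omega⟩) 1
  have hab : sympForm m F a b = 0 := by
    rw [Forms.sympForm_eq_sum]; simp [a, b]
  obtain ⟨v, hv0, hv⟩ : ∃ v, v ≠ 0 ∧ Q v ≠ 1 := by
    by_contra! h
    have h3 : a + b ≠ 0 := fun e => by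
      simpa [a, b, Fin.ext_iff] using congrFun e (.inl ⟨0, by omega⟩)
    have e1 := hpol a b
    rw [QuadraticMap.polar, h _ h3, h a (by simp [a]), h b (by simp [b]), hab] at e1
    exact one_ne_zero (by linear_combination -e1 : (1 : F) = 0)
  obtain ⟨x, hx⟩ : ∃ x, sympForm m F x v ≠ 0 := by
    by_contra! h
    refine hv0 ((Forms.sympB_polar (F := F) m).sep v fun y => ?_)
    rw [(Forms.sympB_polar (F := F) m).swap y v, Forms.sympB_apply, h, map_zero, mul_zero]
  have h1 := (e ▸ Subgroup.mem_top (ClassicalSimple.sympTransvectionElt v 1) :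
    ClassicalSimple.sympTransvectionElt v 1 ∈ qStab Q) x
  rw [show ((ClassicalSimple.sympTransvectionElt v (1 : F)) : Matrix _ _ F) = sympTransvection m v 1 from rfl,
    ClassicalSimple.sympTransvection_mulVec, one_mul, ClassicalSimple.sympBilin_apply] at h1
  set c := sympForm m F x v
  have h2 : Q (x + c • v) = Q x + c * c * Q v + c * c := by
    have := hpol x (c • v)
    rw [QuadraticMap.polar, QuadraticMap.map_smul, smul_eq_mul,
      show sympForm m F x (c • v) = c * c by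
        rw [← Forms.sympB_apply, map_smul, Forms.sympB_apply, smul_eq_mul]] at this
    linear_combination this
  rw [h2] at h1
  refine hv (mul_left_cancel₀ (mul_ne_zero hx hx) ?_)
  linear_combination h1 - c * c * CharTwo.two_eq_zero (R := F)

/-- The plus class. -/
def IsPlusClass (Q : QuadraticForm F (Fin m ⊕ Fin m → F)) : Prop :=
  ∃ e : (Fin m ⊕ Fin m → F) ≃ₗ[F] (Fin m ⊕ Fin m → F), ∀ v, quadFormPlus m F (e v) = Q v

theorem psp_even_cover (hm : 2 ≤ m) :
    ∃ H K : Subgroup (Cfsg.PSp m F), H ≠ ⊤ ∧ K ≠ ⊤ ∧ ∀ g : Cfsg.PSp m F, ∃ x : Cfsg.PSp m F,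
      x * g * x⁻¹ ∈ H ∨ x * g * x⁻¹ ∈ K := by
  classical
  let S := {Q : QuadraticForm F (Fin m ⊕ Fin m → F) // ∀ u v, QuadraticMap.polar ⇑Q u v = sympForm m F u v}
  have hne : Nonempty S := ⟨⟨_, (exists_fixed_form 1).choose_spec.1⟩⟩
  have hnd : ∀ Q : S, (QuadraticMap.polarBilin Q.1).Nondegenerate := fun Q => by
    have e : QuadraticMap.polarBilin Q.1 = Forms.sympB m F :=
      LinearMap.ext₂ fun u v => by rw [QuadraticMap.polarBilin_apply_apply, Q.2, Forms.sympB_apply]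
    rw [e]
    exact Forms.sympB_nondegenerate m
  obtain ⟨h, hmon, hirr, hdeg⟩ := exists_irreducible (F := F) (r := 2) two_pos
  have hab : ∀ z₁ z₂ : F, z₁ ^ 2 + h.coeff 1 * z₁ * z₂ + h.coeff 0 * z₂ ^ 2 = 0 → z₁ = 0 ∧ z₂ = 0 := by
    intro z₁ z₂ hz
    have hz2 : z₂ = 0 := by
      by_contra hz2
      have hroot : h.IsRoot (z₁ / z₂) := by
        rw [Polynomial.IsRoot.def, Polynomial.eval_eq_sum_range, hdeg]
        simp only [Finset.sum_range_succ, Finset.sum_range_zero, zero_add, pow_zero, mul_one, pow_one]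
        rw [show h.coeff 2 = 1 from hdeg ▸ hmon.coeff_natDegree]
        field_simp
        linear_combination hz
      have := Polynomial.degree_eq_one_of_irreducible_of_root hirr hroot
      rw [Polynomial.degree_eq_natDegree hirr.ne_zero, hdeg] at this
      norm_cast at this
    subst hz2
    exact ⟨by simpa using hz, rfl⟩
  -- two forms meeting every class
  obtain ⟨Q₁, hQ₁⟩ : ∃ Q₁ : S, (∃ Q : S, IsPlusClass Q.1) → IsPlusClass Q₁.1 := by
    by_cases hp : ∃ Q : S, IsPlusClass Q.1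
    · exact ⟨hp.choose, fun _ => hp.choose_spec⟩
    · exact ⟨hne.some, fun h' => absurd h' hp⟩
  obtain ⟨Q₂, hQ₂⟩ : ∃ Q₂ : S, (∃ Q : S, ¬ IsPlusClass Q.1) → ¬ IsPlusClass Q₂.1 := by
    by_cases hp : ∃ Q : S, ¬ IsPlusClass Q.1
    · exact ⟨hp.choose, fun _ => hp.choose_spec⟩
    · exact ⟨hne.some, fun h' => absurd h' hp⟩
  have hcenter : ∀ Q : S, Subgroup.center (Matrix.symplecticGroup (Fin m) F) ≤ qStab Q.1 := by
    intro Q z hz v
    obtain ⟨c, hc⟩ := GL.symp_center_scalar z hz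
    let a : Fin m ⊕ Fin m → F := Pi.single (.inl ⟨0, by omega⟩) 1
    let b : Fin m ⊕ Fin m → F := Pi.single (.inr ⟨0, by omega⟩) 1
    have := (Forms.mem_symplecticGroup_iff_form.1 z.2) a b
    simp only [hc, smul_mulVec, one_mulVec, sympForm_two] at this
    simp [a, b, Pi.single_apply, mul_ite, ite_mul, Finset.sum_add_distrib] at this
    rw [hc, smul_mulVec, one_mulVec, QuadraticMap.map_smul, this, one_smul]
  refine exists_cover_quotient (qStab_ne_top hm Q₁.2) (qStab_ne_top hm Q₂.2) (hcenter Q₁) (hcenter Q₂)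
    fun g => ?_
  obtain ⟨Q, hQ, hg⟩ := exists_fixed_form g
  have hfd : Module.finrank F (Fin m ⊕ Fin m → F) = 2 * m := by simp; omega
  -- transport along an isometry
  have key : ∀ Q' : S, (∃ e : (Fin m ⊕ Fin m → F) ≃ₗ[F] (Fin m ⊕ Fin m → F), ∀ v, Q'.1 (e v) = Q v) →
      ∃ x, x * g * x⁻¹ ∈ qStab Q'.1 := by
    rintro Q' ⟨e, he⟩
    have hmem : LinearMap.toMatrix' (e : (Fin m ⊕ Fin m → F) →ₗ[F] (Fin m ⊕ Fin m → F)) ∈
        Matrix.symplecticGroup (Fin m) F := Forms.mem_symplecticGroup_iff_form.2 fun u v => by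
      simp only [LinearMap.toMatrix'_mulVec, LinearEquiv.coe_coe]
      rw [← Q'.2, ← hQ, QuadraticMap.polar, QuadraticMap.polar, ← map_add, he, he, he]
    let x : Matrix.symplecticGroup (Fin m) F := ⟨_, hmem⟩
    refine ⟨x, fun v => ?_⟩
    have hx : ∀ w, (x : Matrix (Fin m ⊕ Fin m) (Fin m ⊕ Fin m) F) *ᵥ w = e w := fun w => by
      simp [x]
    have e1 : ((x⁻¹ : Matrix.symplecticGroup (Fin m) F) : Matrix (Fin m ⊕ Fin m) (Fin m ⊕ Fin m) F) *ᵥ
        (e (e.symm v)) = e.symm v := by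
      rw [← hx, mulVec_mulVec, ← Submonoid.coe_mul, inv_mul_cancel, Submonoid.coe_one, one_mulVec]
    rw [e.apply_symm_apply] at e1
    rw [Submonoid.coe_mul, Submonoid.coe_mul, ← mulVec_mulVec, ← mulVec_mulVec, e1, hx, he, hg,
      ← he, e.apply_symm_apply]
  by_cases hp : IsPlusClass Q
  · obtain ⟨e₁, he₁⟩ := hp
    obtain ⟨e₂, he₂⟩ := hQ₁ ⟨⟨Q, hQ⟩, e₁, he₁⟩
    obtain ⟨x, hx⟩ := key Q₁ ⟨e₁.trans e₂.symm, fun v => by
      rw [← he₂, LinearEquiv.trans_apply, LinearEquiv.apply_symm_apply, he₁]⟩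
    exact ⟨x, Or.inl hx⟩
  · have h2 := hQ₂ ⟨⟨Q, hQ⟩, hp⟩
    rcases QForm.exists_iso_plus_or_minus hab m Q (hnd ⟨Q, hQ⟩) hfd with h' | ⟨-, e₁, he₁⟩
    · exact absurd h' hp
    rcases QForm.exists_iso_plus_or_minus hab m Q₂.1 (hnd Q₂) hfd with h' | ⟨-, e₂, he₂⟩
    · exact absurd h' h2
    obtain ⟨x, hx⟩ := key Q₂ ⟨e₁.trans e₂.symm, fun v => by
      rw [← he₂, LinearEquiv.trans_apply, LinearEquiv.apply_symm_apply, he₁]⟩
    exact ⟨x, Or.inr hx⟩

end Cfsg.Agent.NormalCover
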