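import Cfsg.Agent.Lib.Forms.SympTwo
import Cfsg.Agent.Lib.NormalCover.Alg

/-!
Isometries of six-dimensional symplectic spaces in characteristic three.
-/

set_option autoImplicit false
set_option linter.unusedSectionVars false

namespace Cfsg.Agent.NormalCover.SympSix

open Polynomial
open Module (finrank)

variable {F : Type*} [Field F] [Fintype F] {V : Type*} [AddCommGroup V] [Module F V] [FiniteDimensional F V]
  {B : LinearMap.BilinForm F V} (hB : B.IsAlt) (hsep : ∀ x, (∀ y, B x y = 0) → x = 0)

theorem two_ne_zero' (h3 : (3 : F) = 0) : (2 : F) ≠ 0 := fun h =>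
  one_ne_zero (by linear_combination h3 - h : (1 : F) = 0)

theorem swap' (hB : B.IsAlt) (x y : V) : -B x y = B y x := LinearMap.IsAlt.neg hB x y

/-- Self-adjoint endomorphisms give alternating forms. -/
theorem selfadj_pair (hB : B.IsAlt) (h2 : (2 : F) ≠ 0) {a : Module.End F V}
    (ha : ∀ x y, B (a x) y = B x (a y)) (x : V) : B x (a x) = 0 := by
  have h1 : - B x (a x) = B (a x) x := swap' hB x (a x)
  rw [ha] at h1
  exact (mul_eq_zero.1 (show (2 : F) * B x (a x) = 0 by linear_combination -h1)).resolve_left h2

include hB hsep in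
/-- The rank of a self-adjoint endomorphism is even. -/
theorem even_rank (h2 : (2 : F) ≠ 0) {a : Module.End F V} (ha : ∀ x y, B (a x) y = B x (a y)) :
    Even (finrank F (LinearMap.range a)) := by
  obtain ⟨C, hC⟩ := Submodule.exists_isCompl (LinearMap.ker a)
  have hfin : finrank F C = finrank F (LinearMap.range a) := by
    have h1 := LinearMap.finrank_range_add_finrank_ker a
    have h4 := Submodule.finrank_add_eq_of_isCompl hC
    omega
  rw [← hfin]
  refine Forms.SympTwo.even_finrank_of_isAlt (β := (B.compl₁₂ a LinearMap.id).compl₁₂ C.subtype C.subtype)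
    (fun x => ?_) fun x hx => ?_
  · show B (a x.1) x.1 = 0
    rw [ha]
    exact selfadj_pair hB h2 ha _
  · have hax : a x.1 = 0 := hsep _ fun y => by
      obtain ⟨k, hk, c, hc, rfl⟩ := Submodule.mem_sup.1 (show y ∈ LinearMap.ker a ⊔ C by
        rw [hC.sup_eq_top]; trivial)
      have h1 : B (a x.1) k = 0 := by rw [ha, LinearMap.mem_ker.1 hk, map_zero]
      have h2' : B (a x.1) c = 0 := hx ⟨c, hc⟩
      rw [map_add, h1, h2', add_zero]
    exact Subtype.ext ((Submodule.disjoint_def.1 hC.disjoint) _ (LinearMap.mem_ker.2 hax) x.2)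

section Isometry

variable {T S : Module.End F V} (hT : ∀ x y, B (T x) (T y) = B x y) (hTS : T * S = 1)

include hT hTS in
theorem left_adjoint (u v : V) : B (T u) v = B u (S v) := by
  conv_lhs => rw [show v = T (S v) from (LinearMap.congr_fun hTS v).symm, hT]

include hT hTS in
theorem inv_left_adjoint (u v : V) : B (S u) v = B u (T v) := by
  conv_rhs => rw [show u = T (S u) from (LinearMap.congr_fun hTS u).symm, hT]

include hT hTS in
theorem sum_selfadj (u v : V) : B ((T + S) u) v = B u ((T + S) v) := by
  simp only [LinearMap.add_apply, map_add, left_adjoint hT hTS, inv_left_adjoint hT hTS, add_comm]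

end Isometry

theorem poly_selfadj {a : Module.End F V} (ha : ∀ x y, B (a x) y = B x (a y)) (p : F[X]) :
    ∀ x y, B (aeval a p x) y = B x (aeval a p y) := by
  induction p using Polynomial.induction_on with
  | C c => intro x y; simp [Module.algebraMap_end_apply]
  | add f g ihf ihg => intro x y; simp [ihf, ihg]
  | monomial n c ih =>
    intro x y
    rw [pow_succ, ← mul_assoc, map_mul, aeval_X]
    simp only [Module.End.mul_apply]
    rw [ih, ha, ← Module.End.mul_apply (f := a), ← Module.End.mul_apply (g := a)]
    congr 1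
    exact LinearMap.congr_fun (Commute.eq (by
      have := (Commute.all (C c * X ^ n : F[X]) X).map (aeval (R := F) a)
      rw [aeval_X] at this
      exact this.symm)) y

/-- The degree of an irreducible polynomial killing an endomorphism divides the dimension. -/
theorem natDegree_dvd_finrank {h : F[X]} (hh : Irreducible h) {a : Module.End F V} (ha : aeval a h = 0) :
    h.natDegree ∣ finrank F V := by
  have : Fact (Irreducible h) := ⟨hh⟩
  let σ : AdjoinRoot h →ₐ[F] Module.End F V := Ideal.Quotient.liftₐ _ (aeval a) fun p hp => by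
    obtain ⟨c, rfl⟩ := Ideal.mem_span_singleton.1 hp
    rw [map_mul, ha, zero_mul]
  letI : Module (AdjoinRoot h) V := Module.compHom V σ.toRingHom
  have : IsScalarTower F (AdjoinRoot h) V := ⟨fun c k v => by
    show σ (c • k) v = c • σ k v
    rw [map_smul]; rfl⟩
  rw [← Module.finrank_mul_finrank F (AdjoinRoot h) V, (AdjoinRoot.powerBasis hh.ne_zero).finrank,
    AdjoinRoot.powerBasis_dim]
  exact dvd_mul_right _ _

/-- An invariant hyperbolic plane. -/
def HasPlane (B : LinearMap.BilinForm F V) (T : Module.End F V) : Prop :=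
  ∃ e f : V, B e f = 1 ∧ T e ∈ Submodule.span F ({e, f} : Set V) ∧ T f ∈ Submodule.span F ({e, f} : Set V)

include hB hsep in
theorem hasPlane_of_two {T : Module.End F V} {U : Submodule F V} (hU : ∀ x ∈ U, T x ∈ U)
    (hnd : ∀ x ∈ U, (∀ y ∈ U, B x y = 0) → x = 0) (h2 : finrank F U = 2) : HasPlane B T := by
  obtain ⟨e, he, he0⟩ := Submodule.exists_mem_ne_zero_of_ne_bot (p := U) (by
    rintro rfl; simp at h2)
  obtain ⟨y, hy, hy0⟩ : ∃ y ∈ U, B e y ≠ 0 := by
    by_contra! h
    exact he0 (hnd e he h)
  set f := (B e y)⁻¹ • y with hf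
  have hfU : f ∈ U := U.smul_mem _ hy
  have hef : B e f = 1 := by rw [hf, map_smul, smul_eq_mul, inv_mul_cancel₀ hy0]
  have hli : LinearIndependent F ![e, f] := by
    rw [LinearIndependent.pair_iff]
    intro a b hab
    have h1 := congrArg (B e) hab
    rw [map_add, map_smul, map_smul, hef, hB, map_zero] at h1
    have hb : b = 0 := by simpa using h1
    subst hb
    rw [zero_smul, add_zero, smul_eq_zero] at hab
    exact ⟨hab.resolve_right he0, rfl⟩
  have hspan : Submodule.span F ({e, f} : Set V) = U := by
    refine Submodule.eq_of_le_of_finrank_eq (Submodule.span_le.2 ?_) ?_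
    · rintro x (rfl | rfl)
      · exact he
      · exact hfU
    · have := finrank_span_eq_card hli
      rw [Fintype.card_fin] at this
      rw [h2, ← Matrix.range_cons_cons_empty e f ![]]
      exact this
  exact ⟨e, f, hef, hspan ▸ hU e he, hspan ▸ hU f hfU⟩

include hB hsep in
/-- An invariant nondegenerate subspace yields an invariant plane. -/
theorem hasPlane_of_nondeg (hd : finrank F V = 6) {T S : Module.End F V}
    (hT : ∀ x y, B (T x) (T y) = B x y) (hTS : T * S = 1) {W : Submodule F V} (hW : ∀ x ∈ W, T x ∈ W)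
    (hnd : ∀ x ∈ W, (∀ y ∈ W, B x y = 0) → x = 0) (hbot : W ≠ ⊥) (htop : W ≠ ⊤) : HasPlane B T := by
  have heven : Even (finrank F W) := Forms.SympTwo.even_finrank_of_isAlt (β := B.compl₁₂ W.subtype W.subtype)
    (fun x => hB x.1) fun x hx => Subtype.ext (hnd x.1 x.2 fun y hy => hx ⟨y, hy⟩)
  have h0 : 0 < finrank F W := Submodule.one_le_finrank_iff.2 hbot
  have h6 : finrank F W < 6 := hd ▸ Submodule.finrank_lt htop
  obtain ⟨k, hk⟩ := heven
  have : finrank F W = 2 ∨ finrank F W = 4 := by omega
  rcases this with h | h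
  · exact hasPlane_of_two hB hsep hW hnd h
  have hSW : ∀ x ∈ W, S x ∈ W := by
    intro x hx
    let TW : W →ₗ[F] W := T.restrict hW
    have hinj : Function.Injective TW := fun a b hab => Subtype.ext (by
      have h1 : T a.1 = T b.1 := congrArg Subtype.val hab
      have h2 := congrArg S h1
      rwa [← Module.End.mul_apply, ← Module.End.mul_apply, mul_eq_one_comm.1 hTS] at h2)
    obtain ⟨w, hw⟩ := LinearMap.injective_iff_surjective.1 hinj ⟨x, hx⟩
    have : T w.1 = x := congrArg Subtype.val hw
    rw [← this, ← Module.End.mul_apply, mul_eq_one_comm.1 hTS]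
    exact w.2
  have hBnd : B.Nondegenerate := ⟨fun x hx => hsep x hx, fun y hy => hsep y fun x => by
    rw [← swap' hB, hy x, neg_zero]⟩
  have hperp : ∀ x, x ∈ B.orthogonal W ↔ ∀ w ∈ W, B w x = 0 := fun x => Iff.rfl
  have hdim : finrank F (B.orthogonal W) = 2 := by
    rw [LinearMap.BilinForm.finrank_orthogonal hBnd, hd, h]
  refine hasPlane_of_two hB hsep (U := B.orthogonal W) (fun x hx => ?_) (fun x hx hxy => ?_) hdim
  · rw [hperp] at hx ⊢
    intro w hw
    rw [← inv_left_adjoint hT hTS]
    exact hx _ (hSW w hw)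
  · have hdis : W ⊓ B.orthogonal W = ⊥ := by
      rw [eq_bot_iff]
      rintro z ⟨hz1, hz2⟩
      exact hnd z hz1 fun w hw => by rw [← swap' hB, hz2 w hw, neg_zero]
    have hsup : W ⊔ B.orthogonal W = ⊤ := by
      refine Submodule.eq_top_of_finrank_eq ?_
      have := Submodule.finrank_sup_add_finrank_inf_eq W (B.orthogonal W)
      rw [hdis, finrank_bot, h, hdim] at this
      omega
    refine hsep x fun y => ?_
    obtain ⟨w, hw, u, hu, rfl⟩ := Submodule.mem_sup.1 (show y ∈ W ⊔ B.orthogonal W by rw [hsup]; trivial)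
    rw [map_add, hxy u hu, ← swap' hB, (hperp x).1 hx w hw, neg_zero, add_zero]

include hB hsep in
/-- Coprime factors of a polynomial killing a commuting self-adjoint map. -/
theorem hasPlane_of_coprime (hd : finrank F V = 6) {T S : Module.End F V}
    (hT : ∀ x y, B (T x) (T y) = B x y) (hTS : T * S = 1) {s : Module.End F V}
    (hs : ∀ x y, B (s x) y = B x (s y)) (hTs : Commute T s) {f g : F[X]} (hfg : IsCoprime f g)
    (h0 : aeval s (f * g) = 0) (hf : aeval s f ≠ 0) (hg : aeval s g ≠ 0) : HasPlane B T := by
  set W := LinearMap.ker (aeval s f)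
  have hcomm : ∀ p : F[X], Commute T (aeval s p) := fun p => by
    induction p using Polynomial.induction_on with
    | C c => rw [aeval_C]; exact (Algebra.commutes c T).symm
    | add a b iha ihb => rw [map_add]; exact iha.add_right ihb
    | monomial n c _ =>
      rw [map_mul, map_pow, aeval_X, aeval_C]
      exact (show Commute T (algebraMap F (Module.End F V) c) from (Algebra.commutes c T).symm).mul_right
        (hTs.pow_right _)
  obtain ⟨a, b, hab⟩ := hfg
  refine hasPlane_of_nondeg hB hsep hd hT hTS (W := W) (fun x hx => ?_) (fun x hx hxy => hsep x fun y => ?_) ?_ ?_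
  · rw [LinearMap.mem_ker] at hx ⊢
    rw [← Module.End.mul_apply, ← (hcomm f).eq, Module.End.mul_apply, hx, map_zero]
  · rw [LinearMap.mem_ker] at hx
    have e : x = aeval s (b * g) x := by
      have h1 := congrArg (fun p : F[X] => aeval s p x) hab
      simp only [map_add, map_one, LinearMap.add_apply, Module.End.one_apply] at h1
      rw [map_mul, Module.End.mul_apply, hx, map_zero, zero_add] at h1
      exact h1.symm
    rw [e, poly_selfadj hs]
    refine hxy _ (LinearMap.mem_ker.2 ?_)
    rw [← Module.End.mul_apply, ← map_mul, show f * (b * g) = b * (f * g) by ring, map_mul, h0, mul_zero,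
      LinearMap.zero_apply]
  · intro hbot
    refine hg (LinearMap.ext fun x => ?_)
    have : aeval s g x ∈ W := LinearMap.mem_ker.2 (by
      rw [← Module.End.mul_apply, ← map_mul, h0, LinearMap.zero_apply])
    rw [hbot, Submodule.mem_bot] at this
    exact this
  · exact fun htop => hf (LinearMap.ker_eq_top.1 htop)

include hB hsep in
theorem no_quadratic (hd : finrank F V = 6) (h2 : (2 : F) ≠ 0) {L : Module.End F V}
    (hL : ∀ x y, B (L x) y = B x (L y)) {π : F[X]} (hm : π.Monic) (hirr : Irreducible π)
    (hdeg : π.natDegree = 2) : aeval L π ≠ 0 := by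
  intro hπ
  set c₀ := π.coeff 0
  set c₁ := π.coeff 1
  have hLL : ∀ x, L (L x) = -(c₁ • L x) - c₀ • x := fun x => by
    have h1 := LinearMap.congr_fun hπ x
    rw [aeval_eq_sum_range, hdeg] at h1
    simp only [Finset.sum_range_succ, Finset.sum_range_zero, zero_add, pow_zero, pow_one,
      show π.coeff 2 = 1 from hdeg ▸ hm.coeff_natDegree, LinearMap.add_apply, LinearMap.smul_apply,
      Module.End.one_apply, one_smul, LinearMap.zero_apply] at h1
    rw [pow_two, Module.End.mul_apply] at h1
    linear_combination (norm := module) h1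
  have hnoeig : ∀ (x : V) (c : F), L x = c • x → x = 0 := by
    intro x c hx
    by_contra hx0
    have h1 := hLL x
    rw [hx, map_smul, hx] at h1
    have h5 : (c ^ 2 + c₁ * c + c₀) • x = 0 := by linear_combination (norm := module) h1
    have hroot : π.IsRoot c := by
      rw [IsRoot.def, eval_eq_sum_range, hdeg]
      simp only [Finset.sum_range_succ, Finset.sum_range_zero, zero_add, pow_zero, mul_one, pow_one,
        show π.coeff 2 = 1 from hdeg ▸ hm.coeff_natDegree]
      linear_combination (smul_eq_zero.1 h5).resolve_right hx0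
    have := degree_eq_one_of_irreducible_of_root hirr hroot
    rw [degree_eq_natDegree hirr.ne_zero, hdeg] at this
    norm_cast at this
  have hc0 : c₀ ≠ 0 := fun h => by
    have hroot : π.IsRoot 0 := by rw [IsRoot.def, ← coeff_zero_eq_eval_zero]; exact h
    have := degree_eq_one_of_irreducible_of_root hirr hroot
    rw [degree_eq_natDegree hirr.ne_zero, hdeg] at this
    norm_cast at this
  have : Nontrivial V := Module.nontrivial_of_finrank_pos (by omega : 0 < finrank F V)
  obtain ⟨v, hv⟩ := exists_ne (0 : V)
  obtain ⟨w, hw1, hw0⟩ : ∃ w, B v w = 1 ∧ B (L v) w = 0 := by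
    by_contra! hcon
    obtain ⟨x₀, hx₀⟩ : ∃ x, B (L v) x ≠ 0 := by
      by_contra! h
      exact hv (hnoeig v 0 (by rw [zero_smul]; exact hsep _ h))
    have key : ∀ x, B (L v) x = 0 → B v x = 0 := fun x hx => by
      by_contra hne
      exact hcon ((B v x)⁻¹ • x) (by rw [map_smul, smul_eq_mul, inv_mul_cancel₀ hne])
        (by rw [map_smul, hx, smul_zero])
    set k := B v x₀ / B (L v) x₀
    have hvL : v = k • L v := by
      refine sub_eq_zero.1 (hsep _ fun y => ?_)
      have h1 := key (y - (B (L v) y / B (L v) x₀) • x₀) (by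
        rw [map_sub, map_smul, smul_eq_mul, div_mul_cancel₀ _ hx₀, sub_self])
      rw [map_sub, map_smul, smul_eq_mul] at h1
      simp only [map_sub, map_smul, LinearMap.sub_apply, LinearMap.smul_apply, smul_eq_mul, k]
      linear_combination h1
    have hk : k ≠ 0 := fun h => hv (by rw [hvL, h, zero_smul])
    exact hv (hnoeig v k⁻¹ (by
      calc L v = k⁻¹ • (k • L v) := by rw [smul_smul, inv_mul_cancel₀ hk, one_smul]
        _ = _ := by rw [← hvL]))
  let vec : Fin 4 → V := ![v, L v, w, L w]
  have hvv : B v (L v) = 0 := selfadj_pair hB h2 hL v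
  have hww : B w (L w) = 0 := selfadj_pair hB h2 hL w
  have hvLw : B v (L w) = 0 := by rw [← hL, hw0]
  have hLL' : B (L v) (L w) = -c₀ := by
    rw [hL, hLL]
    simp [hvLw, hw1]
  have hgram : ∀ a : Fin 4 → F, (∀ i, B (∑ j, a j • vec j) (vec i) = 0) → a = 0 := by
    intro a ha
    have e0 := ha 0
    have e1 := ha 1
    have e2 := ha 2
    have e3 := ha 3
    have n1 : B (L v) v = 0 := by rw [← swap' hB, hvv, neg_zero]
    have n2 : B (L w) w = 0 := by rw [← swap' hB, hww, neg_zero]
    have n3 : B w v = -1 := by rw [← swap' hB, hw1]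
    have n4 : B w (L v) = 0 := by rw [← swap' hB, hw0, neg_zero]
    have n5 : B (L w) v = 0 := by rw [← swap' hB, hvLw, neg_zero]
    have n6 : B (L w) (L v) = c₀ := by rw [← swap' hB, hLL', neg_neg]
    simp [Fin.sum_univ_four, vec, hB v, hB w, hB (L v), hB (L w), hvv, hww, hvLw, hLL', hw1, hw0, n1, n2, n3,
      n4, n5, n6, hc0] at e0 e1 e2 e3
    funext i
    fin_cases i <;> assumption
  have hli : LinearIndependent F vec := Fintype.linearIndependent_iff.2 fun a ha i => by
    rw [hgram a fun i => by rw [ha, map_zero, LinearMap.zero_apply]]; rfl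
  set U := Submodule.span F (Set.range vec)
  have hUdim : finrank F U = 4 := by rw [finrank_span_eq_card hli, Fintype.card_fin]
  have hmemU : ∀ i, vec i ∈ U := fun i => Submodule.subset_span ⟨i, rfl⟩
  have hUL : ∀ x ∈ U, L x ∈ U := by
    intro x hx
    induction hx using Submodule.span_induction with
    | mem y hy =>
      obtain ⟨i, rfl⟩ := hy
      fin_cases i
      · exact hmemU 1
      · show L (L v) ∈ U
        rw [hLL]
        exact U.sub_mem (U.neg_mem (U.smul_mem _ (hmemU 1))) (U.smul_mem _ (hmemU 0))
      · exact hmemU 3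
      · show L (L w) ∈ U
        rw [hLL]
        exact U.sub_mem (U.neg_mem (U.smul_mem _ (hmemU 3))) (U.smul_mem _ (hmemU 2))
    | zero => rw [map_zero]; exact U.zero_mem
    | add a b _ _ ha hb => rw [map_add]; exact U.add_mem ha hb
    | smul c a _ ha => rw [map_smul]; exact U.smul_mem _ ha
  have hBnd : B.Nondegenerate := ⟨fun x hx => hsep x hx, fun y hy => hsep y fun x => by
    rw [← swap' hB, hy x, neg_zero]⟩
  have hdim : finrank F (B.orthogonal U) = 2 := by
    rw [LinearMap.BilinForm.finrank_orthogonal hBnd, hd, hUdim]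
  obtain ⟨x, hx, hx0⟩ := Submodule.exists_mem_ne_zero_of_ne_bot (p := B.orthogonal U) (by
    intro h; rw [h, finrank_bot] at hdim; omega)
  have hLx : L x ∈ B.orthogonal U := fun u hu => by
    show B u (L x) = 0
    rw [← hL]
    exact hx _ (hUL u hu)
  have hli2 : LinearIndependent F ![x, L x] := by
    rw [LinearIndependent.pair_iff]
    intro a b hab
    by_cases hb : b = 0
    · subst hb
      rw [zero_smul, add_zero, smul_eq_zero] at hab
      exact ⟨hab.resolve_right hx0, rfl⟩
    · refine absurd (hnoeig x (-(a / b)) ?_) hx0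
      calc L x = b⁻¹ • (b • L x) := by rw [smul_smul, inv_mul_cancel₀ hb, one_smul]
        _ = _ := by rw [eq_neg_of_add_eq_zero_right hab, smul_neg, smul_smul, neg_smul, div_eq_inv_mul]
  refine hx0 (hsep x fun y => ?_)
  have hsup : U ⊔ B.orthogonal U = ⊤ := by
    have hdis : U ⊓ B.orthogonal U = ⊥ := by
      rw [eq_bot_iff]
      rintro z ⟨hz1, hz2⟩
      obtain ⟨a, rfl⟩ := (Submodule.mem_span_range_iff_exists_fun F).1 hz1
      have : a = 0 := hgram a fun i => by
        rw [← swap' hB, hz2 _ (hmemU i), neg_zero]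
      simp [this]
    refine Submodule.eq_top_of_finrank_eq ?_
    have := Submodule.finrank_sup_add_finrank_inf_eq U (B.orthogonal U)
    rw [hdis, finrank_bot, hUdim, hdim] at this
    omega
  have hspan : Submodule.span F (Set.range ![x, L x]) = B.orthogonal U := by
    refine Submodule.eq_of_le_of_finrank_eq (Submodule.span_le.2 ?_) ?_
    · rintro z ⟨i, rfl⟩
      fin_cases i
      · exact hx
      · exact hLx
    · rw [finrank_span_eq_card hli2, Fintype.card_fin, hdim]
  obtain ⟨u, hu, z, hz, rfl⟩ := Submodule.mem_sup.1 (show y ∈ U ⊔ B.orthogonal U by rw [hsup]; trivial)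
  rw [map_add, ← swap' hB, hx u hu, neg_zero, zero_add]
  rw [← hspan] at hz
  induction hz using Submodule.span_induction with
  | mem y hy =>
    obtain ⟨i, rfl⟩ := hy
    fin_cases i
    · exact hB x
    · exact selfadj_pair hB h2 hL x
  | zero => rw [map_zero]
  | add a b _ _ ha hb => rw [map_add, ha, hb, add_zero]
  | smul c a _ ha => rw [map_smul, ha, smul_zero]

theorem rank_step {n : Module.End F V} {i : ℕ} (hne : n ^ i ≠ 0) (hnil : IsNilpotent n) :
    finrank F (LinearMap.range (n ^ (i + 1))) < finrank F (LinearMap.range (n ^ i)) := by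
  have hle : LinearMap.range (n ^ (i + 1)) ≤ LinearMap.range (n ^ i) := by
    rw [pow_succ]; exact LinearMap.range_comp_le_range _ _
  refine lt_of_le_of_ne (Submodule.finrank_mono hle) fun e => hne ?_
  have heq := Submodule.eq_of_le_of_finrank_eq hle e
  obtain ⟨k, hk⟩ := hnil
  have key : ∀ j, LinearMap.range (n ^ (i + j)) = LinearMap.range (n ^ i) := by
    intro j
    induction j with
    | zero => rfl
    | succ j ih =>
      rw [← Nat.add_assoc, pow_succ', Module.End.mul_eq_comp, LinearMap.range_comp, ih, ← LinearMap.range_comp,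
        ← Module.End.mul_eq_comp, ← pow_succ', heq]
  have := key k
  rw [pow_add, hk, mul_zero, LinearMap.range_zero] at this
  exact LinearMap.range_eq_bot.1 this.symm

theorem rank_drop {N : Module.End F V} (h5 : N ^ 5 = 0) {i : ℕ} (hi : i ≤ 4) :
    finrank F (LinearMap.range (N ^ (i + 1))) + finrank F (LinearMap.range (N ^ 4)) ≤
      finrank F (LinearMap.range (N ^ i)) := by
  set f := N.domRestrict (LinearMap.range (N ^ i)) with hf
  have h1 : LinearMap.range f = LinearMap.range (N ^ (i + 1)) := by
    rw [hf, LinearMap.range_domRestrict, ← LinearMap.range_comp, ← Module.End.mul_eq_comp, ← pow_succ']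
  have h2 : finrank F (LinearMap.range (N ^ 4)) ≤ finrank F (LinearMap.ker f) := by
    have hle : LinearMap.range (N ^ 4) ≤ LinearMap.range (N ^ i) := by
      rw [show (4 : ℕ) = i + (4 - i) by omega, pow_add]
      exact LinearMap.range_comp_le_range _ _
    let ι : LinearMap.range (N ^ 4) →ₗ[F] LinearMap.ker f :=
      (Submodule.inclusion hle).codRestrict _ fun x => LinearMap.mem_ker.2 (by
        obtain ⟨y, hy⟩ := x.2
        show N x.1 = 0
        rw [← hy, ← Module.End.mul_apply, ← pow_succ', h5, LinearMap.zero_apply])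
    refine LinearMap.finrank_le_finrank_of_injective (f := ι) fun a b h => ?_
    have h1 : Submodule.inclusion hle a = Submodule.inclusion hle b := congrArg Subtype.val h
    exact Submodule.inclusion_injective hle h1
  have h3 := LinearMap.finrank_range_add_finrank_ker f
  rw [h1] at h3
  omega

include hB hsep in
/-- The four kinds of isometries. -/
theorem six_cases (hd : finrank F V = 6) (h3 : (3 : F) = 0) {T S : Module.End F V}
    (hT : ∀ x y, B (T x) (T y) = B x y) (hTS : T * S = 1) {h : F[X]} (hirr : Irreducible h)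
    (hh3 : h.natDegree = 3) :
    HasPlane B T ∨
    (∃ J : Module.End F V, aeval J h = 0 ∧ (∀ u v, B (J u) v = B u (J v)) ∧ T * J = J * T) ∨
    (∃ (t : F) (u : V), aeval T ((X ^ 2 - C t * X + 1) ^ 3) = 0 ∧
      LinearIndependent F fun k : Fin 6 => (T ^ k.1) u) ∨
    (∃ ε : F, ε ^ 2 = 1 ∧ (ε • T - 1) ^ 3 = 0 ∧ (ε • T - 1) ^ 2 ≠ 0) := by
  classical
  have h2 := two_ne_zero' h3
  have : Nontrivial V := Module.nontrivial_of_finrank_pos (by omega : 0 < finrank F V)
  have hST : S * T = 1 := mul_eq_one_comm.1 hTS
  set s := T + S with hsdef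
  have hs : ∀ x y, B (s x) y = B x (s y) := sum_selfadj hT hTS
  have hTs : Commute T s := by
    show T * (T + S) = (T + S) * T
    rw [mul_add, add_mul, hTS, hST]
  have hint : IsIntegral F s := Algebra.IsIntegral.isIntegral s
  set μ := minpoly F s
  have hμ0 : μ ≠ 0 := minpoly.ne_zero hint
  have hμm : μ.Monic := minpoly.monic hint
  have hμd : μ.natDegree ≤ 6 := by
    have h1 := natDegree_le_of_dvd (minpoly.dvd F s s.aeval_self_charpoly) s.charpoly_monic.ne_zero
    rw [LinearMap.charpoly_natDegree, hd] at h1
    exact h1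
  obtain ⟨π, hπm, hπi, hπμ⟩ := exists_monic_irreducible_factor μ (minpoly.not_isUnit F s)
  obtain ⟨g, hμg, hπg⟩ := (FiniteMultiplicity.of_not_isUnit hπi.not_isUnit hμ0).exists_eq_pow_mul_and_not_dvd
  set k := multiplicity π μ
  have hk : 0 < k := by
    by_contra hk0
    rw [Nat.le_zero.1 (not_lt.1 hk0), pow_zero, one_mul] at hμg
    exact hπg (hμg ▸ hπμ)
  have hgm : g.Monic := (hπm.pow k).of_mul_monic_left (hμg ▸ hμm)
  by_cases hg1 : g = 1
  swap
  · left
    have hgd : 0 < g.natDegree := Nat.pos_of_ne_zero fun e => hg1 (hgm.natDegree_eq_zero.1 e)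
    have hdeg : μ.natDegree = (π ^ k).natDegree + g.natDegree := by
      rw [hμg]; exact (hπm.pow k).natDegree_mul hgm
    have hkd : 0 < (π ^ k).natDegree := by rw [natDegree_pow]; exact Nat.mul_pos hk hπi.natDegree_pos
    refine hasPlane_of_coprime hB hsep hd hT hTS hs hTs (f := π ^ k) (g := g)
      ((hπi.coprime_iff_not_dvd.2 hπg).pow_left) (by rw [← hμg]; exact minpoly.aeval F s) (fun e => ?_) fun e => ?_
    · have := natDegree_le_of_dvd (minpoly.dvd F s e) (hπm.pow k).ne_zero
      change μ.natDegree ≤ _ at this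
      omega
    · have := natDegree_le_of_dvd (minpoly.dvd F s e) hgm.ne_zero
      change μ.natDegree ≤ _ at this
      omega
  rw [hg1, mul_one] at hμg
  have hkd : k * π.natDegree ≤ 6 := by rw [← natDegree_pow, ← hμg]; exact hμd
  have hsfin : Finite (AdjoinRoot μ) :=
    have := hμm.finite_adjoinRoot
    Module.finite_of_finite F
  have hfactor : ∀ π' : F[X], π'.Monic → Irreducible π' → π' ∣ μ → π' = π := fun π' hm' hi' hd' =>
    eq_of_monic_of_associated hm' hπm ((hi'.dvd_irreducible_iff_associated hπi).1
      (hi'.prime.dvd_of_dvd_pow (hμg ▸ hd')))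
  have poly_root : ∀ f : F[X], Irreducible f → f.natDegree ∣ π.natDegree →
      ∃ p : F[X], aeval (aeval s p) f = 0 := by
    intro f hf hfd
    obtain ⟨a, ha⟩ := exists_root (x := AdjoinRoot.root μ) (AdjoinRoot.eval₂_root μ) hf
      fun π' hm' hi' hd' => by rw [hfactor π' hm' hi' hd']; exact hfd
    obtain ⟨p, rfl⟩ := AdjoinRoot.mk_surjective a
    obtain ⟨τ, hτ⟩ : μ ∣ f.comp p := by
      rw [← AdjoinRoot.mk_eq_zero, comp_eq_aeval, ← ha]
      exact (aeval_algHom_apply (AdjoinRoot.mkₐ μ) p f).symm
    exact ⟨p, by rw [← aeval_comp, hτ, map_mul, minpoly.aeval, zero_mul]⟩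
  by_cases h3d : 3 ∣ π.natDegree
  · obtain ⟨p, hp⟩ := poly_root h hirr (hh3.symm ▸ h3d)
    refine Or.inr (Or.inl ⟨aeval s p, hp, poly_selfadj hs p, ?_⟩)
    have hc : ∀ a ∈ Algebra.adjoin F {s}, Commute T a := fun a ha =>
      Algebra.commute_of_mem_adjoin_singleton_of_commute ha hTs
    exact hc _ (aeval_mem_adjoin_singleton F s)
  have hd1 : π.natDegree = 1 := by
    obtain ⟨L, hL⟩ := poly_root π hπi dvd_rfl
    have hdvd := natDegree_dvd_finrank hπi hL
    rw [hd] at hdvd
    have hne2 : π.natDegree ≠ 2 := fun e =>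
      no_quadratic hB hsep hd h2 (poly_selfadj hs L) hπm hπi e hL
    have := Nat.le_of_dvd (by norm_num) hdvd
    have := hπi.natDegree_pos
    interval_cases hp : π.natDegree <;> omega
  obtain ⟨t, hπt⟩ : ∃ t, π = X - C t := ⟨-π.coeff 0, by
    conv_lhs => rw [hπm.eq_X_add_C hd1]
    simp⟩
  set n := s - t • (1 : Module.End F V) with hndef
  have hnk : n ^ k = 0 := by
    have h1 : aeval s μ = 0 := minpoly.aeval F s
    rw [hμg, hπt, map_pow, map_sub, aeval_X, aeval_C, Algebra.algebraMap_eq_smul_one] at h1
    exact h1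
  have hnil : IsNilpotent n := ⟨k, hnk⟩
  have hn : ∀ x y, B (n x) y = B x (n y) := fun x y => by
    simp only [hndef, LinearMap.sub_apply, LinearMap.smul_apply, Module.End.one_apply, map_sub, map_smul, hs]
  have hnp : ∀ i x y, B ((n ^ i) x) y = B x ((n ^ i) y) := fun i => by
    have := poly_selfadj hn (X ^ i : F[X])
    simpa using this
  have hTn : Commute T n := hTs.sub_right ((Commute.one_right T).smul_right t)
  have hq : aeval T (X ^ 2 - C t * X + 1) = T * n := by
    simp only [map_add, map_sub, map_pow, map_mul, aeval_X, aeval_C, map_one, hndef, mul_sub, hsdef, mul_add,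
      hTS, mul_smul_comm, mul_one, Algebra.algebraMap_eq_smul_one, smul_mul_assoc, one_mul, pow_two]
    abel
  have hev : ∀ i, Even (finrank F (LinearMap.range (n ^ i))) := fun i => even_rank hB hsep h2 (hnp i)
  have hn3 : n ^ 3 = 0 := by
    by_contra hne
    have hz : ∀ i, i ≤ 3 → n ^ i ≠ 0 := fun i hi e => hne (by
      rw [show (3 : ℕ) = i + (3 - i) by omega, pow_add, e, zero_mul])
    have r0 : finrank F (LinearMap.range (n ^ 0)) = 6 := by
      rw [pow_zero, Module.End.one_eq_id, LinearMap.range_id, finrank_top, hd]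
    have r1 := rank_step (hz 0 (by norm_num)) hnil
    have r2 := rank_step (hz 1 (by norm_num)) hnil
    have r3 := rank_step (hz 2 (by norm_num)) hnil
    have r4 : 0 < finrank F (LinearMap.range (n ^ 3)) :=
      Submodule.one_le_finrank_iff.2 fun e => hne (LinearMap.range_eq_bot.1 e)
    obtain ⟨a, ha⟩ := hev (0 + 1)
    obtain ⟨b, hb⟩ := hev (1 + 1)
    obtain ⟨c, hc⟩ := hev (2 + 1)
    simp only [Nat.reduceAdd] at r1 r2 r3 ha hb hc
    omega
  have hq3 : aeval T ((X ^ 2 - C t * X + 1) ^ 3) = 0 := by
    rw [map_pow, hq, hTn.mul_pow, hn3, mul_zero]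
  have hTinj : ∀ x, T x = 0 → x = 0 := fun x hx => by
    rw [← Module.End.one_apply (R := F) x, ← hST, Module.End.mul_apply, hx, map_zero]
  have hTSval : ∀ c : F, c ≠ 0 → ∀ m : Module.End F V, Commute T m → m * (T - S) = 0 →
      m * n = 0 → m ≠ 0 → t ≠ 0 ∧ (t / 2) ^ 2 = 1 ∧ m * T = (t / 2) • m := by
    intro c _ m hTm hm hmn hm0
    have e1 : m * T = (t / 2) • m := by
      have e : (2 : F) • (m * T) = t • m := by
        have e' : m * n + m * (T - S) + t • m = (2 : F) • (m * T) := by
          simp only [hndef, hsdef, mul_sub, mul_add, mul_smul_comm, mul_one]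
          rw [two_smul]
          abel
        rw [← e', hmn, hm, zero_add, zero_add]
      rw [div_eq_inv_mul, ← smul_smul, ← e, smul_smul, inv_mul_cancel₀ h2, one_smul]
    have e2 : m * S = (t / 2) • m := by
      rw [mul_sub, sub_eq_zero] at hm
      rw [← hm, e1]
    have e3 : ((t / 2) ^ 2) • m = m := by
      calc ((t / 2) ^ 2) • m = (t / 2) • (m * T) := by rw [e1, smul_smul, pow_two]
        _ = m * S * T := by rw [e2, smul_mul_assoc]
        _ = m := by rw [mul_assoc, hST, mul_one]
    have e4 : (t / 2) ^ 2 = 1 := by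
      by_contra hne
      refine hm0 ?_
      have : ((t / 2) ^ 2 - 1) • m = 0 := by rw [sub_smul, one_smul, e3, sub_self]
      exact (smul_eq_zero.1 this).resolve_left (sub_ne_zero.2 hne)
    refine ⟨fun ht => ?_, e4, e1⟩
    rw [ht, zero_div, zero_pow two_ne_zero] at e4
    exact zero_ne_one e4
  have hskew : ∀ m : Module.End F V, (∀ x y, B (m x) y = B x (m y)) → Commute T m →
      (∀ v, B v (m (T v)) = 0) → m * (T - S) = 0 := by
    intro m hm hTm hz
    refine LinearMap.ext fun y => hsep _ fun x => ?_
    have h0 := hz (x + y)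
    simp only [map_add, LinearMap.add_apply, hz, zero_add, add_zero] at h0
    have e1 : B y (m (T x)) = B (m y) (T x) := (hm y (T x)).symm
    have e2 : B (m y) (T x) = B (S (m y)) x := (inv_left_adjoint hT hTS _ _).symm
    have e3 : S (m y) = m (S y) := LinearMap.congr_fun
      (show S * m = m * S from calc S * m = S * (m * (T * S)) := by rw [hTS, mul_one]
        _ = S * ((m * T) * S) := by rw [mul_assoc m T S]
        _ = S * ((T * m) * S) := by rw [hTm.eq]
        _ = m * S := by rw [mul_assoc T m S, ← mul_assoc S T, hST, one_mul]) y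
    rw [e1, e2, e3, ← swap' hB (m (T y)) x] at h0
    simp only [Module.End.mul_apply, LinearMap.sub_apply, map_sub]
    linear_combination -h0
  by_cases hn2 : n ^ 2 = 0
  · by_cases hn0 : n = 0
    · left
      by_cases hv : ∃ v, B v (T v) ≠ 0
      · obtain ⟨v, hv⟩ := hv
        set W := Submodule.span F ({v, T v} : Set V)
        have hTT : T (T v) = t • T v - v := by
          have h1 := LinearMap.congr_fun hq v
          simp only [hn0, mul_zero, map_add, map_sub, map_pow, map_mul, aeval_X, aeval_C, map_one, pow_two,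
            LinearMap.add_apply, LinearMap.sub_apply, Module.End.mul_apply, Module.algebraMap_end_apply,
            Module.End.one_apply, LinearMap.zero_apply] at h1
          linear_combination (norm := module) h1
        have hTv : B (T v) v = -B v (T v) := (swap' hB v (T v)).symm
        have hli : LinearIndependent F ![v, T v] := by
          rw [LinearIndependent.pair_iff]
          intro a b hab
          have h1 := congrArg (B v) hab
          have h2' := congrArg (B (T v)) hab
          simp only [map_add, map_smul, hB v, hB (T v), hTv, smul_eq_mul, mul_zero, zero_add, add_zero, map_zero,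
            mul_eq_zero, neg_eq_zero, hv, or_false] at h1 h2'
          exact ⟨h2', h1⟩
        refine hasPlane_of_two hB hsep (U := W) (fun x hx => ?_) (fun x hx hxy => ?_) ?_
        · induction hx using Submodule.span_induction with
          | mem y hy =>
            rcases hy with rfl | rfl
            · exact Submodule.subset_span (by simp)
            · rw [hTT]
              exact W.sub_mem (W.smul_mem _ (Submodule.subset_span (by simp))) (Submodule.subset_span (by simp))
          | zero => rw [map_zero]; exact W.zero_mem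
          | add a b _ _ ha hb => rw [map_add]; exact W.add_mem ha hb
          | smul c a _ ha => rw [map_smul]; exact W.smul_mem _ ha
        · obtain ⟨a, b, rfl⟩ := Submodule.mem_span_pair.1 hx
          have h1 := hxy v (Submodule.subset_span (by simp))
          have h2' := hxy (T v) (Submodule.subset_span (by simp))
          simp only [map_add, map_smul, LinearMap.add_apply, LinearMap.smul_apply, hB v, hB (T v), hTv,
            smul_eq_mul, mul_zero, zero_add, add_zero, mul_eq_zero, neg_eq_zero, hv, or_false] at h1 h2'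
          rw [h1, h2', zero_smul, zero_smul, add_zero]
        · have := finrank_span_eq_card hli
          rwa [Fintype.card_fin, Matrix.range_cons_cons_empty] at this
      · push Not at hv
        have h1 := hskew 1 (fun x y => rfl) (Commute.one_right T) hv
        obtain ⟨-, -, e⟩ := hTSval 1 one_ne_zero 1 (Commute.one_right T) h1 (by rw [hn0, mul_zero]) one_ne_zero
        rw [one_mul] at e
        obtain ⟨v, hv0⟩ := exists_ne (0 : V)
        obtain ⟨y, hy⟩ : ∃ y, B v y ≠ 0 := by
          by_contra! h; exact hv0 (hsep v h)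
        refine ⟨v, (B v y)⁻¹ • y, by rw [map_smul, smul_eq_mul, inv_mul_cancel₀ hy], ?_, ?_⟩ <;>
          rw [e, LinearMap.smul_apply, Module.End.one_apply] <;>
          exact Submodule.smul_mem _ _ (Submodule.subset_span (by simp))
    by_cases hv : ∃ v, B v (n (T v)) ≠ 0
    · left
      obtain ⟨v, hv⟩ := hv
      set a := B v (n (T v)) with ha
      let vec : Fin 4 → V := ![v, T v, n v, n (T v)]
      set W := Submodule.span F (Set.range vec)
      have hnn : ∀ x, n (n x) = 0 := fun x => by
        rw [← Module.End.mul_apply, ← pow_two, hn2, LinearMap.zero_apply]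
      have hTn' : ∀ x, T (n x) = n (T x) := fun x => LinearMap.congr_fun hTn.eq x
      have hTT : ∀ x, T (T x) = t • T x - x + n (T x) := fun x => by
        have h1 := LinearMap.congr_fun hq x
        simp only [map_add, map_sub, map_pow, map_mul, aeval_X, aeval_C, map_one, pow_two,
          LinearMap.add_apply, LinearMap.sub_apply, Module.End.mul_apply, Module.algebraMap_end_apply,
          Module.End.one_apply, hTn'] at h1
        linear_combination (norm := module) h1
      have m1 : B v (n v) = 0 := selfadj_pair hB h2 hn v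
      have m2 : B (n v) v = 0 := by rw [← swap' hB, m1, neg_zero]
      have m3 : B (n (T v)) v = -a := (swap' hB _ _).symm
      have m4 : B (T v) (n v) = -a := by rw [← hn, m3]
      have m5 : B (n v) (T v) = a := by rw [← swap' hB, m4, neg_neg]
      have m6 : B (T v) (n (T v)) = 0 := selfadj_pair hB h2 hn _
      have m7 : B (n (T v)) (T v) = 0 := by rw [← swap' hB, m6, neg_zero]
      have m8 : B (n v) (n (T v)) = 0 := by rw [hn, hnn, map_zero]
      have m9 : B (n (T v)) (n v) = 0 := by rw [hn, hnn, map_zero]
      have hgram : ∀ c : Fin 4 → F, (∀ i, B (∑ j, c j • vec j) (vec i) = 0) → c = 0 := by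
        intro c hc
        have e0 := hc 0
        have e1 := hc 1
        have e2 := hc 2
        have e3 := hc 3
        simp [Fin.sum_univ_four, vec, hB v, hB (T v), hB (n v), hB (n (T v)), ← ha, m1, m2, m3, m4, m5, m6, m7,
          m8, m9, hv] at e2 e3
        simp [Fin.sum_univ_four, vec, hB v, hB (T v), hB (n v), hB (n (T v)), ← ha, m1, m2, m3, m4, m5, m6, m7,
          m8, m9, hv, e2, e3] at e0 e1
        funext i
        fin_cases i <;> assumption
      have hli : LinearIndependent F vec := Fintype.linearIndependent_iff.2 fun c hc i => by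
        rw [hgram c fun i => by rw [hc, map_zero, LinearMap.zero_apply]]; rfl
      have hmem : ∀ i, vec i ∈ W := fun i => Submodule.subset_span ⟨i, rfl⟩
      have hdim : finrank F W = 4 := by rw [finrank_span_eq_card hli, Fintype.card_fin]
      refine hasPlane_of_nondeg hB hsep hd hT hTS (W := W) (fun x hx => ?_) (fun x hx hxy => ?_) ?_ ?_
      · induction hx using Submodule.span_induction with
        | mem y hy =>
          obtain ⟨i, rfl⟩ := hy
          fin_cases i
          · exact hmem 1
          · show T (T v) ∈ W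
            rw [hTT]
            exact W.add_mem (W.sub_mem (W.smul_mem _ (hmem 1)) (hmem 0)) (hmem 3)
          · show T (n v) ∈ W
            rw [hTn']
            exact hmem 3
          · show T (n (T v)) ∈ W
            rw [hTn', hTT, map_add, map_sub, map_smul, hnn, add_zero]
            exact W.sub_mem (W.smul_mem _ (hmem 3)) (hmem 2)
        | zero => rw [map_zero]; exact W.zero_mem
        | add a b _ _ ha hb => rw [map_add]; exact W.add_mem ha hb
        | smul c a _ ha => rw [map_smul]; exact W.smul_mem _ ha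
      · obtain ⟨c, rfl⟩ := (Submodule.mem_span_range_iff_exists_fun F).1 hx
        have : c = 0 := hgram c fun i => hxy _ (hmem i)
        simp [this]
      · intro h; rw [h, finrank_bot] at hdim; omega
      · intro h; rw [h, finrank_top, hd] at hdim; omega
    push Not at hv
    obtain ⟨ht, hc, e⟩ := hTSval 1 one_ne_zero n hTn (hskew n hn hTn hv) (by rw [← pow_two, hn2]) hn0
    refine Or.inr (Or.inr (Or.inr ⟨t / 2, hc, ?_⟩))
    have eN : ((t / 2) • T - 1) ^ 2 = T * n := by
      rw [← hq]
      have hc' : t = 2 * (t / 2) := by field_simp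
      simp only [map_add, map_sub, map_pow, map_mul, aeval_X, aeval_C, map_one, pow_two, sub_mul, mul_sub,
        smul_mul_smul_comm, one_mul, mul_one, Algebra.algebraMap_eq_smul_one, smul_mul_assoc]
      simp only [mul_smul_comm, smul_smul]
      rw [← pow_two (t / 2), hc, one_smul]
      conv_rhs => rw [hc', ← smul_smul, two_smul]
      abel
    refine ⟨?_, ?_⟩
    · rw [pow_succ, eN, mul_sub, mul_one, mul_smul_comm, hTn.eq, e, smul_mul_assoc, e, smul_smul, ← pow_two, hc,
        one_smul, sub_eq_zero, ← e]
    · rw [eN]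
      exact fun h => hn0 (by rw [← one_mul n, ← hST, mul_assoc, h, mul_zero])
  by_cases hv : ∃ v, B v ((n ^ 2) (T v)) ≠ 0
  · obtain ⟨v, hv⟩ := hv
    refine Or.inr (Or.inr (Or.inl ⟨t, v, hq3, ?_⟩))
    set q : F[X] := X ^ 2 - C t * X + 1
    have hqdeg : q.natDegree = 2 := by simp only [q]; compute_degree!
    have hqm : q.Monic := by simp only [q]; monicity!
    have hTn' : ∀ i x, T ((n ^ i) x) = (n ^ i) (T x) := fun i x =>
      LinearMap.congr_fun (hTn.pow_right i).eq x
    have key : ∀ p : F[X], (n ^ 2) (aeval T p v) = 0 → q ∣ p := by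
      intro p hp
      rw [← modByMonic_eq_zero_iff_dvd hqm]
      set r := p %ₘ q
      have hr : r.natDegree < 2 := hqdeg ▸ natDegree_modByMonic_lt p hqm (fun e => by
        have := congrArg natDegree e; rw [hqdeg, natDegree_one] at this; omega)
      rw [← modByMonic_add_div p q, map_add, map_mul, hq, LinearMap.add_apply, map_add,
        Module.End.mul_apply, Module.End.mul_apply, ← hTn' 2, show (n ^ 2) (n (aeval T (p /ₘ q) v)) = 0 by
          rw [← Module.End.mul_apply, ← pow_succ, hn3, LinearMap.zero_apply], map_zero, add_zero] at hp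
      rw [aeval_eq_sum_range' hr] at hp
      simp only [Finset.sum_range_succ, Finset.sum_range_zero, zero_add, pow_zero, pow_one, LinearMap.add_apply,
        LinearMap.smul_apply, Module.End.one_apply, map_add, map_smul] at hp
      have h1 := congrArg (B v) hp
      rw [map_add, map_smul, map_smul, map_zero, selfadj_pair hB h2 (hnp 2) v, smul_eq_mul, smul_eq_mul,
        mul_zero, zero_add, mul_eq_zero] at h1
      have c1 : r.coeff 1 = 0 := h1.resolve_right hv
      rw [c1, zero_smul, add_zero, smul_eq_zero] at hp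
      have c0 : r.coeff 0 = 0 := hp.resolve_right fun e => hv (by rw [← hTn' 2, e, map_zero, map_zero])
      rw [r.as_sum_range' 2 hr]
      simp [Finset.sum_range_succ, c0, c1]
    rw [Fintype.linearIndependent_iff]
    intro c hc
    let p : F[X] := ∑ i : Fin 6, C (c i) * X ^ i.1
    have hp : aeval T p v = 0 := by
      simp only [p, map_sum, LinearMap.sum_apply, map_mul, aeval_C, map_pow, aeval_X, Module.End.mul_apply,
        Module.algebraMap_end_apply]
      exact hc
    have hpd : p.natDegree < 6 := lt_of_le_of_lt (natDegree_sum_le_of_forall_le (n := 5) _ _ fun i _ =>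
      (natDegree_C_mul_X_pow_le _ _).trans (by omega)) (by norm_num)
    obtain ⟨p₁, hp₁⟩ := key p (by rw [hp, map_zero])
    have hnp1 : n (aeval T p₁ v) = 0 := by
      refine hTinj _ ?_
      rw [hp₁, map_mul, hq, Module.End.mul_apply, Module.End.mul_apply] at hp
      exact hp
    obtain ⟨p₂, hp₂⟩ := key p₁ (by rw [pow_two, Module.End.mul_apply, hnp1, map_zero])
    have hnp2 : (n ^ 2) (aeval T p₂ v) = 0 := by
      refine hTinj _ ?_
      rw [hp₂, map_mul, hq, Module.End.mul_apply, Module.End.mul_apply,
        ← Module.End.mul_apply (f := n) (g := T), ← hTn.eq, Module.End.mul_apply] at hnp1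
      rw [pow_two, Module.End.mul_apply]
      exact hnp1
    obtain ⟨p₃, hp₃⟩ := key p₂ hnp2
    have hp0 : p = 0 := by
      by_contra hne
      have h6 : (q ^ 3).natDegree ≤ p.natDegree :=
        natDegree_le_of_dvd ⟨p₃, by rw [hp₁, hp₂, hp₃]; ring⟩ hne
      rw [natDegree_pow, hqdeg] at h6
      omega
    intro i
    have := congrArg (fun f => coeff f i.1) hp0
    simpa [p, finsetSum_coeff, coeff_X_pow, Fin.val_inj] using this
  exfalso
  push Not at hv
  obtain ⟨ht, hc, e⟩ := hTSval 1 one_ne_zero (n ^ 2) (hTn.pow_right 2) (hskew _ (hnp 2) (hTn.pow_right 2) hv)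
    (by rw [← pow_succ, hn3]) hn2
  set N := (t / 2) • T - 1 with hN
  have eN : N ^ 2 = T * n := by
    rw [← hq, hN]
    have hc' : t = 2 * (t / 2) := by field_simp
    simp only [map_add, map_sub, map_pow, map_mul, aeval_X, aeval_C, map_one, pow_two, sub_mul, mul_sub,
      smul_mul_smul_comm, one_mul, mul_one, Algebra.algebraMap_eq_smul_one, smul_mul_assoc]
    simp only [mul_smul_comm, smul_smul]
    rw [← pow_two (t / 2), hc, one_smul]
    conv_rhs => rw [hc', ← smul_smul, two_smul]
    abel
  have h4 : N ^ 4 = n ^ 2 := by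
    rw [show N ^ 4 = (N ^ 2) ^ 2 by rw [← pow_mul], eN, hTn.mul_pow, pow_two T, mul_assoc,
      ((hTn.pow_right 2)).eq, e, mul_smul_comm, ((hTn.pow_right 2)).eq, e, smul_smul, ← pow_two, hc, one_smul]
  have h5 : N ^ 5 = 0 := by
    rw [pow_succ, h4, hN, mul_sub, mul_one, mul_smul_comm, e, smul_smul, ← pow_two, hc, one_smul, sub_self]
  have r4 : 2 ≤ finrank F (LinearMap.range (N ^ 4)) := by
    rw [h4]
    obtain ⟨a, ha⟩ := hev 2
    have := (Submodule.one_le_finrank_iff (R := F)).2 (fun e => hn2 (LinearMap.range_eq_bot.1 e))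
    omega
  have r0 : finrank F (LinearMap.range (N ^ 0)) = 6 := by
    rw [pow_zero, Module.End.one_eq_id, LinearMap.range_id, finrank_top, hd]
  have d0 := rank_drop h5 (i := 0) (by norm_num)
  have d1 := rank_drop h5 (i := 1) (by norm_num)
  have d2 := rank_drop h5 (i := 2) (by norm_num)
  have d3 := rank_drop h5 (i := 3) (by norm_num)
  simp only [Nat.reduceAdd] at d0 d1 d2 d3
  omega

end Cfsg.Agent.NormalCover.SympSix
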