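import Cfsg.Agent.Lib.NormalCover.SympSix

/-!
Models in the cubic extension for six-dimensional symplectic spaces in characteristic three.
-/

set_option autoImplicit false
set_option linter.unusedSectionVars false

namespace Cfsg.Agent.NormalCover.SympSix

open Polynomial
open Module (finrank)

variable {F : Type*} [Field F] [Fintype F] {h : F[X]} [hirr : Fact (Irreducible h)]

/-- The symplectic form on two copies of the cubic extension. -/
noncomputable def sform (h : F[X]) (p p' : AdjoinRoot h × AdjoinRoot h) : F :=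
  Algebra.trace F (AdjoinRoot h) (p.1 * p'.2 - p.2 * p'.1)

section Twist

variable (hd : h.natDegree = 3) (h3 : (3 : F) = 0)

include hd in
/-- A normal element. -/
theorem exists_normal : ∃ x : AdjoinRoot h, LinearIndependent F
    ![x, x ^ Fintype.card F, (x ^ Fintype.card F) ^ Fintype.card F] := by
  have := (AdjoinRoot.powerBasis hirr.out.ne_zero).finite
  have : Finite (AdjoinRoot h) := Module.finite_of_finite F
  have hE : finrank F (AdjoinRoot h) = 3 := by
    rw [(AdjoinRoot.powerBasis hirr.out.ne_zero).finrank, AdjoinRoot.powerBasis_dim, hd]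
  obtain ⟨x, hx⟩ := exists_linearIndependent_algEquiv_apply (K := F) (L := AdjoinRoot h)
  refine ⟨x, ?_⟩
  let e : Fin 3 → (AdjoinRoot h ≃ₐ[F] AdjoinRoot h) := fun i =>
    FiniteField.frobeniusAlgEquivOfAlgebraic F (AdjoinRoot h) ^ i.1
  have hinj : Function.Injective e := fun i j hij => by
    have := (FiniteField.bijective_frobeniusAlgEquivOfAlgebraic_pow F (AdjoinRoot h)).1
      (a₁ := Fin.cast hE.symm i) (a₂ := Fin.cast hE.symm j) hij
    exact Fin.cast_injective _ this
  have h1 := hx.comp e hinj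
  convert h1 using 1
  funext i
  fin_cases i <;> simp [e, pow_two, FiniteField.coe_frobeniusAlgEquivOfAlgebraic]

include hd in
theorem exists_trace_ne : ∃ x : AdjoinRoot h, Algebra.trace F (AdjoinRoot h) x ≠ 0 := by
  have := (AdjoinRoot.powerBasis hirr.out.ne_zero).finite
  have : Algebra.IsSeparable F (AdjoinRoot h) := inferInstance
  by_contra! h1
  exact one_ne_zero ((traceForm_nondegenerate F (AdjoinRoot h)).1 1 fun y => h1 (1 * y))

include hd in
theorem frob_three (x : AdjoinRoot h) :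
    FiniteField.frobeniusAlgHom F (AdjoinRoot h) (FiniteField.frobeniusAlgHom F (AdjoinRoot h)
      (FiniteField.frobeniusAlgHom F (AdjoinRoot h) x)) = x := by
  have := (AdjoinRoot.powerBasis hirr.out.ne_zero).finite
  have : Finite (AdjoinRoot h) := Module.finite_of_finite F
  let _ : Fintype (AdjoinRoot h) := Fintype.ofFinite _
  have hc : Fintype.card (AdjoinRoot h) = Fintype.card F ^ 3 := by
    rw [Module.card_eq_pow_finrank (K := F), (AdjoinRoot.powerBasis hirr.out.ne_zero).finrank,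
      AdjoinRoot.powerBasis_dim, hd]
  show ((x ^ Fintype.card F) ^ Fintype.card F) ^ Fintype.card F = x
  rw [← pow_mul, ← pow_mul, ← mul_assoc, ← pow_two, ← pow_succ, ← hc, FiniteField.pow_card]

theorem sform_frob (x : AdjoinRoot h) :
    Algebra.trace F (AdjoinRoot h) (FiniteField.frobeniusAlgHom F (AdjoinRoot h) x) =
      Algebra.trace F (AdjoinRoot h) x := by
  have := (AdjoinRoot.powerBasis hirr.out.ne_zero).finite
  exact Algebra.trace_eq_of_algEquiv (FiniteField.frobeniusAlgEquivOfAlgebraic F (AdjoinRoot h)) x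

include h3 in
theorem three_ext : (3 : AdjoinRoot h) = 0 := by
  rw [← map_ofNat (algebraMap F (AdjoinRoot h)) 3, h3, map_zero]

include hd h3 in
/-- A twisted map with the given cyclic characteristic polynomial. -/
theorem exists_twisted (t : F) : ∃ f : Module.End F (AdjoinRoot h × AdjoinRoot h),
    (∀ p p', sform h (f p) (f p') = sform h p p') ∧
    (∀ (r : AdjoinRoot h) p, f (r * p.1, r * p.2) =
      (r ^ Fintype.card F * (f p).1, r ^ Fintype.card F * (f p).2)) ∧
    aeval f ((X ^ 2 - C t * X + 1) ^ 3) = 0 ∧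
    ∃ u, LinearIndependent F fun k : Fin 6 => (f ^ k.1) u := by
  classical
  have three := three_ext (h := h) h3
  have f3 := frob_three (h := h) hd
  set φ := FiniteField.frobeniusAlgHom F (AdjoinRoot h)
  have hφ : ∀ r, φ r = r ^ Fintype.card F := fun r => rfl
  obtain ⟨ξ, hξ⟩ := exists_normal (h := h) hd
  rw [← hφ, ← hφ] at hξ
  have hpoly : (X ^ 2 - C t * X + 1) ^ 3 = (X ^ 3) ^ 2 - C (t ^ 3) * X ^ 3 + (1 : F[X]) := by
    have e3 : (3 : F[X]) = 0 := by rw [← map_ofNat C 3, h3, map_zero]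
    rw [map_pow]
    linear_combination (-(C t) * X ^ 5 + (1 + (C t) ^ 2) * X ^ 4 - 2 * C t * X ^ 3 + (1 + (C t) ^ 2) * X ^ 2
      - C t * X) * e3
  set a := algebraMap F (AdjoinRoot h) t with ha
  have hfa : φ a = a := φ.commutes t
  -- evaluation
  have hq : ∀ (f : Module.End F (AdjoinRoot h × AdjoinRoot h)),
      (∀ p, f (f (f (f (f (f p))))) - t ^ 3 • f (f (f p)) + p = 0) →
      aeval f ((X ^ 2 - C t * X + 1) ^ 3) = 0 := fun f hf => by
    refine LinearMap.ext fun p => ?_
    simp only [hpoly, map_add, map_sub, map_mul, map_pow, map_one, aeval_X, aeval_C, LinearMap.add_apply,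
      LinearMap.sub_apply, Module.End.mul_apply, Module.End.one_apply, LinearMap.zero_apply, ← pow_mul]
    rw [← map_pow, Module.algebraMap_end_apply]
    exact hf p
  have coord : ∀ c : Fin 3 → F, c 0 • ξ + c 1 • φ ξ + c 2 • φ (φ ξ) = 0 → c 0 = 0 ∧ c 1 = 0 ∧ c 2 = 0 := by
    intro c hc
    have := Fintype.linearIndependent_iff.1 hξ c (by simpa [Fin.sum_univ_three] using hc)
    exact ⟨this 0, this 1, this 2⟩
  have hpow : ∀ (f : Module.End F (AdjoinRoot h × AdjoinRoot h)) p (c : Fin 6 → F),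
      ∑ k : Fin 6, c k • (f ^ k.1) p = c 0 • p + c 1 • f p + c 2 • f (f p) + c 3 • f (f (f p)) +
        c 4 • f (f (f (f p))) + c 5 • f (f (f (f (f p)))) := fun f p c => by
    simp [Fin.sum_univ_six, Module.End.coe_pow, Function.iterate_succ_apply']
  by_cases ht : t ^ 2 = 1
  · obtain ⟨e, he⟩ := exists_trace_ne (h := h) hd
    set τ := Algebra.trace F (AdjoinRoot h) e
    have hsum : e + φ e + φ (φ e) = algebraMap F (AdjoinRoot h) τ := by
      have := (AdjoinRoot.powerBasis hirr.out.ne_zero).finite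
      have : Finite (AdjoinRoot h) := Module.finite_of_finite F
      rw [FiniteField.algebraMap_trace_eq_sum_pow,
        show finrank F (AdjoinRoot h) = 3 by
          rw [(AdjoinRoot.powerBasis hirr.out.ne_zero).finrank, AdjoinRoot.powerBasis_dim, hd],
        Nat.card_eq_fintype_card]
      simp [Finset.sum_range_succ, hφ, ← pow_mul, pow_two]
    let f : Module.End F (AdjoinRoot h × AdjoinRoot h) := LinearMap.prod
      ((-t) • (φ.toLinearMap ∘ₗ LinearMap.fst F _ _ +
        LinearMap.mulLeft F e ∘ₗ φ.toLinearMap ∘ₗ LinearMap.snd F _ _))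
      ((-t) • (φ.toLinearMap ∘ₗ LinearMap.snd F _ _))
    have hf : ∀ p, f p = (-a * (φ p.1 + e * φ p.2), -a * φ p.2) := fun p => by
      refine Prod.ext ?_ ?_ <;> simp [f, Algebra.smul_def, ha, mul_add, neg_add_rev]
    have haa : a * a = 1 := by rw [ha, ← map_mul, ← pow_two, ht, map_one]
    have hf3 : ∀ p, f (f (f p)) = (-a * (p.1 + algebraMap F _ τ * p.2), -a * p.2) := fun p => by
      simp only [hf, map_add, map_mul, map_neg, hfa, f3]
      refine Prod.ext ?_ ?_
      · linear_combination (-a * p.1 - a * (e + φ e + φ (φ e)) * p.2) * haa + (-a * p.2) * hsum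
      · linear_combination (-a * p.2) * haa
    refine ⟨f, fun p p' => ?_, fun r p => ?_, hq f fun p => ?_, (0, ξ), ?_⟩
    · simp only [sform, hf]
      rw [← sform_frob (p.1 * p'.2 - p.2 * p'.1)]
      congr 1
      show _ = φ _
      simp only [map_sub, map_mul]
      linear_combination (φ p.1 * φ p'.2 - φ p.2 * φ p'.1) * haa
    · simp only [hf, map_mul, hφ r]
      refine Prod.ext ?_ ?_ <;> ring
    · rw [hf3, hf3]
      refine Prod.ext ?_ ?_ <;>
        simp only [Prod.fst_add, Prod.snd_add, Prod.fst_sub, Prod.snd_sub, Prod.smul_fst, Prod.smul_snd,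
          Prod.fst_zero, Prod.snd_zero] <;>
        simp only [Algebra.smul_def, map_pow, ← ha]
      · linear_combination (p.1 + 2 * algebraMap F _ τ * p.2 + (a * a + 1) * (p.1 + algebraMap F _ τ * p.2)) * haa
          + (p.1 + algebraMap F _ τ * p.2) * three
      · linear_combination (p.2 + (a * a + 1) * p.2) * haa + p.2 * three
    · rw [Fintype.linearIndependent_iff]
      intro c hc
      have e1 : f (0, ξ) = (-a * (e * φ ξ), -a * φ ξ) := by rw [hf]; simp
      have e2 : f (f (0, ξ)) = ((φ e + e) * φ (φ ξ), φ (φ ξ)) := by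
        rw [e1, hf]
        simp only [map_mul, map_neg, hfa]
        refine Prod.ext ?_ ?_
        · linear_combination ((φ e + e) * φ (φ ξ)) * haa
        · linear_combination (φ (φ ξ)) * haa
      have e4 : f (f (f (f (0, ξ)))) = ((e + algebraMap F _ τ) * φ ξ, φ ξ) := by
        rw [hf3, e1]
        refine Prod.ext ?_ ?_
        · linear_combination ((e + algebraMap F _ τ) * φ ξ) * haa
        · linear_combination (φ ξ) * haa
      have e5 : f (f (f (f (f (0, ξ))))) =
          (-a * ((φ e + e + algebraMap F _ τ) * φ (φ ξ)), -a * φ (φ ξ)) := by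
        rw [hf3, e2]
        exact Prod.ext (by ring) rfl
      rw [hpow, e5, e4, hf3, e2, e1] at hc
      have c1 := congrArg Prod.fst hc
      have c2 := congrArg Prod.snd hc
      simp only [Prod.smul_fst, Prod.smul_snd, Prod.fst_add, Prod.snd_add, Prod.fst_zero, Prod.snd_zero,
        smul_zero, zero_add] at c1 c2
      obtain ⟨s0, s1, s2⟩ := coord ![c 0 - t * c 3, -(t * c 1) + c 4, c 2 - t * c 5] (by
        simp only [Matrix.cons_val_zero, Matrix.cons_val_one, Matrix.cons_val, Algebra.smul_def, map_add,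
          map_sub, map_mul, map_neg, ← ha] at c2 ⊢
        linear_combination c2)
      simp only [Matrix.cons_val_zero, Matrix.cons_val_one, Matrix.cons_val] at s0 s1 s2
      obtain ⟨r0, r1, r2⟩ := coord ![-(t * τ * c 3), τ * c 4, -(t * τ * c 5)] (by
        simp only [Matrix.cons_val_zero, Matrix.cons_val_one, Matrix.cons_val, Algebra.smul_def, map_add,
          map_sub, map_mul, map_neg, ← ha] at c1 ⊢
        have q1 : algebraMap F (AdjoinRoot h) (c 4) = a * algebraMap F _ (c 1) := by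
          rw [ha, ← map_mul]; congr 1; linear_combination s1
        have q2 : algebraMap F (AdjoinRoot h) (c 2) = a * algebraMap F _ (c 5) := by
          rw [ha, ← map_mul]; congr 1; linear_combination s2
        linear_combination c1 - e * φ ξ * q1 - (φ e + e) * φ (φ ξ) * q2)
      simp only [Matrix.cons_val_zero, Matrix.cons_val_one, Matrix.cons_val] at r0 r1 r2
      have ht0 : t ≠ 0 := fun e => by rw [e, zero_pow two_ne_zero] at ht; exact zero_ne_one ht
      have z3 : c 3 = 0 := by simpa [ht0, he] using r0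
      have z4 : c 4 = 0 := by simpa [he] using r1
      have z5 : c 5 = 0 := by simpa [ht0, he] using r2
      have z0 : c 0 = 0 := by simpa [z3] using s0
      have z1 : c 1 = 0 := by simpa [z4, ht0] using s1
      have z2 : c 2 = 0 := by simpa [z5] using s2
      intro i
      fin_cases i <;> assumption
  · let f : Module.End F (AdjoinRoot h × AdjoinRoot h) := LinearMap.prod
      (t • (φ.toLinearMap ∘ₗ LinearMap.fst F _ _) - φ.toLinearMap ∘ₗ LinearMap.snd F _ _)
      (φ.toLinearMap ∘ₗ LinearMap.fst F _ _)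
    have hf : ∀ p, f p = (a * φ p.1 - φ p.2, φ p.1) := fun p => by
      refine Prod.ext ?_ ?_ <;> simp [f, Algebra.smul_def, ha]
    have hf3 : ∀ p, f (f (f p)) =
        ((a ^ 3 - 2 * a) * p.1 + (1 - a ^ 2) * p.2, (a ^ 2 - 1) * p.1 - a * p.2) := fun p => by
      simp only [hf, map_sub, map_mul, hfa, f3]
      refine Prod.ext ?_ ?_ <;> ring
    refine ⟨f, fun p p' => ?_, fun r p => ?_, hq f fun p => ?_, (0, ξ), ?_⟩
    · simp only [sform, hf]
      rw [← sform_frob (p.1 * p'.2 - p.2 * p'.1)]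
      congr 1
      show _ = φ _
      simp only [map_sub, map_mul]
      ring
    · simp only [hf, map_mul, hφ r]
      refine Prod.ext ?_ ?_ <;> ring
    · rw [hf3, hf3]
      refine Prod.ext ?_ ?_ <;>
        simp only [Prod.fst_add, Prod.snd_add, Prod.fst_sub, Prod.snd_sub, Prod.smul_fst, Prod.smul_snd,
          Prod.fst_zero, Prod.snd_zero] <;>
        simp only [Algebra.smul_def, map_pow, ← ha]
      · linear_combination (a * (2 * a - a ^ 3) * p.1 + a * (a ^ 2 - 1) * p.2) * three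
      · linear_combination (a * (1 - a ^ 2) * p.1 + a ^ 2 * p.2) * three
    · rw [Fintype.linearIndependent_iff]
      intro c hc
      have e1 : f (0, ξ) = (-φ ξ, 0) := by rw [hf]; simp
      have e2 : f (f (0, ξ)) = (-a * φ (φ ξ), -φ (φ ξ)) := by
        rw [e1, hf]; simp
      have e4 : f (f (f (f (0, ξ)))) = ((2 * a - a ^ 3) * φ ξ, (1 - a ^ 2) * φ ξ) := by
        rw [hf3, e1]
        exact Prod.ext (by ring) (by ring)
      have e5 : f (f (f (f (f (0, ξ))))) = ((-a ^ 4 - 1) * φ (φ ξ), (2 * a - a ^ 3) * φ (φ ξ)) := by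
        rw [hf3, e2]
        exact Prod.ext (by linear_combination a ^ 2 * φ (φ ξ) * three) (by ring)
      rw [hpow, e5, e4, hf3, e2, e1] at hc
      have c1 := congrArg Prod.fst hc
      have c2 := congrArg Prod.snd hc
      simp only [Prod.smul_fst, Prod.smul_snd, Prod.fst_add, Prod.snd_add, Prod.fst_zero, Prod.snd_zero,
        smul_zero, zero_add, mul_zero] at c1 c2
      obtain ⟨r0, r1, r2⟩ := coord
        ![(1 - t ^ 2) * c 3, -c 1 + (2 * t - t ^ 3) * c 4, -(t * c 2) + (-t ^ 4 - 1) * c 5] (by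
        simp only [Matrix.cons_val_zero, Matrix.cons_val_one, Matrix.cons_val, Algebra.smul_def, map_add,
          map_sub, map_mul, map_neg, map_pow, map_one, map_ofNat, ← ha] at c1 ⊢
        linear_combination c1)
      obtain ⟨s0, s1, s2⟩ := coord
        ![c 0 - t * c 3, (1 - t ^ 2) * c 4, -c 2 + (2 * t - t ^ 3) * c 5] (by
        simp only [Matrix.cons_val_zero, Matrix.cons_val_one, Matrix.cons_val, Algebra.smul_def, map_add,
          map_sub, map_mul, map_neg, map_pow, map_one, map_ofNat, ← ha] at c2 ⊢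
        linear_combination c2)
      simp only [Matrix.cons_val_zero, Matrix.cons_val_one, Matrix.cons_val] at r0 r1 r2 s0 s1 s2
      have ht' : (1 : F) - t ^ 2 ≠ 0 := sub_ne_zero.2 (Ne.symm ht)
      have z3 : c 3 = 0 := (mul_eq_zero.1 r0).resolve_left ht'
      have z4 : c 4 = 0 := (mul_eq_zero.1 s1).resolve_left ht'
      have z5 : c 5 = 0 := by
        refine (mul_eq_zero.1 (show (1 - t ^ 2) * c 5 = 0 from ?_)).resolve_left ht'
        linear_combination -r2 + t * s2 + (-t ^ 2 * c 5) * h3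
      have z0 : c 0 = 0 := by linear_combination s0 + t * z3
      have z1 : c 1 = 0 := by linear_combination -r1 + (2 * t - t ^ 3) * z4
      have z2 : c 2 = 0 := by linear_combination -s2 + (2 * t - t ^ 3) * z5
      intro i
      fin_cases i <;> assumption

end Twist

section Space

variable {V : Type*} [AddCommGroup V] [Module F V] [FiniteDimensional F V]
  {B : LinearMap.BilinForm F V} (hB : B.IsAlt) (hsep : ∀ x, (∀ y, B x y = 0) → x = 0)

include hB hsep in
/-- The space of a self-adjoint root of the cubic is the model. -/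
theorem exists_space_model (hd : h.natDegree = 3) (hV : finrank F V = 6) (h2 : (2 : F) ≠ 0)
    {J : Module.End F V} (hJ : ∀ u v, B (J u) v = B u (J v)) (hJ0 : aeval J h = 0) :
    ∃ Ψ : (AdjoinRoot h × AdjoinRoot h) ≃ₗ[F] V, (∀ p p', B (Ψ p) (Ψ p') = sform h p p') ∧
      ∀ p : AdjoinRoot h × AdjoinRoot h, J (Ψ p) = Ψ (AdjoinRoot.root h * p.1, AdjoinRoot.root h * p.2) := by
  classical
  have hE := (AdjoinRoot.powerBasis hirr.out.ne_zero).finite
  let σ : AdjoinRoot h →ₐ[F] Module.End F V := Ideal.Quotient.liftₐ _ (aeval J) fun p hp => by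
    obtain ⟨c, rfl⟩ := Ideal.mem_span_singleton.1 hp
    rw [map_mul, hJ0, zero_mul]
  have hσ : ∀ p, σ (AdjoinRoot.mk h p) = aeval J p := fun p => rfl
  have hadj : ∀ z x y, B (σ z x) y = B x (σ z y) := fun z => by
    obtain ⟨p, rfl⟩ := AdjoinRoot.mk_surjective z
    rw [hσ]
    exact poly_selfadj hJ p
  have : Nontrivial V := Module.nontrivial_of_finrank_pos (by omega : 0 < finrank F V)
  obtain ⟨v, hv⟩ := exists_ne (0 : V)
  let ι₁ : AdjoinRoot h →ₗ[F] V := (LinearMap.applyₗ v) ∘ₗ σ.toLinearMap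
  have hι : Function.Injective ι₁ := fun x y hxy => by
    by_contra hne
    refine hv ?_
    have h1 : σ (x - y) v = 0 := by rw [map_sub, LinearMap.sub_apply]; exact sub_eq_zero.2 hxy
    have h2 := congrArg (σ (x - y)⁻¹) h1
    rw [← Module.End.mul_apply, ← map_mul, inv_mul_cancel₀ (sub_ne_zero.2 hne), map_one, Module.End.one_apply,
      map_zero] at h2
    exact h2
  obtain ⟨g, hg⟩ := LinearMap.exists_extend
    ((Algebra.trace F (AdjoinRoot h)) ∘ₗ (LinearEquiv.ofInjective ι₁ hι).symm.toLinearMap)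
  have hg' : ∀ z, g (σ z v) = Algebra.trace F (AdjoinRoot h) z := fun z => by
    have h1 := LinearMap.congr_fun hg ⟨σ z v, z, rfl⟩
    simp only [LinearMap.comp_apply, Submodule.subtype_apply, LinearEquiv.coe_coe] at h1
    rw [h1]
    congr 1
    exact (LinearEquiv.ofInjective ι₁ hι).symm_apply_apply z
  have hflip : Function.Injective B.flip := by
    rw [← LinearMap.ker_eq_bot, LinearMap.ker_eq_bot']
    exact fun w hw => hsep w fun y => by
      rw [← swap' hB, show B y w = B.flip w y from rfl, hw, LinearMap.zero_apply, neg_zero]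
  obtain ⟨w, hw⟩ := (LinearMap.injective_iff_surjective_of_finrank_eq_finrank
    (Subspace.dual_finrank_eq).symm).1 hflip g
  have hvw : ∀ z, B (σ z v) w = Algebra.trace F (AdjoinRoot h) z := fun z => by
    rw [← hg', ← hw]; rfl
  let Ψ₀ : AdjoinRoot h × AdjoinRoot h →ₗ[F] V :=
    LinearMap.coprod ι₁ ((LinearMap.applyₗ w) ∘ₗ σ.toLinearMap)
  have hform : ∀ p p', B (Ψ₀ p) (Ψ₀ p') = sform h p p' := by
    rintro ⟨a, b⟩ ⟨c, d⟩
    have z : ∀ (x : V) m, B (σ m x) x = 0 := fun x m => by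
      rw [← swap' hB, selfadj_pair hB h2 (hadj m), neg_zero]
    have e : ∀ (x y : V) a c, B (σ a x) (σ c y) = B (σ (c * a) x) y := fun x y a c => by
      rw [map_mul, Module.End.mul_apply, hadj c]
    show B (σ a v + σ b w) (σ c v + σ d w) = _
    simp only [map_add, LinearMap.add_apply]
    rw [e, e v w, e w w, show B (σ b w) (σ c v) = - B (σ c v) (σ b w) from (swap' hB _ _).symm, e v w, z, z,
      hvw, hvw, sform, map_sub, mul_comm d a]
    ring
  have hinj : Function.Injective Ψ₀ := by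
    rw [← LinearMap.ker_eq_bot, LinearMap.ker_eq_bot']
    rintro ⟨a, b⟩ hab
    have h1 : ∀ p', sform h (a, b) p' = 0 := fun p' => by rw [← hform, hab, map_zero, LinearMap.zero_apply]
    have ha : a = 0 := (traceForm_nondegenerate F (AdjoinRoot h)).1 a fun d => by
      have := h1 (0, d)
      simpa [sform] using this
    have hb : b = 0 := (traceForm_nondegenerate F (AdjoinRoot h)).1 b fun d => by
      have := h1 (-d, 0)
      simpa [sform] using this
    rw [ha, hb]; rfl
  have hdim : finrank F (AdjoinRoot h × AdjoinRoot h) = finrank F V := by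
    rw [Module.finrank_prod, (AdjoinRoot.powerBasis hirr.out.ne_zero).finrank, AdjoinRoot.powerBasis_dim, hd, hV]
  refine ⟨LinearEquiv.ofInjectiveOfFinrankEq Ψ₀ hinj hdim, fun p p' => ?_, fun p => ?_⟩
  · exact hform p p'
  · show J (σ p.1 v + σ p.2 w) = σ (AdjoinRoot.root h * p.1) v + σ (AdjoinRoot.root h * p.2) w
    have e : σ (AdjoinRoot.root h) = J := by rw [← AdjoinRoot.mk_X, hσ, aeval_X]
    rw [map_mul, map_mul, e, map_add]
    rfl

theorem pow_basis_poly {V₁ : Type*} [AddCommGroup V₁] [Module F V₁] (T : Module.End F V₁) (u : V₁) {r : F[X]}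
    (hr : r.natDegree < 6) : aeval T r u = ∑ k : Fin 6, r.coeff k.1 • (T ^ k.1) u := by
  rw [aeval_eq_sum_range' hr, LinearMap.sum_apply, Fin.sum_univ_eq_sum_range (fun k => r.coeff k • (T ^ k) u) 6]
  rfl

include hB hsep in
/-- Cyclic isometries with the same minimal polynomial are similar. -/
theorem cyclic_similar (hV : finrank F V = 6) (h3 : (3 : F) = 0) {T₁ S₁ T₂ : Module.End F V}
    (hT₁ : ∀ x y, B (T₁ x) (T₁ y) = B x y) (hTS₁ : T₁ * S₁ = 1) (hT₂ : ∀ x y, B (T₂ x) (T₂ y) = B x y) {t : F}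
    (hq₁ : aeval T₁ ((X ^ 2 - C t * X + 1) ^ 3) = 0) (hq₂ : aeval T₂ ((X ^ 2 - C t * X + 1) ^ 3) = 0)
    {u₁ u₂ : V} (hu₁ : LinearIndependent F fun k : Fin 6 => (T₁ ^ k.1) u₁)
    (hu₂ : LinearIndependent F fun k : Fin 6 => (T₂ ^ k.1) u₂) :
    ∃ (φ : V ≃ₗ[F] V) (c : F), c ≠ 0 ∧ (∀ x y, B (φ x) (φ y) = c * B x y) ∧ ∀ v, φ (T₁ v) = T₂ (φ v) := by
  classical
  have h2 := two_ne_zero' h3
  set q : F[X] := X ^ 2 - C t * X + 1
  have hqdeg : q.natDegree = 2 := by simp only [q]; compute_degree!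
  have hqm : q.Monic := by simp only [q]; monicity!
  have hq3deg : (q ^ 3).natDegree = 6 := by rw [natDegree_pow, hqdeg]
  let b₁ := basisOfLinearIndependentOfCardEqFinrank hu₁ (by rw [hV, Fintype.card_fin])
  let b₂ := basisOfLinearIndependentOfCardEqFinrank hu₂ (by rw [hV, Fintype.card_fin])
  let φ := b₁.equiv b₂ (Equiv.refl _)
  have hb₁ : ∀ k, b₁ k = (T₁ ^ k.1) u₁ := fun k =>
    congrFun (coe_basisOfLinearIndependentOfCardEqFinrank hu₁ _) k
  have hb₂ : ∀ k, b₂ k = (T₂ ^ k.1) u₂ := fun k =>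
    congrFun (coe_basisOfLinearIndependentOfCardEqFinrank hu₂ _) k
  have hφb : ∀ k : Fin 6, φ ((T₁ ^ k.1) u₁) = (T₂ ^ k.1) u₂ := fun k => by rw [← hb₁, ← hb₂]; simp [φ]
  have hne1 : q ^ 3 ≠ 1 := fun e => by
    have := congrArg natDegree e
    rw [hq3deg, natDegree_one] at this
    omega
  have hφp : ∀ p : F[X], φ (aeval T₁ p u₁) = aeval T₂ p u₂ := fun p => by
    have hr := hq3deg ▸ natDegree_modByMonic_lt p (hqm.pow 3) hne1
    rw [← modByMonic_add_div p (q ^ 3), map_add, map_add, map_mul, map_mul, hq₁, hq₂, zero_mul, zero_mul,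
      add_zero, add_zero, pow_basis_poly T₁ u₁ hr, pow_basis_poly T₂ u₂ hr, map_sum]
    exact Finset.sum_congr rfl fun k _ => by rw [map_smul, hφb]
  have hall : ∀ x, ∃ p : F[X], aeval T₁ p u₁ = x := fun x => by
    refine ⟨∑ k : Fin 6, C (b₁.repr x k) * X ^ k.1, ?_⟩
    conv_rhs => rw [← b₁.sum_repr x]
    simp [map_sum, LinearMap.sum_apply, hb₁, Module.algebraMap_end_apply]
  have hφT : ∀ v, φ (T₁ v) = T₂ (φ v) := fun v => by
    obtain ⟨p, rfl⟩ := hall v
    have e : ∀ T : Module.End F V, ∀ w, T (aeval T p w) = aeval T (X * p) w := fun T w => by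
      rw [map_mul, aeval_X, Module.End.mul_apply]
    rw [e, hφp, hφp, e]
  -- the pulled-back form
  have hinjB : Function.Injective B := by
    rw [← LinearMap.ker_eq_bot, LinearMap.ker_eq_bot']
    exact fun w hw => hsep w fun y => by rw [hw, LinearMap.zero_apply]
  let eB := LinearEquiv.ofInjectiveOfFinrankEq B hinjB Subspace.dual_finrank_eq.symm
  let D : Module.End F V := eB.symm.toLinearMap ∘ₗ B.compl₁₂ φ.toLinearMap φ.toLinearMap
  have hD : ∀ x y, B (D x) y = B (φ x) (φ y) := fun x y => by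
    have h1 := eB.apply_symm_apply (B.compl₁₂ φ.toLinearMap φ.toLinearMap x)
    exact LinearMap.congr_fun h1 y
  have hDT : ∀ x, D (T₁ x) = T₁ (D x) := fun x => sub_eq_zero.1 (hsep _ fun y => by
    obtain ⟨z, rfl⟩ : ∃ z, T₁ z = y := ⟨S₁ y, LinearMap.congr_fun hTS₁ y⟩
    rw [map_sub, LinearMap.sub_apply, hD, hφT, hφT, hT₂, hT₁, hD, sub_self])
  obtain ⟨p, hp⟩ := hall (D u₁)
  have hcommp : ∀ (f : F[X]) (k : ℕ) x, (T₁ ^ k) (aeval T₁ f x) = aeval T₁ f ((T₁ ^ k) x) := fun f k x => by
    rw [← Module.End.mul_apply, ← Module.End.mul_apply, show T₁ ^ k = aeval T₁ (X ^ k : F[X]) by simp,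
      ← map_mul, ← map_mul, mul_comm]
  have hDp : D = aeval T₁ p := b₁.ext fun k => by
    rw [hb₁, ← hcommp, hp]
    obtain ⟨k, -⟩ := k
    show D ((T₁ ^ k) u₁) = (T₁ ^ k) (D u₁)
    induction k with
    | zero => simp
    | succ k ih => rw [pow_succ', Module.End.mul_apply, Module.End.mul_apply, hDT, ih (by omega)]
  have hDsa : ∀ x y, B (D x) y = B x (D y) := fun x y => by
    rw [← swap' hB (D y) x, hD, hD, swap' hB]
  have hadj : ∀ (f : F[X]) x y, B (aeval S₁ f x) y = B x (aeval T₁ f y) := by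
    intro f
    induction f using Polynomial.induction_on with
    | C c => intro x y; simp [Module.algebraMap_end_apply]
    | add f g ihf ihg => intro x y; simp [ihf, ihg]
    | monomial n c ih =>
      intro x y
      have e1 : aeval S₁ (C c * X ^ (n + 1)) x = aeval S₁ (C c * X ^ n) (S₁ x) := by
        rw [pow_succ, ← mul_assoc, map_mul, aeval_X, Module.End.mul_apply]
      have e2 : aeval T₁ (C c * X ^ (n + 1)) y = T₁ (aeval T₁ (C c * X ^ n) y) := by
        rw [pow_succ', mul_left_comm, map_mul, aeval_X, Module.End.mul_apply]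
      rw [e1, e2, ih, inv_left_adjoint hT₁ hTS₁]
  have hDS : D = aeval S₁ p := LinearMap.ext fun x => sub_eq_zero.1 (hsep _ fun y => by
    rw [map_sub, LinearMap.sub_apply, hadj, ← hDp, hDsa, sub_self])
  set s := T₁ + S₁ with hs
  set n := s - t • (1 : Module.End F V) with hn
  have hST : S₁ * T₁ = 1 := mul_eq_one_comm.1 hTS₁
  have hTs : Commute T₁ s := by
    show T₁ * (T₁ + S₁) = (T₁ + S₁) * T₁
    rw [mul_add, add_mul, hTS₁, hST]
  have hTn : Commute T₁ n := hTs.sub_right ((Commute.one_right T₁).smul_right t)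
  have hqT : aeval T₁ q = T₁ * n := by
    simp only [q, map_add, map_sub, map_pow, map_mul, aeval_X, aeval_C, map_one, hn, mul_sub, hs, mul_add,
      hTS₁, mul_smul_comm, mul_one, Algebra.algebraMap_eq_smul_one, smul_mul_assoc, one_mul, pow_two]
    abel
  have hn3 : n ^ 3 = 0 := by
    rw [map_pow, hqT, hTn.mul_pow] at hq₁
    calc n ^ 3 = (S₁ * T₁) ^ 3 * n ^ 3 := by rw [hST, one_pow, one_mul]
      _ = S₁ ^ 3 * (T₁ ^ 3 * n ^ 3) := by
        rw [(show Commute S₁ T₁ from hST.trans hTS₁.symm).mul_pow, mul_assoc]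
      _ = 0 := by rw [hq₁, mul_zero]
  have hpowmem : ∀ k, T₁ ^ k + S₁ ^ k ∈ Algebra.adjoin F {n} := by
    have hs' : s ∈ Algebra.adjoin F {n} := by
      rw [show s = n + t • (1 : Module.End F V) by rw [hn, sub_add_cancel]]
      exact Subalgebra.add_mem _ (Algebra.self_mem_adjoin_singleton F n)
        (Subalgebra.smul_mem _ (Subalgebra.one_mem _) t)
    intro k
    induction k using Nat.strong_induction_on with
    | _ k ih =>
      match k with
      | 0 => simp only [pow_zero]; exact Subalgebra.add_mem _ (Subalgebra.one_mem _) (Subalgebra.one_mem _)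
      | 1 => simpa only [pow_one] using hs'
      | k + 2 =>
        have e1 : T₁ ^ (k + 2) + S₁ ^ (k + 2) = s * (T₁ ^ (k + 1) + S₁ ^ (k + 1)) - (T₁ ^ k + S₁ ^ k) := by
          have a1 : T₁ * S₁ ^ (k + 1) = S₁ ^ k := by rw [pow_succ', ← mul_assoc, hTS₁, one_mul]
          have a2 : S₁ * T₁ ^ (k + 1) = T₁ ^ k := by rw [pow_succ', ← mul_assoc, hST, one_mul]
          rw [hs, add_mul, mul_add, mul_add, a1, a2, ← pow_succ', ← pow_succ']
          abel
        rw [e1]
        exact Subalgebra.sub_mem _ (Subalgebra.mul_mem _ hs' (ih _ (by omega))) (ih _ (by omega))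
  have hDmem : D ∈ Algebra.adjoin F {n} := by
    have e : (2 : F) • D = ∑ k ∈ Finset.range (p.natDegree + 1), p.coeff k • (T₁ ^ k + S₁ ^ k) := by
      rw [two_smul]
      nth_rewrite 1 [hDp]
      rw [hDS, aeval_eq_sum_range, aeval_eq_sum_range, ← Finset.sum_add_distrib]
      simp only [smul_add]
    rw [show D = (2 : F)⁻¹ • ((2 : F) • D) by rw [smul_smul, inv_mul_cancel₀ h2, one_smul], e]
    exact Subalgebra.smul_mem _ (Subalgebra.sum_mem _ fun k _ => Subalgebra.smul_mem _ (hpowmem k) _) _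
  rw [Algebra.adjoin_singleton_eq_range_aeval] at hDmem
  obtain ⟨R, hR⟩ := hDmem
  set c := R.coeff 0
  set m := c⁻¹ • (n * aeval n R.divX) with hm
  have hcomm : Commute n (aeval n R.divX) :=
    Algebra.commute_of_mem_adjoin_self (aeval_mem_adjoin_singleton F n)
  have hRdec : D = c • (1 : Module.End F V) + n * aeval n R.divX := by
    rw [← hR]
    show aeval n R = _
    nth_rewrite 1 [← divX_mul_X_add R]
    rw [map_add, map_mul, aeval_X, aeval_C, Algebra.algebraMap_eq_smul_one, ← hcomm.eq, add_comm]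
  have hDinj : Function.Injective D := fun x y hxy => φ.injective (sub_eq_zero.1 (hsep _ fun z => by
    obtain ⟨w, rfl⟩ := φ.surjective z
    rw [← map_sub, ← hD, map_sub, hxy, sub_self, map_zero, LinearMap.zero_apply]))
  have hc : c ≠ 0 := fun hc0 => by
    rw [hc0, zero_smul, zero_add] at hRdec
    have h0 : D ^ 3 = 0 := by rw [hRdec, hcomm.mul_pow, hn3, zero_mul]
    have : Nontrivial V := Module.nontrivial_of_finrank_pos (by omega : 0 < finrank F V)
    obtain ⟨x, hx⟩ := exists_ne (0 : V)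
    have hpowinj : Function.Injective (D ^ 3 : Module.End F V) := by
      rw [Module.End.coe_pow]; exact hDinj.iterate 3
    exact hx (hpowinj (by rw [h0]; simp))
  have hDm : D = c • (1 + m) := by
    rw [hm, smul_add, smul_smul, mul_inv_cancel₀ hc, one_smul, hRdec]
  have hm3 : m ^ 3 = 0 := by rw [hm, _root_.smul_pow, hcomm.mul_pow, hn3, zero_mul, smul_zero]
  set A := (1 : Module.End F V) + m with hA
  have hA3 : A ^ 3 = 1 := by
    have h3' : (3 : Module.End F V) = 0 := by rw [← map_ofNat (algebraMap F (Module.End F V)) 3, h3, map_zero]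
    have e : A ^ 3 = 1 + 3 * m + 3 * m ^ 2 + m ^ 3 := by
      rw [hA]; noncomm_ring
    rw [e, h3', hm3]; simp
  have hAc : A = c⁻¹ • D := by rw [hDm, smul_smul, inv_mul_cancel₀ hc, one_smul]
  have hAinj : Function.Injective A := fun x y hxy => by
    have := congrArg (fun z => (A ^ 2) z) hxy
    simpa [← Module.End.mul_apply, ← pow_succ, hA3] using this
  let Ae : V ≃ₗ[F] V := LinearEquiv.ofInjectiveEndo A hAinj
  refine ⟨Ae.trans φ, c, hc, fun x y => ?_, fun v => ?_⟩
  · show B (φ (A x)) (φ (A y)) = c * B x y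
    rw [← hD]
    have hAsa : ∀ x y, B (A x) y = B x (A y) := fun x y => by
      simp only [hAc, LinearMap.smul_apply, map_smul, hDsa]
    rw [← hAsa, hDm, LinearMap.smul_apply, map_smul,
      show A (A (A x)) = (A ^ 3) x from rfl, hA3, Module.End.one_apply, map_smul, LinearMap.smul_apply, smul_eq_mul]
  · show φ (A (T₁ v)) = T₂ (φ (A v))
    rw [← hφT]
    congr 1
    simp only [hAc, LinearMap.smul_apply, hDT, map_smul]

section Normal

variable {T S : Module.End F V} (hT : ∀ x y, B (T x) (T y) = B x y) (hTS : T * S = 1)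
  (hN : (T - 1 : Module.End F V) ^ 3 = 0)

include hT hTS hN in
theorem gram (x y : V) :
    B ((T - 1) x) y = -B x ((T - 1) y) + B x (((T - 1 : Module.End F V) ^ 2) y) ∧
    B ((T - 1) x) ((T - 1) y) = -B x (((T - 1 : Module.End F V) ^ 2) y) ∧
    B ((T - 1) x) (((T - 1 : Module.End F V) ^ 2) y) = 0 ∧
    B (((T - 1 : Module.End F V) ^ 2) x) y = B x (((T - 1 : Module.End F V) ^ 2) y) ∧
    B (((T - 1 : Module.End F V) ^ 2) x) ((T - 1) y) = 0 ∧
    B (((T - 1 : Module.End F V) ^ 2) x) (((T - 1 : Module.End F V) ^ 2) y) = 0 := by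
  set N := T - 1 with hNdef
  have hS : S = 1 - N + N * N := by
    have h1 : T * (1 - N + N * N) = 1 := by
      have : T * (1 - N + N * N) = 1 + N ^ 3 := by rw [hNdef]; noncomm_ring
      rw [this, hN, add_zero]
    calc S = S * (T * (1 - N + N * N)) := by rw [h1, mul_one]
      _ = _ := by rw [← mul_assoc, mul_eq_one_comm.1 hTS, one_mul]
  have e : ∀ u v, B (N u) v = -B u (N v) + B u ((N ^ 2) v) := fun u v => by
    have h1 := left_adjoint hT hTS u v
    rw [hS, show T = N + 1 by rw [hNdef, sub_add_cancel]] at h1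
    simp only [LinearMap.add_apply, LinearMap.sub_apply, Module.End.one_apply, Module.End.mul_apply,
      map_add, map_sub] at h1
    rw [pow_two, Module.End.mul_apply]
    linear_combination h1
  have z : ∀ v, (N ^ 2) (N v) = 0 := fun v => by rw [← Module.End.mul_apply, ← pow_succ, hN, LinearMap.zero_apply]
  have z' : ∀ v, N ((N ^ 2) v) = 0 := fun v => by rw [← Module.End.mul_apply, ← pow_succ', hN, LinearMap.zero_apply]
  have z4 : ∀ v, (N ^ 2) ((N ^ 2) v) = 0 := fun v => by rw [show (N ^ 2) v = N (N v) from rfl, z]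
  have nn : ∀ v, N (N v) = (N ^ 2) v := fun v => by rw [pow_two, Module.End.mul_apply]
  have e11 : B (N x) (N y) = -B x ((N ^ 2) y) := by rw [e, nn, z, map_zero, add_zero]
  have e12 : ∀ x y, B (N x) ((N ^ 2) y) = 0 := fun x y => by rw [e, z', z4, map_zero, neg_zero, add_zero]
  refine ⟨e x y, e11, e12 x y, ?_, ?_, ?_⟩
  · rw [← nn, e, e11, e12, neg_neg, add_zero]
  · rw [← nn x, e, nn y, e12, z, map_zero, neg_zero, add_zero]
  · rw [← nn x, e, z', z4, map_zero, neg_zero, add_zero]

include hB hT hTS hN in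
theorem regular_independent {v w : V} (hvw : B v (((T - 1 : Module.End F V) ^ 2) w) = 1)
    (hvv : B v (((T - 1 : Module.End F V) ^ 2) v) = 0) (hww : B w (((T - 1 : Module.End F V) ^ 2) w) = 0) :
    LinearIndependent F ![v, (T - 1) v, ((T - 1 : Module.End F V) ^ 2) v,
      w, (T - 1) w, ((T - 1 : Module.End F V) ^ 2) w] := by
  have hwv : B w (((T - 1 : Module.End F V) ^ 2) v) = -1 := by
    rw [← swap' hB, (gram hT hTS hN v w).2.2.2.1, hvw]
  clear hT hTS
  generalize T - 1 = N at hN hvw hvv hww hwv ⊢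
  rw [Fintype.linearIndependent_iff]
  intro c hc
  have z3 : ∀ x, (N ^ 2) (N x) = 0 := fun x => by rw [← Module.End.mul_apply, ← pow_succ, hN, LinearMap.zero_apply]
  have z4 : ∀ x, (N ^ 2) ((N ^ 2) x) = 0 := fun x => by rw [show (N ^ 2) x = N (N x) from rfl, z3]
  have k3 : ∀ x, N (N x) = (N ^ 2) x := fun x => rfl
  have k4 : ∀ x, N ((N ^ 2) x) = 0 := fun x => by rw [← Module.End.mul_apply, ← pow_succ', hN, LinearMap.zero_apply]
  simp [Fin.sum_univ_six] at hc
  have e1 := congrArg (fun x => (N ^ 2) x) hc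
  simp only [map_add, map_smul, map_zero, z3, z4, smul_zero, add_zero] at e1
  have a1 := congrArg (B v) e1
  have a2 := congrArg (B w) e1
  simp [hvv, hww, hvw, hwv] at a1 a2
  simp only [a1, a2, zero_smul, zero_add] at hc
  have e2 := congrArg (fun x => N x) hc
  simp only [map_add, map_smul, map_zero, k3, k4, smul_zero, zero_add, add_zero] at e2
  have b1 := congrArg (B v) e2
  have b2 := congrArg (B w) e2
  simp [hvv, hww, hvw, hwv] at b1 b2
  simp only [b1, b2, zero_smul, zero_add, add_zero] at hc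
  have c1 := congrArg (B v) hc
  have c2 := congrArg (B w) hc
  simp [hvv, hww, hvw, hwv] at c1 c2
  intro i
  fin_cases i <;> assumption

include hB hsep hT hTS hN in
/-- Standard generators. -/
theorem exists_standard_pair (h3 : (3 : F) = 0) (hN2 : (T - 1 : Module.End F V) ^ 2 ≠ 0) :
    ∃ v w : V, B v w = 0 ∧ B v ((T - 1) v) = 0 ∧ B w ((T - 1) w) = 0 ∧ B v ((T - 1) w) = 0 ∧
      B v (((T - 1 : Module.End F V) ^ 2) w) = 1 := by
  have gm := gram hT hTS hN
  have h2 := two_ne_zero' h3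
  clear hT hTS
  generalize T - 1 = N at hN hN2 gm ⊢
  have hsa : ∀ x y, B ((N ^ 2) x) y = B x ((N ^ 2) y) := fun x y => (gm x y).2.2.2.1
  have z2 : ∀ x, B x ((N ^ 2) x) = 0 := selfadj_pair hB h2 hsa
  have sw : ∀ x y, B x ((N ^ 2) y) = -B y ((N ^ 2) x) := fun x y => by
    rw [← hsa x y, ← swap' hB y ((N ^ 2) x)]
  have k2 : ∀ x, (N ^ 2) (N x) = 0 := fun x => by rw [← Module.End.mul_apply, ← pow_succ, hN, LinearMap.zero_apply]
  have k1 : ∀ x, N ((N ^ 2) x) = 0 := fun x => by rw [← Module.End.mul_apply, ← pow_succ', hN, LinearMap.zero_apply]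
  have nn : ∀ x, N (N x) = (N ^ 2) x := fun x => rfl
  have k4 : ∀ x, (N ^ 2) ((N ^ 2) x) = 0 := fun x => by rw [show (N ^ 2) x = N (N x) from rfl, k2]
  obtain ⟨v₀, w₀, h₀⟩ : ∃ v w, B v ((N ^ 2) w) ≠ 0 := by
    by_contra! h0
    exact hN2 (LinearMap.ext fun w => hsep _ fun y => by
      rw [hsa, h0])
  set w₁ := (B v₀ ((N ^ 2) w₀))⁻¹ • w₀
  have hw₁ : B v₀ ((N ^ 2) w₁) = 1 := by
    simp only [w₁, map_smul, smul_eq_mul, inv_mul_cancel₀ h₀]
  -- first generator
  set v := v₀ + B v₀ (N v₀) • N w₁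
  have hv2 : B v ((N ^ 2) w₁) = 1 := by
    simp only [v, map_add, map_smul, LinearMap.add_apply, LinearMap.smul_apply, (gm w₁ w₁).2.2.1, hw₁,
      smul_eq_mul, mul_zero, add_zero]
  have hv1 : B v (N v) = 0 := by
    simp only [v, map_add, map_smul, LinearMap.add_apply, LinearMap.smul_apply, smul_eq_mul, nn,
      (gm w₁ w₁).2.2.1, (gm w₁ v₀).2.1, hw₁, sw w₁ v₀]
    linear_combination B v₀ (N v₀) * h3
  -- second generator
  set w₂ := w₁ + (-B w₁ (N w₁)) • N v
  have hvw2 : B v ((N ^ 2) w₂) = 1 := by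
    simp only [w₂, map_add, map_smul, k2, map_zero, smul_zero, add_zero, hv2]
  have hw2 : B w₂ (N w₂) = 0 := by
    simp only [w₂, map_add, map_smul, LinearMap.add_apply, LinearMap.smul_apply, smul_eq_mul, nn,
      (gm v v).2.2.1, (gm v w₁).2.1, sw w₁ v, hv2]
    linear_combination B w₁ (N w₁) * h3
  set b := B v (N w₂)
  set d := -B v w₂ + b * B v (N v) + b * B v (N w₂) with hd
  refine ⟨v, w₂ + (-b) • N w₂ + d • (N ^ 2) w₂, ?_, hv1, ?_, ?_, ?_⟩
  · simp only [map_add, map_smul, smul_eq_mul, hvw2, hd, hv1]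
    ring
  · simp only [map_add, map_smul, LinearMap.add_apply, LinearMap.smul_apply, smul_eq_mul, nn, k1, k2, hw2,
      z2 w₂, (gm w₂ w₂).2.1, (gm w₂ w₂).2.2.1, (gm w₂ w₂).2.2.2.2.1, (gm w₂ w₂).2.2.2.2.2, map_zero, mul_zero,
      add_zero, neg_zero, smul_zero, LinearMap.zero_apply]
  · simp only [map_add, map_smul, smul_eq_mul, nn, k1, hvw2, map_zero, mul_zero, add_zero, smul_zero]
    ring
  · simp only [map_add, map_smul, k2, k4, map_zero, smul_zero, add_zero, hvw2]

end Normal

include hB hsep in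
/-- Regular unipotent isometries of type `(3, 3)` are conjugate by isometries. -/
theorem unipotent_similar (hV : finrank F V = 6) (h3 : (3 : F) = 0) {T₁ S₁ T₂ S₂ : Module.End F V}
    (hT₁ : ∀ x y, B (T₁ x) (T₁ y) = B x y) (hTS₁ : T₁ * S₁ = 1) (hN₁ : (T₁ - 1 : Module.End F V) ^ 3 = 0)
    (hR₁ : (T₁ - 1 : Module.End F V) ^ 2 ≠ 0)
    (hT₂ : ∀ x y, B (T₂ x) (T₂ y) = B x y) (hTS₂ : T₂ * S₂ = 1) (hN₂ : (T₂ - 1 : Module.End F V) ^ 3 = 0)
    (hR₂ : (T₂ - 1 : Module.End F V) ^ 2 ≠ 0) :
    ∃ φ : V ≃ₗ[F] V, (∀ x y, B (φ x) (φ y) = B x y) ∧ ∀ v, φ (T₁ v) = T₂ (φ v) := by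
  classical
  obtain ⟨v, w, v00, v01, w01, vw1, vw2⟩ := exists_standard_pair hB hsep hT₁ hTS₁ hN₁ h3 hR₁
  obtain ⟨v', w', v00', v01', w01', vw1', vw2'⟩ := exists_standard_pair hB hsep hT₂ hTS₂ hN₂ h3 hR₂
  have h2 := two_ne_zero' h3
  have g₁ := gram hT₁ hTS₁ hN₁
  have g₂ := gram hT₂ hTS₂ hN₂
  have l₁ := regular_independent hB hT₁ hTS₁ hN₁ vw2 (selfadj_pair hB h2 (fun x y => (g₁ x y).2.2.2.1) v)
    (selfadj_pair hB h2 (fun x y => (g₁ x y).2.2.2.1) w)
  have l₂ := regular_independent hB hT₂ hTS₂ hN₂ vw2' (selfadj_pair hB h2 (fun x y => (g₂ x y).2.2.2.1) v')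
    (selfadj_pair hB h2 (fun x y => (g₂ x y).2.2.2.1) w')
  have e₁ : ∀ i, T₁ i = (T₁ - 1) i + i := fun i => by simp
  have e₂ : ∀ i, T₂ i = (T₂ - 1) i + i := fun i => by simp
  generalize T₁ - 1 = N at g₁ hN₁ l₁ v01 w01 vw1 vw2 e₁
  generalize T₂ - 1 = M at g₂ hN₂ l₂ v01' w01' vw1' vw2' e₂
  let b₁ := basisOfLinearIndependentOfCardEqFinrank l₁ (by rw [hV, Fintype.card_fin])
  let b₂ := basisOfLinearIndependentOfCardEqFinrank l₂ (by rw [hV, Fintype.card_fin])
  let φ := b₁.equiv b₂ (Equiv.refl _)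
  have hb₁ : ∀ i, b₁ i = ![v, N v, (N ^ 2) v, w, N w, (N ^ 2) w] i := fun i =>
    congrFun (coe_basisOfLinearIndependentOfCardEqFinrank l₁ _) i
  have hb₂ : ∀ i, b₂ i = ![v', M v', (M ^ 2) v', w', M w', (M ^ 2) w'] i := fun i =>
    congrFun (coe_basisOfLinearIndependentOfCardEqFinrank l₂ _) i
  have hφ : ∀ i, φ (b₁ i) = b₂ i := fun i => by simp [φ]
  refine ⟨φ, fun x y => ?_, ?_⟩
  · have hG : B.compl₁₂ φ.toLinearMap φ.toLinearMap = B := by
      have s1 : ∀ x, B x ((N ^ 2) x) = 0 := fun x => selfadj_pair hB h2 (fun x y => (g₁ x y).2.2.2.1) x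
      have s2 : ∀ x, B x ((M ^ 2) x) = 0 := fun x => selfadj_pair hB h2 (fun x y => (g₂ x y).2.2.2.1) x
      have w20 : B w ((N ^ 2) v) = -1 := by rw [← swap' hB ((N ^ 2) v) w, (g₁ v w).2.2.2.1, vw2]
      have w10 : B w (N v) = -1 := by rw [← swap' hB (N v) w, (g₁ v w).1, vw1, vw2]; ring
      have w20' : B w' ((M ^ 2) v') = -1 := by rw [← swap' hB ((M ^ 2) v') w', (g₂ v' w').2.2.2.1, vw2']
      have w10' : B w' (M v') = -1 := by rw [← swap' hB (M v') w', (g₂ v' w').1, vw1', vw2']; ring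
      have w00 : B w v = 0 := by rw [← swap' hB v w, v00, neg_zero]
      have w00' : B w' v' = 0 := by rw [← swap' hB v' w', v00', neg_zero]
      have kN : ∀ x, N (N x) = (N ^ 2) x := fun x => rfl
      have kM : ∀ x, M (M x) = (M ^ 2) x := fun x => rfl
      have aN : ∀ x, (N ^ 2) (N x) = 0 := fun x => by
        rw [← Module.End.mul_apply, ← pow_succ, hN₁, LinearMap.zero_apply]
      have aM : ∀ x, (M ^ 2) (M x) = 0 := fun x => by
        rw [← Module.End.mul_apply, ← pow_succ, hN₂, LinearMap.zero_apply]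
      have bN : ∀ x, N ((N ^ 2) x) = 0 := fun x => by
        rw [← Module.End.mul_apply, ← pow_succ', hN₁, LinearMap.zero_apply]
      have bM : ∀ x, M ((M ^ 2) x) = 0 := fun x => by
        rw [← Module.End.mul_apply, ← pow_succ', hN₂, LinearMap.zero_apply]
      have cN : ∀ x, (N ^ 2) ((N ^ 2) x) = 0 := fun x => by rw [show (N ^ 2) x = N (N x) from rfl, aN]
      have cM : ∀ x, (M ^ 2) ((M ^ 2) x) = 0 := fun x => by rw [show (M ^ 2) x = M (M x) from rfl, aM]
      refine LinearMap.ext_basis b₁ b₁ fun i j => ?_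
      show B (φ (b₁ i)) (φ (b₁ j)) = _
      rw [hφ, hφ, hb₁, hb₁, hb₂, hb₂]
      fin_cases i <;> fin_cases j <;>
        simp [kN, kM, aN, aM, bN, bM, cN, cM, (g₁ _ _).1, (g₁ _ _).2.1, (g₁ _ _).2.2.1, (g₁ _ _).2.2.2.1, (g₁ _ _).2.2.2.2.1,
          (g₁ _ _).2.2.2.2.2, (g₂ _ _).1, (g₂ _ _).2.1, (g₂ _ _).2.2.1, (g₂ _ _).2.2.2.1, (g₂ _ _).2.2.2.2.1,
          (g₂ _ _).2.2.2.2.2, hB v, hB w, hB v', hB w', s1, s2, v00, v01, w01, vw1, vw2, w00, w10, w20, v00',
          v01', w01', vw1', vw2', w00', w10', w20']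
    exact LinearMap.congr_fun (LinearMap.congr_fun hG x) y
  · have key : φ.toLinearMap ∘ₗ N = M ∘ₗ φ.toLinearMap := by
      refine b₁.ext fun i => ?_
      have kN : ∀ x, N (N x) = (N ^ 2) x := fun x => rfl
      have kM : ∀ x, M (M x) = (M ^ 2) x := fun x => rfl
      have zN : ∀ x, N ((N ^ 2) x) = 0 := fun x => by
        rw [← Module.End.mul_apply, ← pow_succ', hN₁, LinearMap.zero_apply]
      have zM : ∀ x, M ((M ^ 2) x) = 0 := fun x => by
        rw [← Module.End.mul_apply, ← pow_succ', hN₂, LinearMap.zero_apply]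
      have h1 := hφ 1
      have h2 := hφ 2
      have h4 := hφ 4
      have h5 := hφ 5
      rw [hb₁, hb₂] at h1 h2 h4 h5
      simp at h1 h2 h4 h5
      simp only [LinearMap.comp_apply, LinearEquiv.coe_coe]
      rw [hφ, hb₁, hb₂]
      fin_cases i <;> simp [kN, kM, zN, zM, h1, h2, h4, h5]
    intro x
    rw [e₁, e₂, map_add, show φ (N x) = M (φ x) from LinearMap.congr_fun key x]

end Space

end Cfsg.Agent.NormalCover.SympSix
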