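import Cfsg.Agent.Lib.Forms.Symp
import Cfsg.Agent.Lib.GL.SympOrders
import Cfsg.Agent.Lib.ClassicalSimple.SympMatrix
import Cfsg.Agent.Lib.NormalCover.SympSixModel
import Cfsg.Agent.Lib.NormalCover.Normalizer
import Cfsg.Agent.Lib.NormalCover.Basic

/-!
The covering of `PSp₆(3^a)`.
-/

set_option autoImplicit false
set_option linter.unusedSectionVars false

namespace Cfsg.Agent.NormalCover.SympSix

open Polynomial
open scoped Matrix

variable {F : Type*} [Field F]

/-- The matrices of the symplectic group. -/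
def spMat (m : ℕ) (F : Type*) [Field F] :
    Matrix.symplecticGroup (Fin m) F →* Matrix (Fin m ⊕ Fin m) (Fin m ⊕ Fin m) F where
  toFun A := A.1
  map_one' := rfl
  map_mul' _ _ := rfl

/-- The stabiliser of a subspace. -/
def spStab {m : ℕ} (W : Submodule F (Fin m ⊕ Fin m → F)) : Subgroup (Matrix.symplecticGroup (Fin m) F) where
  carrier := {A | ∀ v, spMat m F A *ᵥ v ∈ W ↔ v ∈ W}
  one_mem' := by simp
  mul_mem' := by
    intro a b ha hb v
    rw [map_mul, ← Matrix.mulVec_mulVec, ha, hb]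
  inv_mem' := by
    intro a ha v
    rw [← ha, Matrix.mulVec_mulVec, ← map_mul, mul_inv_cancel, map_one, Matrix.one_mulVec]

theorem aeval_blockDiag {ι : Type*} [Fintype ι] [DecidableEq ι] (M : Matrix ι ι F) (p : F[X]) :
    aeval (Matrix.fromBlocks M 0 0 Mᵀ) p = Matrix.fromBlocks (aeval M p) 0 0 (aeval M p)ᵀ := by
  induction p using Polynomial.induction_on with
  | C c =>
    simp only [aeval_C, Algebra.algebraMap_eq_smul_one]
    rw [← Matrix.fromBlocks_one, Matrix.fromBlocks_smul, Matrix.transpose_smul, Matrix.transpose_one]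
    simp
  | add f g ihf ihg => rw [map_add, map_add, ihf, ihg, Matrix.fromBlocks_add, Matrix.transpose_add]; simp
  | monomial n c ih =>
    have e : aeval M (C c * X ^ (n + 1)) = M * aeval M (C c * X ^ n) := by
      rw [pow_succ', mul_left_comm, map_mul, aeval_X]
    have e' : aeval M (C c * X ^ (n + 1)) = aeval M (C c * X ^ n) * M := by
      rw [pow_succ, ← mul_assoc, map_mul, aeval_X]
    rw [pow_succ, ← mul_assoc, map_mul, aeval_X, ih, Matrix.fromBlocks_multiply,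
      map_mul (aeval M) (C c * X ^ n) X,
      aeval_X, Matrix.transpose_mul]
    have e2 : (aeval M (C c * X ^ n))ᵀ * Mᵀ = Mᵀ * (aeval M (C c * X ^ n))ᵀ := by
      rw [← Matrix.transpose_mul, ← Matrix.transpose_mul, ← e, ← e']
    simp only [Matrix.mul_zero, Matrix.zero_mul, add_zero, zero_add, e2]

variable [Fintype F]

/-- A self-adjoint root of a cubic. -/
theorem exists_selfadjoint_root {h : F[X]} (hirr : Irreducible h) (hd : h.natDegree = 3) :
    ∃ J : Module.End F (Fin 3 ⊕ Fin 3 → F), aeval J h = 0 ∧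
      ∀ u v, Forms.sympB 3 F (J u) v = Forms.sympB 3 F u (J v) := by
  classical
  obtain ⟨b, hb⟩ := exists_root_end (V := Fin 3 → F) hirr (by rw [hd, Module.finrank_fin_fun])
  set M := LinearMap.toMatrix' b
  have hM : aeval M h = 0 := by
    show aeval ((LinearMap.toMatrixAlgEquiv' : Module.End F (Fin 3 → F) ≃ₐ[F] _).toAlgHom b) h = 0
    rw [aeval_algHom_apply, hb, map_zero]
  refine ⟨Matrix.toLin' (Matrix.fromBlocks M 0 0 Mᵀ), ?_, fun u v => ?_⟩
  · show aeval ((Matrix.toLinAlgEquiv' : Matrix (Fin 3 ⊕ Fin 3) (Fin 3 ⊕ Fin 3) F ≃ₐ[F] _).toAlgHom _) h = 0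
    rw [aeval_algHom_apply, aeval_blockDiag, hM, Matrix.transpose_zero, Matrix.fromBlocks_zero, map_zero]
  · simp only [Forms.sympB_apply, Forms.sympForm_eq_sum, Matrix.toLin'_apply, Matrix.fromBlocks_mulVec,
      Matrix.zero_mulVec, add_zero, zero_add, Sum.elim_inl, Sum.elim_inr]
    simp only [Finset.sum_sub_distrib]
    congr 1
    · show Mᵀ *ᵥ (u ∘ Sum.inr) ⬝ᵥ (v ∘ Sum.inl) = (u ∘ Sum.inr) ⬝ᵥ (M *ᵥ (v ∘ Sum.inl))
      rw [Matrix.mulVec_transpose, Matrix.dotProduct_mulVec]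
    · show M *ᵥ (u ∘ Sum.inl) ⬝ᵥ (v ∘ Sum.inr) = (u ∘ Sum.inl) ⬝ᵥ (Mᵀ *ᵥ (v ∘ Sum.inr))
      rw [Matrix.dotProduct_mulVec, Matrix.vecMul_transpose]

/-- `PSp₆(3^a)` is covered by two classes of proper subgroups. -/
theorem psp6_cover (h3 : (3 : F) = 0) :
    ∃ H K : Subgroup (Cfsg.PSp 3 F), H ≠ ⊤ ∧ K ≠ ⊤ ∧ ∀ g : Cfsg.PSp 3 F, ∃ x : Cfsg.PSp 3 F,
      x * g * x⁻¹ ∈ H ∨ x * g * x⁻¹ ∈ K := by
  classical
  obtain ⟨h, -, hirr, hd⟩ := exists_irreducible (F := F) (show 0 < 3 by norm_num)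
  have : Fact (Irreducible h) := ⟨hirr⟩
  have h2 := two_ne_zero' h3
  set B := Forms.sympB 3 F
  have hB : B.IsAlt := Forms.sympB_isAlt 3
  have hsep : ∀ x, (∀ y, B x y = 0) → x = 0 := (Forms.sympB_polar 3).sep
  have hV : Module.finrank F (Fin 3 ⊕ Fin 3 → F) = 6 := by simp
  obtain ⟨J₀, hJ₀, hJ₀s⟩ := exists_selfadjoint_root hirr hd
  obtain ⟨Φ, hΦ, hΦJ⟩ := exists_space_model hB hsep hd hV h2 hJ₀s hJ₀
  set r := AdjoinRoot.root h
  set bM := LinearMap.toMatrix' J₀ with hbM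
  have hbMv : ∀ v, bM *ᵥ v = J₀ v := fun v => by rw [hbM, LinearMap.toMatrix'_mulVec]
  have hbM0 : aeval bM h = 0 := by
    show aeval ((LinearMap.toMatrixAlgEquiv' : Module.End F (Fin 3 ⊕ Fin 3 → F) ≃ₐ[F] _).toAlgHom J₀) h = 0
    rw [aeval_algHom_apply, hJ₀, map_zero]
  have hbMk : ∀ (k : ℕ) p, (bM ^ k) *ᵥ Φ p = Φ (r ^ k * p.1, r ^ k * p.2) := by
    intro k
    induction k with
    | zero => intro p; simp
    | succ k ih =>
      intro p
      rw [pow_succ', ← Matrix.mulVec_mulVec, ih, hbMv, hΦJ, ← mul_assoc, ← mul_assoc, ← pow_succ']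
  let ρ := spMat 3 F
  have hρinv : ∀ (g : Matrix.symplecticGroup (Fin 3) F) v, ρ g *ᵥ (ρ g⁻¹ *ᵥ v) = v := fun g v => by
    rw [Matrix.mulVec_mulVec, ← map_mul, mul_inv_cancel, map_one, Matrix.one_mulVec]
  have hρinv' : ∀ (g : Matrix.symplecticGroup (Fin 3) F) v, ρ g⁻¹ *ᵥ (ρ g *ᵥ v) = v := fun g v => by
    rw [Matrix.mulVec_mulVec, ← map_mul, inv_mul_cancel, map_one, Matrix.one_mulVec]
  -- elements from isometries
  have lift : ∀ φ : (Fin 3 ⊕ Fin 3 → F) ≃ₗ[F] (Fin 3 ⊕ Fin 3 → F), (∀ x y, B (φ x) (φ y) = B x y) →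
      ∃ x : Matrix.symplecticGroup (Fin 3) F, ∀ v, ρ x *ᵥ v = φ v := fun φ hφ => by
    refine ⟨⟨LinearMap.toMatrix' φ.toLinearMap, Forms.mem_symplecticGroup_iff_form.2 fun u v => ?_⟩,
      fun v => by simp [ρ, spMat]⟩
    simp only [LinearMap.toMatrix'_mulVec, LinearEquiv.coe_coe, ← Forms.sympB_apply]
    exact hφ u v
  -- the twisted elements lie in the normalizer
  have twist_mem : ∀ (x g : Matrix.symplecticGroup (Fin 3) F) (Q : Module.End F (Fin 3 ⊕ Fin 3 → F)),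
      (∀ p, Q (J₀ (Φ p)) = (bM ^ Fintype.card F) *ᵥ Q (Φ p)) →
      (∀ v, ρ x *ᵥ (ρ g *ᵥ v) = Q (ρ x *ᵥ v)) → x * g * x⁻¹ ∈ algNorm ρ bM := by
    intro x g Q hQ hx
    refine mem_algNorm ρ ?_
    have : conjAlg ρ (x * g * x⁻¹) bM = bM ^ Fintype.card F := by
      refine Matrix.ext_iff_mulVec.2 fun v => ?_
      obtain ⟨w, rfl⟩ : ∃ w, ρ (x * g * x⁻¹) *ᵥ w = v := ⟨_, hρinv _ v⟩
      rw [conjAlg_apply, ← Matrix.mulVec_mulVec, ← Matrix.mulVec_mulVec, hρinv', hbMv]
      have e : ∀ v, ρ (x * g * x⁻¹) *ᵥ v = Q v := fun v => by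
        rw [map_mul, map_mul, ← Matrix.mulVec_mulVec, ← Matrix.mulVec_mulVec, hx, hρinv]
      obtain ⟨p, rfl⟩ := Φ.surjective w
      rw [e, e, hQ]
    rw [this]
    exact pow_mem (Algebra.self_mem_adjoin_singleton F bM) _
  -- a transvection
  let c : Fin 3 ⊕ Fin 3 → F := Pi.single (.inl 0) 1 + Pi.single (.inl 1) 1
  let tr := ClassicalSimple.sympTransvectionElt c (1 : F)
  have htr : ∀ v, ρ tr *ᵥ v = v + sympForm 3 F v c • c := fun v => by
    show sympTransvection 3 c 1 *ᵥ v = _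
    rw [ClassicalSimple.sympTransvection_mulVec, one_mul, ClassicalSimple.sympBilin_apply]
  let e₀ : Fin 3 ⊕ Fin 3 → F := Pi.single (.inr 0) 1
  let f₀ : Fin 3 ⊕ Fin 3 → F := Pi.single (.inl 0) 1
  let W₀ := Submodule.span F ({e₀, f₀} : Set (Fin 3 ⊕ Fin 3 → F))
  refine exists_cover_quotient (H := spStab W₀) (K := algNorm ρ bM) ?_ ?_ ?_ ?_ ?_
  · intro e
    have h1 := ((e ▸ Subgroup.mem_top tr : tr ∈ spStab W₀) e₀).2 (Submodule.subset_span (by simp))
    obtain ⟨a, b, hab⟩ := Submodule.mem_span_pair.1 h1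
    have := congrFun hab (.inl 1)
    rw [show spMat 3 F tr *ᵥ e₀ = e₀ + sympForm 3 F e₀ c • c from htr e₀] at this
    simp [e₀, f₀, c, Forms.sympForm_eq_sum, Fin.sum_univ_three, Pi.single_apply] at this
  · intro e
    refine not_mem_algNorm ρ hirr hd.ge hbM0 (c := c) (f := (Forms.sympB 3 F).flip c) ?_ ?_ (fun v => ?_)
      (e ▸ Subgroup.mem_top tr)
    · intro h0
      simpa [c, Pi.single_apply] using congrFun h0 (.inl 0)
    · intro h0
      have := LinearMap.congr_fun h0 e₀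
      simp [e₀, c, Forms.sympB_apply, Forms.sympForm_eq_sum, Fin.sum_univ_three, Pi.single_apply] at this
    · rw [htr, ← Forms.sympB_apply]
      rfl
  · intro z hz v
    obtain ⟨d, hd'⟩ := GL.symp_center_scalar z hz
    have hd0 : d ≠ 0 := fun h0 => by
      have := hρinv z e₀
      rw [show ρ z = (z : Matrix (Fin 3 ⊕ Fin 3) (Fin 3 ⊕ Fin 3) F) from rfl, hd', h0, zero_smul,
        Matrix.zero_mulVec] at this
      simpa [e₀] using congrFun this (.inr 0)
    rw [show spMat 3 F z = (z : Matrix (Fin 3 ⊕ Fin 3) (Fin 3 ⊕ Fin 3) F) from rfl, hd', Matrix.smul_mulVec,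
      Matrix.one_mulVec]
    exact W₀.smul_mem_iff hd0
  · intro z hz
    obtain ⟨d, hd'⟩ := GL.symp_center_scalar z hz
    refine commute_mem_algNorm ρ ?_
    rw [show ρ z = (z : Matrix (Fin 3 ⊕ Fin 3) (Fin 3 ⊕ Fin 3) F) from rfl, hd']
    exact (Commute.one_left bM).smul_left d
  intro g
  set T := (ρ g).mulVecLin with hTdef
  set S := (ρ g⁻¹).mulVecLin
  have hTS : T * S = 1 := LinearMap.ext fun v => hρinv g v
  have hT : ∀ x y, B (T x) (T y) = B x y := fun x y => by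
    simp only [B, Forms.sympB_apply]
    exact Forms.mem_symplecticGroup_iff_form.1 g.2 x y
  rcases six_cases hB hsep hV h3 hT hTS hirr hd with
    ⟨e, f, hef, he, hf⟩ | ⟨J, hJ0, hJ, hJT⟩ | ⟨t, u, hq, hu⟩ | ⟨ε, hε, hN, hR⟩
  · have hB' : ∀ a b, sympForm 3 F a b = B a b := fun a b => (Forms.sympB_apply a b).symm
    have he₀ : B e₀ f₀ = 1 := by
      simp [e₀, f₀, B, Forms.sympB_apply, Forms.sympForm_eq_sum, Fin.sum_univ_three, Pi.single_apply]
    have ind : ∀ a b, B a b = 1 → LinearIndependent F ![a, b] := fun a b hab => by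
      rw [LinearIndependent.pair_iff]
      intro x y hxy
      have h1 := congrArg (B a) hxy
      have h2' := congrArg (B b) hxy
      simp [hB a, hB b, hab, show B b a = -1 by rw [← swap' hB, hab]] at h1 h2'
      exact ⟨h2', h1⟩
    obtain ⟨φ, hφ, hφv⟩ := Forms.witt_symp_tuple (ind e f hef) (ind e₀ f₀ he₀) fun i j => by
      simp only [hB']
      fin_cases i <;> fin_cases j <;> simp [hef, he₀, hB e, hB f, hB e₀, hB f₀,
        show B f e = -1 by rw [← swap' hB, hef], show B f₀ e₀ = -1 by rw [← swap' hB, he₀]]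
    obtain ⟨x, hx⟩ := lift φ fun a b => by
      simp only [← hB']
      exact hφ a b
    refine ⟨x, Or.inl fun v => ?_⟩
    set W := Submodule.span F ({e, f} : Set (Fin 3 ⊕ Fin 3 → F))
    have hmapW : W.map φ.toLinearMap = W₀ := by
      rw [Submodule.map_span, Set.image_pair]
      show Submodule.span F {φ e, φ f} = W₀
      rw [show φ e = e₀ from hφv 0, show φ f = f₀ from hφv 1]
    have hTW : W.map T = W := by
      refine Submodule.eq_of_le_of_finrank_eq ?_ ?_
      · rw [Submodule.map_span_le]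
        rintro y (rfl | rfl)
        · exact he
        · exact hf
      · refine LinearEquiv.finrank_eq (Submodule.equivMapOfInjective T (fun a b hab => ?_) W).symm
        have := congrArg S hab
        simpa [← Module.End.mul_apply, mul_eq_one_comm.1 hTS] using this
    have key : ∀ y, φ y ∈ W₀ ↔ y ∈ W := fun y => by
      rw [← hmapW]
      exact ⟨fun ⟨z, hz, e⟩ => φ.injective e ▸ hz, fun hy => ⟨y, hy, rfl⟩⟩
    have key2 : ∀ y, T y ∈ W ↔ y ∈ W := fun y => by
      refine ⟨fun hy => ?_, fun hy => hTW ▸ ⟨y, hy, rfl⟩⟩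
      rw [← hTW] at hy
      obtain ⟨z, hz, e⟩ := hy
      have := congrArg S e
      rw [← Module.End.mul_apply, ← Module.End.mul_apply, mul_eq_one_comm.1 hTS, Module.End.one_apply,
        Module.End.one_apply] at this
      exact this ▸ hz
    obtain ⟨w, rfl⟩ : ∃ w, ρ x *ᵥ w = v := ⟨_, hρinv x v⟩
    show ρ (x * g * x⁻¹) *ᵥ (ρ x *ᵥ w) ∈ W₀ ↔ _
    rw [map_mul, map_mul, ← Matrix.mulVec_mulVec, ← Matrix.mulVec_mulVec, hρinv', hx, hx, key, key]
    exact key2 w
  · obtain ⟨Ψ, hΨ, hΨJ⟩ := exists_space_model hB hsep hd hV h2 hJ hJ0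
    obtain ⟨x, hx⟩ := lift (Ψ.symm.trans Φ) fun u w => by
      obtain ⟨y, rfl⟩ := Ψ.surjective u
      obtain ⟨z, rfl⟩ := Ψ.surjective w
      rw [LinearEquiv.trans_apply, LinearEquiv.trans_apply, Ψ.symm_apply_apply, Ψ.symm_apply_apply, hΦ, hΨ]
    set JM := LinearMap.toMatrix' J
    have hxJ : conjAlg ρ x JM = bM := by
      refine Matrix.ext_iff_mulVec.2 fun v => ?_
      obtain ⟨w, rfl⟩ : ∃ w, ρ x *ᵥ w = v := ⟨_, hρinv x v⟩
      obtain ⟨z, rfl⟩ := Ψ.surjective w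
      rw [conjAlg_apply, ← Matrix.mulVec_mulVec, ← Matrix.mulVec_mulVec, hρinv', hx, hx, LinearMap.toMatrix'_mulVec,
        hΨJ, LinearEquiv.trans_apply, LinearEquiv.trans_apply, Ψ.symm_apply_apply, Ψ.symm_apply_apply, hbMv, hΦJ]
    refine ⟨x, Or.inr (conj_mem_algNorm ρ hxJ ?_)⟩
    have : conjAlg ρ g JM = JM := by
      refine Matrix.ext_iff_mulVec.2 fun v => ?_
      obtain ⟨w, rfl⟩ : ∃ w, ρ g *ᵥ w = v := ⟨_, hρinv g v⟩
      rw [conjAlg_apply, ← Matrix.mulVec_mulVec, ← Matrix.mulVec_mulVec, hρinv', LinearMap.toMatrix'_mulVec,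
        LinearMap.toMatrix'_mulVec]
      exact LinearMap.congr_fun hJT w
    rw [this]
    exact Algebra.self_mem_adjoin_singleton F JM
  · obtain ⟨f, hfiso, hfr, hfq, u₂, hu₂⟩ := exists_twisted (h := h) hd h3 t
    set Q := Φ.conjAlgEquiv F f
    have hQv : ∀ p, Q (Φ p) = Φ (f p) := fun p => by simp [Q, LinearEquiv.conjAlgEquiv_apply]
    have hQiso : ∀ x y, B (Q x) (Q y) = B x y := fun x y => by
      obtain ⟨p, rfl⟩ := Φ.surjective x
      obtain ⟨p', rfl⟩ := Φ.surjective y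
      rw [hQv, hQv, hΦ, hΦ, hfiso]
    have hQq : aeval Q ((X ^ 2 - C t * X + 1) ^ 3) = 0 := by
      show aeval ((Φ.conjAlgEquiv F).toAlgHom f) _ = 0
      rw [aeval_algHom_apply, hfq, map_zero]
    have hQu : LinearIndependent F fun k : Fin 6 => (Q ^ k.1) (Φ u₂) := by
      have e : ∀ (k : ℕ), (Q ^ k) (Φ u₂) = Φ ((f ^ k) u₂) := fun k => by
        induction k with
        | zero => simp
        | succ k ih => rw [pow_succ', pow_succ', Module.End.mul_apply, Module.End.mul_apply, ih, hQv]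
      simp only [e]
      exact hu₂.map' Φ.toLinearMap Φ.ker
    obtain ⟨φ, d, hd0, hφ, hφT⟩ := cyclic_similar hB hsep hV h3 hT hTS hQiso hq hQq hu hQu
    let Δ : (AdjoinRoot h × AdjoinRoot h) ≃ₗ[F] AdjoinRoot h × AdjoinRoot h :=
      (LinearEquiv.smulOfUnit (Units.mk0 d hd0)⁻¹).prodCongr (LinearEquiv.refl F _)
    let D := (Φ.symm.trans Δ).trans Φ
    have hΔ : ∀ p, Δ p = (d⁻¹ • p.1, p.2) := fun p => rfl
    obtain ⟨x, hx⟩ := lift (φ.trans D) fun a b => by
      obtain ⟨p, hp⟩ := Φ.surjective (φ a)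
      obtain ⟨p', hp'⟩ := Φ.surjective (φ b)
      have h1 := hφ a b
      rw [← hp, ← hp', hΦ] at h1
      simp only [LinearEquiv.trans_apply, D, ← hp, ← hp', Φ.symm_apply_apply, hΔ, hΦ]
      refine mul_left_cancel₀ hd0 ?_
      rw [← h1, ← smul_eq_mul, sform, sform, ← map_smul, smul_sub, ← smul_mul_assoc, smul_smul,
        mul_inv_cancel₀ hd0, one_smul, ← mul_smul_comm, smul_smul, mul_inv_cancel₀ hd0, one_smul]
    set Q' := D.conjAlgEquiv F Q
    have hQ'v : ∀ v, Q' v = D (Q (D.symm v)) := fun v => by simp [Q', LinearEquiv.conjAlgEquiv_apply]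
    have hDsymm : ∀ p, D.symm (Φ p) = Φ (Δ.symm p) := fun p => by simp [D]
    have hΔs : ∀ p, Δ.symm p = (d • p.1, p.2) := fun p => rfl
    refine ⟨x, Or.inr (twist_mem x g Q' (fun p => ?_) fun v => ?_)⟩
    · rw [hΦJ, hQ'v, hQ'v, hDsymm, hDsymm, hQv, hQv]
      simp only [D, LinearEquiv.trans_apply, Φ.symm_apply_apply]
      rw [hbMk, hΔs, hΔs, hΔ, hΔ]
      rw [show (d • (r * p.1), r * p.2) = (r * (d • p.1), r * p.2) by rw [mul_smul_comm],
        hfr r (d • p.1, p.2)]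
      simp only [mul_smul_comm]
    · rw [hx, hx, hQ'v]
      show D (φ (ρ g *ᵥ v)) = D (Q (D.symm (D (φ v))))
      rw [D.symm_apply_apply, ← hφT]
      rfl
  · let fr := (FiniteField.frobeniusAlgHom F (AdjoinRoot h)).toLinearMap
    let f : Module.End F (AdjoinRoot h × AdjoinRoot h) := fr.prodMap fr
    have hf : ∀ p, f p = (p.1 ^ Fintype.card F, p.2 ^ Fintype.card F) := fun p => rfl
    set Q := Φ.conjAlgEquiv F f
    have hQv : ∀ p, Q (Φ p) = Φ (f p) := fun p => by simp [Q, LinearEquiv.conjAlgEquiv_apply]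
    have hQiso : ∀ x y, B (Q x) (Q y) = B x y := fun x y => by
      obtain ⟨p, rfl⟩ := Φ.surjective x
      obtain ⟨p', rfl⟩ := Φ.surjective y
      rw [hQv, hQv, hΦ, hΦ, sform, sform, ← sform_frob (p.1 * p'.2 - p.2 * p'.1)]
      congr 1
      simp only [hf, map_sub, map_mul]
      rfl
    have hQ3 : Q * (Q * Q) = 1 := LinearMap.ext fun v => by
      obtain ⟨p, rfl⟩ := Φ.surjective v
      show Q (Q (Q (Φ p))) = Φ p
      rw [hQv, hQv, hQv]
      congr 1
      exact Prod.ext (frob_three hd p.1) (frob_three hd p.2)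
    have hQN : (Q - 1 : Module.End F (Fin 3 ⊕ Fin 3 → F)) ^ 3 = 0 := by
      have h3' : (3 : Module.End F (Fin 3 ⊕ Fin 3 → F)) = 0 := by
        rw [← map_ofNat (algebraMap F (Module.End F (Fin 3 ⊕ Fin 3 → F))) 3, h3, map_zero]
      have e : (Q - 1) ^ 3 = Q * (Q * Q) - 1 - (3 : ℕ) • (Q * Q) + (3 : ℕ) • Q := by
        simp only [pow_succ, pow_zero, one_mul, sub_mul, mul_sub, mul_one, mul_assoc]
        abel
      rw [e, hQ3, nsmul_eq_mul, nsmul_eq_mul, Nat.cast_ofNat, h3']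
      simp
    have hQR : (Q - 1 : Module.End F (Fin 3 ⊕ Fin 3 → F)) ^ 2 ≠ 0 := fun h0 => by
      obtain ⟨z, hz⟩ := exists_trace_ne (h := h) hd
      refine hz ?_
      have h1 := LinearMap.congr_fun h0 (Φ (z, 0))
      rw [pow_two, Module.End.mul_apply] at h1
      simp only [map_sub, LinearMap.sub_apply, Module.End.one_apply, hQv, LinearMap.zero_apply] at h1
      simp only [← map_sub Φ, LinearEquiv.map_eq_zero_iff] at h1
      have h2' := congrArg Prod.fst h1
      simp only [hf, Prod.fst_sub, Prod.fst_zero] at h2'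
      have := (AdjoinRoot.powerBasis hirr.ne_zero).finite
      have : Finite (AdjoinRoot h) := Module.finite_of_finite F
      refine (algebraMap F (AdjoinRoot h)).injective ?_
      rw [map_zero, FiniteField.algebraMap_trace_eq_sum_pow, (AdjoinRoot.powerBasis hirr.ne_zero).finrank,
        AdjoinRoot.powerBasis_dim, hd, Nat.card_eq_fintype_card]
      simp only [Finset.sum_range_succ, Finset.sum_range_zero, zero_add, pow_zero, pow_one, pow_two, pow_mul]
      linear_combination h2' + z ^ Fintype.card F * three_ext (h := h) h3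
    have hεT : ∀ x y, B ((ε • T) x) ((ε • T) y) = B x y := fun x y => by
      simp only [LinearMap.smul_apply, map_smul, hT, smul_eq_mul]
      linear_combination B x y * hε
    have hεS : ε • T * ε • S = 1 := by rw [smul_mul_smul_comm, ← pow_two, hε, one_smul, hTS]
    obtain ⟨φ, hφ, hφT⟩ := unipotent_similar hB hsep hV h3 hεT hεS hN hR hQiso hQ3 hQN hQR
    obtain ⟨x, hx⟩ := lift φ hφ
    refine ⟨x, Or.inr (twist_mem x g (ε • Q) (fun p => ?_) fun v => ?_)⟩
    · rw [LinearMap.smul_apply, LinearMap.smul_apply, Matrix.mulVec_smul, hΦJ, hQv, hQv, hbMk]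
      simp only [hf, mul_pow]
    · rw [hx, hx, LinearMap.smul_apply, ← hφT, LinearMap.smul_apply, map_smul, smul_smul, ← pow_two, hε, one_smul]
      rfl

end Cfsg.Agent.NormalCover.SympSix
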