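import Cfsg.Agent.Lib.Forms.Herm
import Cfsg.Agent.Lib.Forms.HermCenter

/-!
Stabilisers in `SU_n` and transport by isometries of determinant one.
-/

set_option autoImplicit false

namespace Cfsg.Agent.NormalCover

open Matrix Forms

variable {F : Type*} [Field F] [Fintype F] {n q : ℕ}

/-- The underlying matrix. -/
abbrev suMat (g : ↥(Cfsg.SU n F q)) : Matrix (Fin n) (Fin n) F :=
  ((g : Matrix.SpecialLinearGroup (Fin n) F) : Matrix (Fin n) (Fin n) F)

omit [Fintype F] in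
theorem suMat_inv_mulVec (g : ↥(Cfsg.SU n F q)) (v : Fin n → F) : suMat g⁻¹ *ᵥ (suMat g *ᵥ v) = v := by
  have : suMat g⁻¹ * suMat g = 1 := by
    show ((g⁻¹ * g : ↥(Cfsg.SU n F q)) : Matrix.SpecialLinearGroup (Fin n) F).1 = 1
    rw [inv_mul_cancel]; rfl
  rw [mulVec_mulVec, this, one_mulVec]

omit [Fintype F] in
theorem suMat_mul_mulVec (g g' : ↥(Cfsg.SU n F q)) (v : Fin n → F) :
    suMat (g * g') *ᵥ v = suMat g *ᵥ (suMat g' *ᵥ v) := by
  rw [mulVec_mulVec]; rfl

omit [Fintype F] in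
/-- The stabiliser of a subspace in `SU`. -/
def subStab (W : Submodule F (Fin n → F)) : Subgroup ↥(Cfsg.SU n F q) where
  carrier := {g | ∀ v, suMat g *ᵥ v ∈ W ↔ v ∈ W}
  one_mem' := fun v => by
    show (1 : Matrix (Fin n) (Fin n) F) *ᵥ v ∈ W ↔ _
    rw [one_mulVec]
  mul_mem' {a b} ha hb := fun v => by rw [suMat_mul_mulVec, ha, hb]
  inv_mem' {a} ha := fun v => by
    rw [← ha (suMat a⁻¹ *ᵥ v)]
    have := suMat_inv_mulVec a⁻¹ v
    rw [inv_inv] at this
    rw [this]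

omit [Fintype F] in
theorem mem_subStab {W : Submodule F (Fin n → F)} {g : ↥(Cfsg.SU n F q)}
    (h : ∀ v ∈ W, suMat g *ᵥ v ∈ W) : g ∈ subStab W := by
  let T : W →ₗ[F] W := (suMat g).mulVecLin.restrict h
  have hT : Function.Surjective T := LinearMap.injective_iff_surjective.1 fun a b e => by
    have e' : suMat g *ᵥ (a : Fin n → F) = suMat g *ᵥ (b : Fin n → F) := congrArg Subtype.val e
    refine Subtype.ext ?_
    rw [← suMat_inv_mulVec g a, e', suMat_inv_mulVec]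
  refine fun v => ⟨fun hv => ?_, h v⟩
  obtain ⟨w, hw⟩ := hT ⟨_, hv⟩
  have e : suMat g *ᵥ (w : Fin n → F) = suMat g *ᵥ v := congrArg Subtype.val hw
  have := congrArg (fun x => suMat g⁻¹ *ᵥ x) e
  simp only [suMat_inv_mulVec] at this
  exact this ▸ w.2

variable (hF : Fintype.card F = q ^ 2)

include hF in
theorem center_scalar (hn : 2 ≤ n) {z : ↥(Cfsg.SU n F q)} (hz : z ∈ Subgroup.center ↥(Cfsg.SU n F q)) :
    ∃ c : F, suMat z = c • 1 := by
  refine ⟨suMat z ⟨0, by omega⟩ ⟨0, by omega⟩, ?_⟩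
  ext r s
  rw [Matrix.smul_apply, smul_eq_mul]
  by_cases h : r = s
  · subst h
    rw [Matrix.one_apply_eq, mul_one]
    by_cases h0 : r = ⟨0, by omega⟩
    · rw [h0]
    · exact (center_SU_diagonal hF z hz r ⟨0, by omega⟩ h0).2
  · rw [Matrix.one_apply_ne h, mul_zero]
    exact (center_SU_diagonal hF z hz r s h).1

include hF in
theorem center_le_subStab (hn : 2 ≤ n) (W : Submodule F (Fin n → F)) :
    Subgroup.center ↥(Cfsg.SU n F q) ≤ subStab W := by
  intro z hz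
  refine mem_subStab fun v hv => ?_
  obtain ⟨c, e⟩ := center_scalar hF hn hz
  rw [e, smul_mulVec, one_mulVec]
  exact W.smul_mem _ hv

omit [Fintype F] in
theorem suMat_isometry (g : ↥(Cfsg.SU n F q)) (u v : Fin n → F) :
    hermForm n F q (suMat g *ᵥ u) (suMat g *ᵥ v) = hermForm n F q u v := g.2 u v

omit [Fintype F] in
/-- An element of `SU` from an isometry of determinant one. -/
theorem exists_suMat {M : Matrix (Fin n) (Fin n) F} (hd : M.det = 1)
    (hM : ∀ u v, hermForm n F q (M *ᵥ u) (M *ᵥ v) = hermForm n F q u v) :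
    ∃ x : ↥(Cfsg.SU n F q), suMat x = M :=
  ⟨⟨⟨M, hd⟩, hM⟩, rfl⟩

omit [Fintype F] in
/-- Transport of an invariant subspace. -/
theorem conj_mem_subStab {W W₀ : Submodule F (Fin n → F)} {x g : ↥(Cfsg.SU n F q)}
    (hx : ∀ v, suMat x *ᵥ v ∈ W₀ ↔ v ∈ W) (hg : ∀ v ∈ W, suMat g *ᵥ v ∈ W) :
    x * g * x⁻¹ ∈ subStab W₀ := by
  refine mem_subStab fun v hv => ?_
  rw [suMat_mul_mulVec, suMat_mul_mulVec, hx]
  refine hg _ ((hx _).1 ?_)
  have := suMat_inv_mulVec x⁻¹ v
  rw [inv_inv] at this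
  rwa [this]

include hF in
/-- An isometry has determinant of norm one. -/
theorem det_isom_pow {φ : (Fin n → F) ≃ₗ[F] (Fin n → F)}
    (hφ : ∀ u v, hermForm n F q (φ u) (φ v) = hermForm n F q u v) :
    LinearMap.det (φ : (Fin n → F) →ₗ[F] (Fin n → F)) ^ (q + 1) = 1 := by
  have hne : (LinearMap.toMatrix' (φ : (Fin n → F) →ₗ[F] (Fin n → F))).det ≠ 0 := by
    rw [LinearMap.det_toMatrix']; exact (LinearEquiv.isUnit_det' φ).ne_zero
  have h := det_pow_of_mem_GU hF (g := GeneralLinearGroup.mkOfDetNeZero _ hne) (fun u v => by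
    show hermForm n F q (_ *ᵥ u) (_ *ᵥ v) = _
    simp only [GeneralLinearGroup.val_mkOfDetNeZero, Units.coeHom_apply, LinearMap.toMatrix'_mulVec,
      LinearEquiv.coe_coe]
    exact hφ u v)
  rw [GeneralLinearGroup.val_mkOfDetNeZero, LinearMap.det_toMatrix'] at h
  exact h

omit [Fintype F] in
/-- A composite of an isometry with a matrix adjusting the determinant. -/
theorem exists_suMat_comp {φ : (Fin n → F) ≃ₗ[F] (Fin n → F)}
    (hφ : ∀ u v, hermForm n F q (φ u) (φ v) = hermForm n F q u v) {D : Matrix (Fin n) (Fin n) F}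
    (hD : ∀ u v, hermForm n F q (D *ᵥ u) (D *ᵥ v) = hermForm n F q u v)
    (hd : D.det * LinearMap.det (φ : (Fin n → F) →ₗ[F] (Fin n → F)) = 1) :
    ∃ x : ↥(Cfsg.SU n F q), ∀ v, suMat x *ᵥ v = D *ᵥ φ v := by
  obtain ⟨x, hx⟩ := exists_suMat (q := q)
    (M := D * LinearMap.toMatrix' (φ : (Fin n → F) →ₗ[F] (Fin n → F)))
    (by rw [det_mul, LinearMap.det_toMatrix', hd])
    (fun u v => by rw [← mulVec_mulVec, ← mulVec_mulVec, hD, LinearMap.toMatrix'_mulVec,
      LinearMap.toMatrix'_mulVec]; exact hφ u v)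
  exact ⟨x, fun v => by rw [hx, ← mulVec_mulVec, LinearMap.toMatrix'_mulVec]; rfl⟩

omit [Fintype F] in
theorem diag_isometry {d : Fin n → F} (hd : ∀ i, d i ^ (q + 1) = 1) (u v : Fin n → F) :
    hermForm n F q (diagonal d *ᵥ u) (diagonal d *ᵥ v) = hermForm n F q u v := by
  refine Finset.sum_congr rfl fun i _ => ?_
  rw [mulVec_diagonal, mulVec_diagonal, mul_pow]
  linear_combination (u i * v i ^ q) * hd i

end Cfsg.Agent.NormalCover
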