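import Cfsg.Agent.Lib.NormalCover.Selfdual

/-!
Hermitian three-spaces with a self-adjoint root of a cubic fixed by the involution are all alike.
-/

set_option autoImplicit false
set_option linter.unusedSectionVars false

namespace Cfsg.Agent.NormalCover

open Polynomial Forms

variable {F : Type*} [Field F] [Fintype F] {q : ℕ} (hF : Fintype.card F = q ^ 2)

include hF in
theorem frob_poly_cube (p : F[X]) : p ^ (q ^ 3) = (p.map (qEnd hF)).comp (X ^ (q ^ 3)) := by
  rw [show q ^ 3 = q * Fintype.card F by rw [hF]; ring, pow_mul, frob_poly hF, ← pow_comp,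
    ← FiniteField.expand_card, expand_eq_comp_X_pow, comp_assoc, pow_comp, X_comp, ← pow_mul]

include hF in
theorem aeval_frob_cube {A : Type*} [CommRing A] [Algebra F A] (x : A) (p : F[X]) :
    aeval (x ^ q ^ 3) (p.map (qEnd hF)) = aeval x p ^ q ^ 3 := by
  rw [← map_pow (aeval x) p, frob_poly_cube hF, aeval_comp, map_pow, aeval_X]

include hF in
theorem exists_cubic : ∃ h : F[X], h.Monic ∧ Irreducible h ∧ h.natDegree = 3 ∧
    h.map (qEnd hF) = h ∧ h ∣ X ^ (q ^ 3) - X := by
  classical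
  obtain ⟨h₁, -, hirr₁, hd₁⟩ := exists_irreducible (F := F) (show 0 < 3 by norm_num)
  have : Fact (Irreducible h₁) := ⟨hirr₁⟩
  let E := AdjoinRoot h₁
  let B := AdjoinRoot.powerBasis hirr₁.ne_zero
  have := B.finite
  have : Finite E := Module.finite_of_finite F
  let _ : Fintype E := Fintype.ofFinite E
  have hrank : Module.finrank F E = 3 := by rw [B.finrank, AdjoinRoot.powerBasis_dim, hd₁]
  have hcard : Fintype.card E = (q ^ 3) ^ 2 := by
    rw [Module.card_eq_pow_finrank (K := F), hrank, hF]; ring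
  have hq : 1 < q := one_lt_q hF
  obtain ⟨g, hg⟩ := IsCyclic.exists_generator (α := Eˣ)
  have hord : orderOf g = (q ^ 3 + 1) * (q ^ 3 - 1) := by
    rw [orderOf_eq_card_of_forall_mem_zpowers hg, units_card hcard]
  set r : E := ((g ^ (q ^ 3 + 1) : Eˣ) : E)
  have hr : r ^ q ^ 3 = r := by
    have e : (g ^ (q ^ 3 + 1)) ^ q ^ 3 = g ^ (q ^ 3 + 1) := by
      have h0 : (g ^ (q ^ 3 + 1)) ^ (q ^ 3 - 1) = 1 := by rw [← pow_mul, ← hord, pow_orderOf_eq_one]
      calc (g ^ (q ^ 3 + 1)) ^ q ^ 3 = (g ^ (q ^ 3 + 1)) ^ (q ^ 3 - 1 + 1) := by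
            rw [Nat.sub_add_cancel (Nat.one_le_pow _ _ (by omega))]
        _ = _ := by rw [pow_succ, h0, one_mul]
    exact congrArg Units.val e
  have hint : IsIntegral F r := Algebra.IsIntegral.isIntegral r
  set h := minpoly F r
  have hd : h.natDegree = 3 := by
    have h1 : h.natDegree ∣ 3 := hrank ▸ minpoly.degree_dvd hint
    rcases (Nat.dvd_prime Nat.prime_three).1 h1 with h2 | h2
    · exfalso
      rw [minpoly.natDegree_eq_one_iff] at h2
      obtain ⟨a, ha⟩ := h2
      have h3 : r ^ Fintype.card F = r := by rw [← ha, ← map_pow, FiniteField.pow_card]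
      rw [hF] at h3
      have h4 : g ^ ((q ^ 3 + 1) * (q ^ 2 - 1)) = 1 := by
        have e : (g ^ (q ^ 3 + 1)) ^ (q ^ 2 - 1) * g ^ (q ^ 3 + 1) = 1 * g ^ (q ^ 3 + 1) := by
          rw [← pow_succ, Nat.sub_add_cancel (Nat.one_le_pow _ _ (by omega)), one_mul]
          exact Units.ext h3
        rw [pow_mul]
        exact mul_right_cancel e
      have h5 := orderOf_dvd_of_pow_eq_one h4
      rw [hord, Nat.mul_dvd_mul_iff_left (by positivity)] at h5
      have h6 : 1 < q ^ 2 := Nat.one_lt_pow (by norm_num) hq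
      have := Nat.le_of_dvd (by omega) h5
      have : q ^ 2 < q ^ 3 := Nat.pow_lt_pow_right hq (by norm_num)
      omega
    · exact h2
  have hm : h.Monic := minpoly.monic hint
  have hirr : Irreducible h := minpoly.irreducible hint
  refine ⟨h, hm, hirr, hd, ?_, minpoly.dvd F r (by simp [hr])⟩
  have hroot : aeval r (h.map (qEnd hF)) = 0 := by
    have := aeval_frob_cube hF r h
    rwa [hr, minpoly.aeval, zero_pow (pow_ne_zero _ (by omega))] at this
  refine Polynomial.eq_of_monic_of_dvd_of_natDegree_le hm (hm.map _) (minpoly.dvd F r hroot) ?_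
  rw [hm.natDegree_map]

section Model

variable {h : F[X]} [Fact (Irreducible h)] (hd : h.natDegree = 3) (hdiv : h ∣ X ^ (q ^ 3) - X)

theorem root_pow_cube (hdiv : h ∣ X ^ (q ^ 3) - X) :
    AdjoinRoot.root h ^ q ^ 3 = AdjoinRoot.root h := by
  have := AdjoinRoot.mk_eq_zero.2 hdiv
  rw [← AdjoinRoot.aeval_eq, map_sub, map_pow, aeval_X, sub_eq_zero] at this
  exact this

include hd in
theorem adjoinRoot_finrank : Module.finrank F (AdjoinRoot h) = 3 := by
  have hirr : Irreducible h := Fact.out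
  rw [(AdjoinRoot.powerBasis hirr.ne_zero).finrank, AdjoinRoot.powerBasis_dim, hd]

include hF hd in
theorem adjoinRoot_card [Fintype (AdjoinRoot h)] : Fintype.card (AdjoinRoot h) = (q ^ 3) ^ 2 := by
  rw [Module.card_eq_pow_finrank (K := F), adjoinRoot_finrank hd, hF]; ring

include hF in
theorem tau_add (a b : AdjoinRoot h) : (a + b) ^ q ^ 3 = a ^ q ^ 3 + b ^ q ^ 3 := by
  obtain ⟨p₀, k, hp₀, hchar, hq⟩ := exists_prime_pow_q hF
  have : Fact p₀.Prime := ⟨hp₀⟩
  have : CharP (AdjoinRoot h) p₀ := charP_of_injective_algebraMap (algebraMap F (AdjoinRoot h)).injective p₀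
  rw [hq, ← pow_mul p₀]
  exact add_pow_char_pow a b p₀ (k * 3)

include hF in
theorem tau_algebraMap (c : F) :
    algebraMap F (AdjoinRoot h) c ^ q ^ 3 = algebraMap F (AdjoinRoot h) (qEnd hF c) := by
  rw [← map_pow, qEnd_apply, show q ^ 3 = q * Fintype.card F by rw [hF]; ring, pow_mul, FiniteField.pow_card]

include hF hd in
theorem tau_tau (z : AdjoinRoot h) : (z ^ q ^ 3) ^ q ^ 3 = z := by
  have hirr : Irreducible h := Fact.out
  have := (AdjoinRoot.powerBasis hirr.ne_zero).finite
  have : Finite (AdjoinRoot h) := Module.finite_of_finite F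
  let _ : Fintype (AdjoinRoot h) := Fintype.ofFinite _
  rw [← pow_mul, ← pow_two, ← adjoinRoot_card hF hd, FiniteField.pow_card]

include hF hd in
theorem trace_tau (z : AdjoinRoot h) :
    Algebra.trace F (AdjoinRoot h) (z ^ q ^ 3) = qEnd hF (Algebra.trace F (AdjoinRoot h) z) := by
  have hirr : Irreducible h := Fact.out
  have := (AdjoinRoot.powerBasis hirr.ne_zero).finite
  have : Finite (AdjoinRoot h) := Module.finite_of_finite F
  refine (algebraMap F (AdjoinRoot h)).injective ?_
  rw [← tau_algebraMap hF, trace_eq_sum_automorphisms, trace_eq_sum_automorphisms]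
  obtain ⟨p₀, k, hp₀, hchar, hq⟩ := exists_prime_pow_q hF
  have : Fact p₀.Prime := ⟨hp₀⟩
  have : CharP (AdjoinRoot h) p₀ := charP_of_injective_algebraMap (algebraMap F (AdjoinRoot h)).injective p₀
  subst hq
  rw [← pow_mul p₀, sum_pow_char_pow]
  simp only [map_pow, ← pow_mul p₀]

/-- The trace form `tr (x ^ q³ y)`. -/
noncomputable def trForm : AdjoinRoot h →ₛₗ[qEnd hF] AdjoinRoot h →ₗ[F] F :=
  LinearMap.mk₂'ₛₗ (qEnd hF) (RingHom.id F) (fun x y => Algebra.trace F (AdjoinRoot h) (x ^ q ^ 3 * y))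
    (fun a b c => by simp only [tau_add hF, add_mul, map_add])
    (fun c a b => by
      simp only [Algebra.smul_def, mul_pow, tau_algebraMap hF, mul_assoc]
      rw [← Algebra.smul_def, map_smul, smul_eq_mul]
      simp)
    (fun a b c => by simp only [mul_add, map_add])
    (fun c a b => by simp only [mul_smul_comm, map_smul, RingHom.id_apply])

theorem trForm_apply (x y : AdjoinRoot h) :
    trForm hF x y = Algebra.trace F (AdjoinRoot h) (x ^ q ^ 3 * y) := rfl

include hd in
theorem trForm_polar : IsHermitianPolar (qEnd hF) 1 (trForm hF (h := h)) := by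
  have hirr : Irreducible h := Fact.out
  have := (AdjoinRoot.powerBasis hirr.ne_zero).finite
  have : Finite (AdjoinRoot h) := Module.finite_of_finite F
  refine isHermitianPolar_of_conj (qEnd_ne_id hF) (qEnd_qEnd hF) (fun x y => ?_) fun x hx => ?_
  · rw [trForm_apply, trForm_apply, ← trace_tau hF hd, mul_pow, tau_tau hF hd, mul_comm]
  · have := (traceForm_nondegenerate F (AdjoinRoot h)).1 (x ^ q ^ 3) hx
    exact eq_zero_of_pow_eq_zero this

variable {V : Type*} [AddCommGroup V] [Module F V] [FiniteDimensional F V]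
  {B : V →ₛₗ[qEnd hF] V →ₗ[F] F} (hB : IsHermitianPolar (qEnd hF) 1 B)

omit [FiniteDimensional F V] in
theorem adjoint_self {J : Module.End F V} (hJ : ∀ u v, B (J u) v = B u (J v)) (p : F[X]) (u v : V) :
    B u (aeval J p v) = B (aeval J (p.map (qEnd hF)) u) v := by
  induction p using Polynomial.induction_on generalizing u v with
  | C a => simp [Module.algebraMap_end_apply, LinearMap.map_smulₛₗ, qEnd_qEnd hF]
  | add f g ihf ihg =>
    simp only [map_add, Polynomial.map_add, LinearMap.add_apply, ihf, ihg]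
  | monomial n a ih =>
    rw [show C a * X ^ (n + 1) = X * (C a * X ^ n) by ring, map_mul, Module.End.mul_apply, aeval_X,
      ← hJ, ih, mul_comm X (C a * X ^ n), Polynomial.map_mul (p := C a * X ^ n), map_mul,
      Module.End.mul_apply, Polynomial.map_X, aeval_X]

include hd hdiv hB in
/-- The model: `V ≅ E` with the trace form and multiplication by the root. -/
theorem exists_model (h3 : Module.finrank F V = 3) {J : Module.End F V}
    (hJ : ∀ u v, B (J u) v = B u (J v)) (hJ0 : aeval J h = 0) :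
    ∃ Ψ : AdjoinRoot h ≃ₗ[F] V, (∀ x y, B (Ψ x) (Ψ y) = trForm hF x y) ∧
      ∀ x, J (Ψ x) = Ψ (AdjoinRoot.root h * x) := by
  have hirr : Irreducible h := Fact.out
  have := (AdjoinRoot.powerBasis hirr.ne_zero).finite
  have : Finite (AdjoinRoot h) := Module.finite_of_finite F
  let _ : Fintype (AdjoinRoot h) := Fintype.ofFinite _
  let ρ : AdjoinRoot h →ₐ[F] Module.End F V := Ideal.Quotient.liftₐ _ (aeval J) fun p hp => by
    obtain ⟨c, rfl⟩ := Ideal.mem_span_singleton.1 hp
    rw [map_mul, hJ0, zero_mul]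
  have hρ : ∀ p : F[X], ρ (AdjoinRoot.mk h p) = aeval J p := fun p => rfl
  have hadj : ∀ z u v, B u (ρ z v) = B (ρ (z ^ q ^ 3) u) v := by
    intro z u v
    obtain ⟨p, rfl⟩ := AdjoinRoot.mk_surjective z
    rw [hρ, adjoint_self hF hJ p, ← hρ]
    congr 3
    rw [← AdjoinRoot.aeval_eq p, ← AdjoinRoot.aeval_eq, ← aeval_frob_cube hF, root_pow_cube hdiv]
  have hinj : ∀ v : V, v ≠ 0 → Function.Injective (fun z => ρ z v) := by
    intro v hv z w e
    by_contra hne
    refine hv ?_
    have e1 : ρ (z - w) v = 0 := by rw [map_sub, LinearMap.sub_apply]; exact sub_eq_zero.2 e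
    calc v = ρ ((z - w)⁻¹ * (z - w)) v := by rw [inv_mul_cancel₀ (sub_ne_zero.2 hne), map_one]; rfl
      _ = 0 := by rw [map_mul, Module.End.mul_apply, e1, map_zero]
  have : Nontrivial V := Module.nontrivial_of_finrank_pos (by omega : 0 < Module.finrank F V)
  obtain ⟨v, hv⟩ := exists_ne (0 : V)
  let orbit : V → AdjoinRoot h →ₗ[F] V := fun u => (LinearMap.applyₗ u).comp ρ.toLinearMap
  let ev := LinearEquiv.ofBijective (orbit v) ⟨hinj v hv,
    (LinearMap.injective_iff_surjective_of_finrank_eq_finrank (by rw [adjoinRoot_finrank hd, h3])).1 (hinj v hv)⟩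
  let l : Module.Dual F (AdjoinRoot h) := (B v).comp (orbit v)
  obtain ⟨c, hc⟩ : ∃ c, Algebra.traceForm F (AdjoinRoot h) c = l :=
    ⟨_, LinearEquiv.apply_symm_apply (LinearMap.BilinForm.toDual _ (traceForm_nondegenerate F (AdjoinRoot h))) l⟩
  have hcl : ∀ z, Algebra.trace F (AdjoinRoot h) (c * z) = B v (ρ z v) := fun z => LinearMap.congr_fun hc z
  have hcτ : c ^ q ^ 3 = c := by
    have hkey : ∀ z, Algebra.trace F (AdjoinRoot h) ((c ^ q ^ 3 - c) * z) = 0 := by
      intro z
      rw [sub_mul, map_sub, sub_eq_zero]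
      conv_lhs => rw [← tau_tau hF hd z, ← mul_pow, trace_tau hF hd, hcl, hadj (z ^ q ^ 3), tau_tau hF hd]
      rw [hcl, show qEnd hF (B (ρ z v) v) = B v (ρ z v) by rw [hB.swap (ρ z v) v, one_mul]]
    exact sub_eq_zero.1 ((traceForm_nondegenerate F (AdjoinRoot h)).1 _ hkey)
  have hc0 : c ≠ 0 := by
    intro e
    refine hv (hB.sep v fun y => ?_)
    obtain ⟨z, rfl⟩ := ev.surjective y
    show B v (ρ z v) = 0
    rw [← hcl, e, zero_mul, map_zero]
  obtain ⟨d, hd0, hdn⟩ := exists_norm_eq (adjoinRoot_card hF hd) (inv_ne_zero hc0) (by rw [inv_pow, hcτ])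
  let w := ρ d v
  have hw : w ≠ 0 := fun e => hd0 (hinj v hv (show ρ d v = ρ 0 v by rw [map_zero]; exact e))
  let ew := LinearEquiv.ofBijective (orbit w) ⟨hinj w hw,
    (LinearMap.injective_iff_surjective_of_finrank_eq_finrank (by rw [adjoinRoot_finrank hd, h3])).1 (hinj w hw)⟩
  refine ⟨ew, fun x y => ?_, fun x => ?_⟩
  · show B (ρ x (ρ d v)) (ρ y (ρ d v)) = _
    rw [← Module.End.mul_apply, ← map_mul, ← Module.End.mul_apply, ← map_mul,
      show B (ρ (x * d) v) (ρ (y * d) v) = B v (ρ ((x * d) ^ q ^ 3 * (y * d)) v) by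
        rw [map_mul ρ ((x * d) ^ q ^ 3), Module.End.mul_apply, hadj ((x * d) ^ q ^ 3), tau_tau hF hd],
      ← hcl, trForm_apply, mul_pow]
    congr 1
    calc c * (x ^ q ^ 3 * d ^ q ^ 3 * (y * d)) = x ^ q ^ 3 * y * (c * (d ^ (q ^ 3 + 1))) := by ring
      _ = _ := by rw [hdn, mul_inv_cancel₀ hc0, mul_one]
  · show J (ρ x w) = ρ (AdjoinRoot.root h * x) w
    rw [map_mul, Module.End.mul_apply]
    show _ = ρ (AdjoinRoot.mk h X) _
    rw [hρ, aeval_X]

end Model

end Cfsg.Agent.NormalCover
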