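import Cfsg.Agent.Lib.NormalCover.Selfdual
import Cfsg.Agent.Lib.NormalCover.Unitary
import Cfsg.Agent.Lib.NormalCover.Basic

/-!
`PSU₄(q)`: every element fixes a nonsingular point or a totally isotropic line.
-/

set_option autoImplicit false

namespace Cfsg.Agent.NormalCover

open Polynomial Forms

variable {F : Type*} [Field F] [Fintype F] {q : ℕ} (hF : Fintype.card F = q ^ 2)

section Invariant

variable {V : Type*} [AddCommGroup V] [Module F V] [FiniteDimensional F V]
  {h : V →ₛₗ[qEnd hF] V →ₗ[F] F} (hh : IsHermitianPolar (qEnd hF) 1 h)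
  {T S : Module.End F V} (hT : ∀ x y, h (T x) (T y) = h x y) (hTS : T * S = 1)

omit [Fintype F] [FiniteDimensional F V] in
/-- A vector killed by a quadratic polynomial. -/
theorem quad_apply {π : F[X]} (hm : π.Monic) (hd : π.natDegree = 2) (u : V) :
    aeval T π u = T (T u) + π.coeff 1 • T u + π.coeff 0 • u := by
  rw [aeval_eq_sum_range, hd, LinearMap.sum_apply]
  simp only [Finset.sum_range_succ, Finset.sum_range_zero, zero_add, LinearMap.smul_apply, pow_zero,
    Module.End.one_apply, pow_one, pow_two, Module.End.mul_apply,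
    show π.coeff 2 = 1 from hd ▸ hm.coeff_natDegree, one_smul]
  abel

omit [Fintype F] [FiniteDimensional F V] in
theorem no_line {π : F[X]} (hirr : Irreducible π) (hd : 2 ≤ π.natDegree) {u : V} (hu : u ≠ 0)
    (hπ : aeval T π u = 0) (c : F) : T u ≠ c • u := by
  intro e
  have := dvd_of_kill (T := T) hirr hu hπ (p := X - C c) (by
    simp [e, Module.algebraMap_end_apply])
  have := natDegree_le_of_dvd this (X_sub_C_ne_zero c)
  rw [natDegree_X_sub_C] at this
  omega

include hh hT hTS in
/-- The kernel of an irreducible quadratic factor contains a totally isotropic invariant line. -/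
theorem quad_branch {π : F[X]} (hm : π.Monic) (hirr : Irreducible π) (hd : π.natDegree = 2)
    {u : V} (hu : u ≠ 0) (hπ : aeval T π u = 0) :
    ∃ a b : V, LinearIndependent F ![a, b] ∧ h a a = 0 ∧ h a b = 0 ∧ h b b = 0 ∧
      T a ∈ Submodule.span F {a, b} ∧ T b ∈ Submodule.span F {a, b} := by
  by_cases hnd : ∀ f : F[X], (∀ g : F[X], h (aeval T f u) (aeval T g u) = 0) → aeval T f u = 0
  · obtain ⟨hodd, -⟩ := selfdual_of_cyclic hF hT hTS hm hirr hu hπ hnd
    rw [hd] at hodd
    exact absurd hodd (by decide)
  push Not at hnd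
  obtain ⟨f, hf, ha⟩ := hnd
  set a := aeval T f u with hadef
  have haπ : aeval T π a = 0 := by
    rw [hadef, ← Module.End.mul_apply, ← map_mul, mul_comm]
    exact kill_mul π f hπ
  have haa : h a a = 0 := hf f
  have hab : h a (T a) = 0 := by
    have := hf (X * f)
    rwa [map_mul, aeval_X, Module.End.mul_apply] at this
  refine ⟨a, T a, ?_, haa, hab, by rw [hT, haa], Submodule.subset_span (by simp), ?_⟩
  · rw [LinearIndependent.pair_iff]
    intro s t hst
    by_cases ht : t = 0
    · subst ht
      simp only [zero_smul, add_zero, smul_eq_zero] at hst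
      exact ⟨hst.resolve_right ha, rfl⟩
    · exfalso
      refine no_line (T := T) hirr hd.ge ha haπ (-(s / t)) ?_
      have e : t • T a = -(s • a) := eq_neg_of_add_eq_zero_right hst
      calc T a = t⁻¹ • (t • T a) := by rw [smul_smul, inv_mul_cancel₀ ht, one_smul]
        _ = _ := by rw [e, smul_neg, smul_smul, neg_smul]; congr 2; ring
  · rw [quad_apply hm hd, add_assoc, add_eq_zero_iff_eq_neg] at haπ
    rw [haπ]
    refine Submodule.neg_mem _ (Submodule.add_mem _ (Submodule.smul_mem _ _ ?_) (Submodule.smul_mem _ _ ?_)) <;>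
      exact Submodule.subset_span (by simp)

include hh hT hTS in
/-- An isotropic eigenvector extends to one of the two configurations. -/
theorem eigen_branch (h4 : Module.finrank F V = 4) {v : V} (hv : v ≠ 0) (hvv : h v v = 0) {α : F}
    (hTv : T v = α • v) :
    (∃ (v : V) (α : F), h v v ≠ 0 ∧ T v = α • v) ∨
    ∃ a b : V, LinearIndependent F ![a, b] ∧ h a a = 0 ∧ h a b = 0 ∧ h b b = 0 ∧
      T a ∈ Submodule.span F {a, b} ∧ T b ∈ Submodule.span F {a, b} := by
  classical
  have hSv : ∀ x, S (T x) = x := fun x => by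
    rw [← Module.End.mul_apply, mul_eq_one_comm.1 hTS]; rfl
  have hinj : Function.Injective T := fun a b e => by rw [← hSv a, e, hSv]
  have hα : α ≠ 0 := fun e => hv (hinj (by rw [hTv, e, zero_smul, map_zero]))
  have hSTx : ∀ x y, h x (T y) = h (S x) y := fun x y => by
    conv_lhs => rw [← Module.End.one_apply (R := F) x, ← hTS, Module.End.mul_apply, hT]
  have hTperp : ∀ x, h v x = 0 → h v (T x) = 0 := fun x hx => by
    have e : S v = α⁻¹ • v := by
      have := congrArg (fun y => α⁻¹ • S y) hTv
      simp only [hSv, map_smul, smul_smul, inv_mul_cancel₀ hα, one_smul] at this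
      exact this.symm
    rw [hSTx, e, LinearMap.map_smulₛₗ, LinearMap.smul_apply, hx, smul_zero]
  -- a vector `w` of `v⊥`, not in the line, mapped into `⟨w, v⟩`
  have pair : ∀ w, h v w = 0 → (∀ c : F, w ≠ c • v) → h w w = 0 → ∀ β e : F, T w = β • w + e • v →
      ∃ a b : V, LinearIndependent F ![a, b] ∧ h a a = 0 ∧ h a b = 0 ∧ h b b = 0 ∧
        T a ∈ Submodule.span F {a, b} ∧ T b ∈ Submodule.span F {a, b} := by
    intro w hw hne hww β e hTw
    refine ⟨v, w, ?_, hvv, hw, hww, ?_, ?_⟩
    · rw [LinearIndependent.pair_iff' hv]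
      exact fun c e => hne c e.symm
    · rw [hTv]; exact Submodule.smul_mem _ _ (Submodule.subset_span (by simp))
    · rw [hTw]
      exact Submodule.add_mem _ (Submodule.smul_mem _ _ (Submodule.subset_span (by simp)))
        (Submodule.smul_mem _ _ (Submodule.subset_span (by simp)))
  have lift : ∀ w, h v w = 0 → h w w ≠ 0 → ∀ β e : F, T w = β • w + e • v → β ≠ α →
      ∃ (v : V) (α : F), h v v ≠ 0 ∧ T v = α • v := by
    intro w hw hww β e hTw hne
    have hwv : h w v = 0 := hh.eq_zero_comm hw
    refine ⟨w + (e / (β - α)) • v, β, ?_, ?_⟩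
    · simpa [hw, hwv, hvv] using hww
    · rw [map_add, map_smul, hTv, hTw, smul_add, smul_smul, smul_smul, add_assoc, ← add_smul]
      congr 2
      field_simp [sub_ne_zero.2 hne]
      ring
  -- find `w`
  have hker : 3 ≤ Module.finrank F (LinearMap.ker (h v)) := by
    have := LinearMap.finrank_range_add_finrank_ker (h v)
    have h1 := Submodule.finrank_le (LinearMap.range (h v))
    rw [Module.finrank_self] at h1
    omega
  have hkne : LinearMap.ker (h v) ≠ ⊤ := fun e => hv (hh.sep v fun y =>
    LinearMap.mem_ker.1 (e ▸ Submodule.mem_top))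
  have hker' : Module.finrank F (LinearMap.ker (h v)) = 3 := by
    have := Submodule.finrank_lt hkne
    omega
  obtain ⟨w, hw, hwne⟩ : ∃ w, h v w = 0 ∧ ∀ c : F, w ≠ c • v := by
    by_contra! hcon
    have := Submodule.finrank_mono (show LinearMap.ker (h v) ≤ F ∙ v from fun w hw => by
      obtain ⟨c, hc⟩ := hcon w hw
      exact Submodule.mem_span_singleton.2 ⟨c, hc.symm⟩)
    rw [finrank_span_singleton hv] at this
    omega
  -- either a quadratic factor or a triangular vector
  have step : (∃ π : F[X], π.Monic ∧ Irreducible π ∧ π.natDegree = 2 ∧ ∃ u, u ≠ 0 ∧ aeval T π u = 0) ∨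
      ∃ (w : V) (β e : F), h v w = 0 ∧ (∀ c : F, w ≠ c • v) ∧ T w = β • w + e • v := by
    by_contra hcon
    rw [not_or] at hcon
    obtain ⟨hq, ht⟩ := hcon
    push Not at ht
    -- `v`, `w`, `T w`, `T² w` are dependent
    let f : Fin 4 → LinearMap.ker (h v) :=
      ![⟨v, hvv⟩, ⟨w, hw⟩, ⟨T w, hTperp w hw⟩, ⟨T (T w), hTperp _ (hTperp w hw)⟩]
    have hli : ¬ LinearIndependent F f := fun hl => by
      have := hl.fintype_card_le_finrank
      rw [hker', Fintype.card_fin] at this
      omega
    obtain ⟨c, hc, i, hi⟩ := Fintype.not_linearIndependent_iff.1 hli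
    have hc' : c 0 • v + c 1 • w + c 2 • T w + c 3 • T (T w) = 0 := by
      have := congrArg Subtype.val hc
      simpa [Fin.sum_univ_four, f] using this
    by_cases h3 : c 3 = 0
    · by_cases h2 : c 2 = 0
      · by_cases h1 : c 1 = 0
        · simp [h1, h2, h3, hv] at hc'
          fin_cases i <;> simp_all
        · refine hwne (-(c 0 / c 1)) ?_
          simp only [h2, h3, zero_smul, add_zero] at hc'
          calc w = (c 1)⁻¹ • (c 1 • w) := by rw [smul_smul, inv_mul_cancel₀ h1, one_smul]
            _ = _ := by rw [eq_neg_of_add_eq_zero_right hc', smul_neg, smul_smul, neg_smul]; congr 2; ring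
      · refine ht w (-(c 1 / c 2)) (-(c 0 / c 2)) hw hwne ?_
        simp only [h3, zero_smul, add_zero] at hc'
        have e : c 2 • T w = -(c 0 • v + c 1 • w) := eq_neg_of_add_eq_zero_right hc'
        calc T w = (c 2)⁻¹ • (c 2 • T w) := by rw [smul_smul, inv_mul_cancel₀ h2, one_smul]
          _ = _ := by rw [e]; module
    · set π : F[X] := X ^ 2 + C (c 2 / c 3) * X + C (c 1 / c 3) with hπdef
      have hπm : π.Monic := by rw [hπdef, add_assoc]; exact monic_X_pow_add (degree_linear_le.trans_lt (by norm_num))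
      have hπd : π.natDegree = 2 := by rw [hπdef]; compute_degree!
      have e0 : T (T w) + (c 2 / c 3) • T w + (c 1 / c 3) • w = -(c 0 / c 3) • v := by
        have := congrArg (fun x => (c 3)⁻¹ • x) hc'
        simp only [smul_add, smul_smul, smul_zero, inv_mul_cancel₀ h3, one_smul] at this
        linear_combination (norm := module) this
      have hπw : aeval T π w = -(c 0 / c 3) • v := by
        rw [← e0, hπdef]
        simp [Module.algebraMap_end_apply, pow_two]
      have hπv : aeval T π v = π.eval α • v := by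
        rw [hπdef]
        simp [Module.algebraMap_end_apply, pow_two, hTv, smul_smul, add_smul, mul_comm α (c 2 / c 3)]
      by_cases hirr : Irreducible π
      · have hne : π.eval α ≠ 0 := fun e => by
          have := degree_eq_one_of_irreducible_of_root hirr (x := α) e
          rw [degree_eq_natDegree hirr.ne_zero, hπd] at this
          norm_cast at this
        refine hq ⟨π, hπm, hirr, hπd, w + (c 0 / c 3 / π.eval α) • v, ?_, ?_⟩
        · intro e
          exact hwne _ (by rw [eq_neg_of_add_eq_zero_left e, neg_smul])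
        · rw [map_add, map_smul, hπw, hπv, smul_smul, div_mul_cancel₀ _ hne, neg_smul, neg_add_cancel]
      · obtain ⟨β, hβ⟩ : ∃ β, π.IsRoot β := by
          by_contra! hno
          refine hirr ((Polynomial.irreducible_iff_roots_eq_zero_of_degree_le_three (by omega) (by omega)).2 ?_)
          exact Multiset.eq_zero_of_forall_notMem fun x hx => hno x (isRoot_of_mem_roots hx)
        have hb : c 1 / c 3 = -(β * β + c 2 / c 3 * β) := by
          rw [hπdef, IsRoot.def] at hβ
          simp at hβ
          linear_combination hβ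
        let w' := T w + (β + c 2 / c 3) • w
        have hTw' : T w' = β • w' + (-(c 0 / c 3)) • v := by
          simp only [w', map_add, map_smul]
          linear_combination (norm := (match_scalars <;> linear_combination (0 : F))) e0 - hb • w
        by_cases hw' : ∀ c' : F, w' ≠ c' • v
        · refine ht w' β _ ?_ hw' hTw'
          simp [w', hw, hTperp w hw]
        · push Not at hw'
          obtain ⟨c', hc''⟩ := hw'
          refine ht w (-(β + c 2 / c 3)) c' hw hwne ?_
          rw [← hc'']
          simp only [w']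
          module
  rcases step with ⟨π, hm, hirr, hd, u, hu, hπ⟩ | ⟨w, β, e, hw, hwne, hTw⟩
  · exact Or.inr (quad_branch hF hh hT hTS hm hirr hd hu hπ)
  by_cases hww : h w w = 0
  · exact Or.inr (pair w hw hwne hww β e hTw)
  by_cases hβ : β = α
  swap
  · exact Or.inl (lift w hw hww β e hTw hβ)
  subst hβ
  -- the orthogonal of `w` in `v⊥`
  set K := LinearMap.ker ((h w).domRestrict (LinearMap.ker (h v)))
  have hK : 2 ≤ Module.finrank F K := by
    have := LinearMap.finrank_range_add_finrank_ker ((h w).domRestrict (LinearMap.ker (h v)))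
    have h1 := Submodule.finrank_le (LinearMap.range ((h w).domRestrict (LinearMap.ker (h v))))
    rw [Module.finrank_self] at h1
    change _ + Module.finrank F K = _ at this
    omega
  have hwv : h w v = 0 := hh.eq_zero_comm hw
  obtain ⟨w₂, hw₂, hw₂w, hw₂ne⟩ : ∃ w₂, h v w₂ = 0 ∧ h w w₂ = 0 ∧ ∀ c : F, w₂ ≠ c • v := by
    by_contra! hcon
    have := Submodule.finrank_mono (show K.map (LinearMap.ker (h v)).subtype ≤ F ∙ v from fun x hx => by
      obtain ⟨y, hy, rfl⟩ := hx
      obtain ⟨c, hc⟩ := hcon y y.2 (LinearMap.mem_ker.1 hy)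
      exact Submodule.mem_span_singleton.2 ⟨c, hc.symm⟩)
    rw [Submodule.finrank_map_subtype_eq, finrank_span_singleton hv] at this
    omega
  by_cases hww₂ : h w₂ w₂ = 0 ∧ ∃ β₂ e₂ : F, T w₂ = β₂ • w₂ + e₂ • v
  · obtain ⟨h0, β₂, e₂, hTw₂⟩ := hww₂
    exact Or.inr (pair w₂ hw₂ hw₂ne h0 β₂ e₂ hTw₂)
  -- `T` preserves `⟨v, w₂⟩`
  have hSw : h w (T w₂) = 0 := by
    rw [hSTx]
    have eSv : S v = β⁻¹ • v := by
      have := congrArg (fun y => β⁻¹ • S y) hTv
      simp only [hSv, map_smul, smul_smul, inv_mul_cancel₀ hα, one_smul] at this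
      exact this.symm
    have eSw : S w = β⁻¹ • w - (β⁻¹ * (e * β⁻¹)) • v := by
      have := congrArg (fun y => β⁻¹ • S y) hTw
      simp only [hSv, map_add, map_smul, eSv, smul_add, smul_smul, inv_mul_cancel₀ hα, one_smul] at this
      rw [this]; module
    rw [eSw, map_sub, LinearMap.map_smulₛₗ, LinearMap.map_smulₛₗ, LinearMap.sub_apply,
      LinearMap.smul_apply, LinearMap.smul_apply, hw₂, hw₂w, smul_zero, smul_zero, sub_zero]
  obtain ⟨β₂, e₂, hTw₂⟩ : ∃ β₂ e₂ : F, T w₂ = β₂ • w₂ + e₂ • v := by
    let f : Fin 4 → LinearMap.ker (h v) :=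
      ![⟨v, hvv⟩, ⟨w, hw⟩, ⟨w₂, hw₂⟩, ⟨T w₂, hTperp _ hw₂⟩]
    have hli : ¬ LinearIndependent F f := fun hl => by
      have := hl.fintype_card_le_finrank
      rw [hker', Fintype.card_fin] at this
      omega
    obtain ⟨c, hc, i, hi⟩ := Fintype.not_linearIndependent_iff.1 hli
    have hc' : c 0 • v + c 1 • w + c 2 • w₂ + c 3 • T w₂ = 0 := by
      have := congrArg Subtype.val hc
      simpa [Fin.sum_univ_four, f] using this
    have h1 : c 1 = 0 := by
      have := congrArg (h w) hc'
      simp only [map_add, map_smul, map_zero, hwv, hw₂w, hSw, smul_zero, zero_add, add_zero, smul_eq_mul,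
        mul_zero] at this
      exact (mul_eq_zero.1 this).resolve_right hww
    by_cases h3 : c 3 = 0
    · exfalso
      simp only [h1, h3, zero_smul, add_zero] at hc'
      by_cases h2 : c 2 = 0
      · simp [h2, hv] at hc'
        fin_cases i <;> simp_all
      · refine hw₂ne (-(c 0 / c 2)) ?_
        calc w₂ = (c 2)⁻¹ • (c 2 • w₂) := by rw [smul_smul, inv_mul_cancel₀ h2, one_smul]
          _ = _ := by rw [eq_neg_of_add_eq_zero_right hc', smul_neg, smul_smul, neg_smul]; congr 2; ring
    · refine ⟨-(c 2 / c 3), -(c 0 / c 3), ?_⟩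
      simp only [h1, zero_smul, add_zero] at hc'
      calc T w₂ = (c 3)⁻¹ • (c 3 • T w₂) := by rw [smul_smul, inv_mul_cancel₀ h3, one_smul]
        _ = _ := by rw [eq_neg_of_add_eq_zero_right hc']; module
  have h22 : h w₂ w₂ ≠ 0 := fun h0 => hww₂ ⟨h0, β₂, e₂, hTw₂⟩
  by_cases hβ₂ : β₂ = β
  swap
  · exact Or.inl (lift w₂ hw₂ h22 β₂ e₂ hTw₂ hβ₂)
  subst hβ₂
  -- scalar on the quotient: an isotropic combination
  obtain ⟨c, hc0, hc⟩ : ∃ c : F, c ≠ 0 ∧ c ^ (q + 1) = -(h w w / h w₂ w₂) := by
    refine exists_norm_eq hF (neg_ne_zero.2 (div_ne_zero hww h22)) ?_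
    have e : ∀ x, qEnd hF (h x x) = h x x := fun x => by
      conv_rhs => rw [hh.swap x x, one_mul]
    rw [← qEnd_apply hF, map_neg, map_div₀, e, e]
  have hw₂' : h w₂ w = 0 := hh.eq_zero_comm hw₂w
  refine Or.inr (pair (w + c • w₂) (by simp [hw, hw₂]) ?_ ?_ β₂ (e + c * e₂) ?_)
  · intro d hd
    have := congrArg (h w) hd
    simp [hw₂w, hwv, hww] at this
  · have hq : qEnd hF c * c = c ^ (q + 1) := by rw [qEnd_apply, pow_succ]
    simp [hw₂w, hw₂']
    have e1 := hc
    field_simp at e1
    linear_combination e1 + (h w₂ w₂) * hq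
  · rw [map_add, map_smul, hTw, hTw₂]; module

include hh hT hTS in
/-- Every isometry of a four-dimensional hermitian space fixes a nonsingular point or an isotropic line. -/
theorem exists_invariant (h4 : Module.finrank F V = 4) :
    (∃ (v : V) (α : F), h v v ≠ 0 ∧ T v = α • v) ∨
    ∃ a b : V, LinearIndependent F ![a, b] ∧ h a a = 0 ∧ h a b = 0 ∧ h b b = 0 ∧
      T a ∈ Submodule.span F {a, b} ∧ T b ∈ Submodule.span F {a, b} := by
  classical
  by_cases heig : ∃ (v : V) (α : F), v ≠ 0 ∧ T v = α • v
  · obtain ⟨v, α, hv, hTv⟩ := heig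
    by_cases hvv : h v v = 0
    · exact eigen_branch hF hh hT hTS h4 hv hvv hTv
    · exact Or.inl ⟨v, α, hvv, hTv⟩
  push Not at heig
  have : Nontrivial V := Module.nontrivial_of_finrank_pos (by omega : 0 < Module.finrank F V)
  have hint : IsIntegral F T := Algebra.IsIntegral.isIntegral T
  obtain ⟨π, hm, hirr, hdvd⟩ := exists_monic_irreducible_factor _ (minpoly.not_isUnit F T)
  obtain ⟨τ, hτ⟩ := hdvd
  have hτ0 : τ ≠ 0 := fun e => minpoly.ne_zero hint (by rw [hτ, e, mul_zero])
  have hdeg : π.natDegree ≤ 4 := by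
    have h1 := natDegree_le_of_dvd ⟨τ, hτ⟩ (minpoly.ne_zero hint)
    have h2 := natDegree_le_of_dvd (LinearMap.minpoly_dvd_charpoly T) T.charpoly_monic.ne_zero
    rw [LinearMap.charpoly_natDegree, h4] at h2
    omega
  obtain ⟨u, hu, hπ⟩ : ∃ u, u ≠ 0 ∧ aeval T π u = 0 := by
    have hne : aeval T τ ≠ 0 := fun e => by
      have := natDegree_le_of_dvd (minpoly.dvd F T e) hτ0
      rw [hτ, natDegree_mul hirr.ne_zero hτ0] at this
      have := hirr.natDegree_pos
      omega
    obtain ⟨x, hx⟩ : ∃ x, aeval T τ x ≠ 0 := by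
      by_contra! h0
      exact hne (LinearMap.ext h0)
    refine ⟨_, hx, ?_⟩
    rw [← Module.End.mul_apply, ← map_mul, ← hτ, minpoly.aeval, LinearMap.zero_apply]
  have hpos := hirr.natDegree_pos
  obtain hd | hd | hd | hd : π.natDegree = 1 ∨ π.natDegree = 2 ∨ π.natDegree = 3 ∨ π.natDegree = 4 := by omega
  · exfalso
    rw [hm.eq_X_add_C hd] at hπ
    refine heig u (-π.coeff 0) hu ?_
    simp [Module.algebraMap_end_apply] at hπ
    rw [eq_neg_of_add_eq_zero_left hπ, neg_smul]
  · exact Or.inr (quad_branch hF hh hT hTS hm hirr hd hu hπ)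
  · exfalso
    -- the orthogonal line is invariant
    have hSTx : ∀ x y, h x (T y) = h (S x) y := fun x y => by
      conv_lhs => rw [← Module.End.one_apply (R := F) x, ← hTS, Module.End.mul_apply, hT]
    let L : V →ₗ[F] (Fin 3 → F) := LinearMap.pi fun i : Fin 3 => h ((T ^ i.1) u)
    have hW : ∀ p : F[X], ∃ c : Fin 3 → F, aeval T p u = ∑ i, c i • (T ^ i.1) u := fun p => by
      refine ⟨fun i => (p %ₘ π).coeff i.1, ?_⟩
      have e : aeval T p u = aeval T (p %ₘ π) u := by
        conv_lhs => rw [← modByMonic_add_div p π]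
        rw [map_add, LinearMap.add_apply, mul_comm π, kill_mul π _ hπ, add_zero]
      rw [e, aeval_eq_sum_range' (n := 3) (by
        have := natDegree_modByMonic_lt p hm (fun e => by simp [e] at hd); omega),
        LinearMap.sum_apply, ← Fin.sum_univ_eq_sum_range (fun i => ((p %ₘ π).coeff i • T ^ i) u)]
      rfl
    obtain ⟨x, hx, hx0⟩ : ∃ x, L x = 0 ∧ x ≠ 0 := by
      have := LinearMap.finrank_range_add_finrank_ker L
      have h1 := Submodule.finrank_le (LinearMap.range L)
      rw [Module.finrank_fin_fun] at h1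
      obtain ⟨x, hx, hx0⟩ := Submodule.exists_mem_ne_zero_of_ne_bot (p := LinearMap.ker L) (fun e => by
        rw [e, finrank_bot] at this; omega)
      exact ⟨x, hx, hx0⟩
    have hperp : ∀ p : F[X], h (aeval T p u) x = 0 := fun p => by
      obtain ⟨c, hc⟩ := hW p
      rw [hc, map_sum, LinearMap.sum_apply]
      refine Finset.sum_eq_zero fun i _ => ?_
      rw [LinearMap.map_smulₛₗ, LinearMap.smul_apply, show h ((T ^ i.1) u) x = 0 from congrFun hx i, smul_zero]
    -- independence
    have hli : LinearIndependent F fun i : Fin 3 => (T ^ i.1) u := by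
      rw [Fintype.linearIndependent_iff]
      intro c hc
      let p : F[X] := ∑ i : Fin 3, C (c i) * X ^ i.1
      have hp : aeval T p u = 0 := by
        simp only [p, map_sum, LinearMap.sum_apply, map_mul, aeval_C, map_pow, aeval_X, Module.End.mul_apply,
          Module.algebraMap_end_apply]
        exact hc
      have hp0 : p = 0 := eq_zero_of_dvd_of_natDegree_lt (dvd_of_kill hirr hu hπ hp) (by
        rw [hd]
        refine lt_of_le_of_lt (natDegree_sum_le_of_forall_le (n := 2) _ _ fun i _ => ?_) (by norm_num)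
        exact (natDegree_C_mul_X_pow_le _ _).trans (by omega))
      intro i
      have := congrArg (fun f => coeff f i.1) hp0
      simpa [p, finsetSum_coeff, coeff_X_pow, Fin.val_inj] using this
    have hsurj : ∀ z : V, (∀ p : F[X], h (aeval T p u) z = 0) → ∃ c : F, z = c • x := by
      have hrank : 3 ≤ Module.finrank F (LinearMap.range L) := by
        by_contra! hlt
        have hne : LinearMap.range L ≠ ⊤ := fun e => by rw [e, finrank_top, Module.finrank_fin_fun] at hlt; omega
        obtain ⟨f, hf0, hf⟩ := Submodule.exists_dual_map_eq_bot_of_lt_top (lt_top_iff_ne_top.2 hne) inferInstance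
        let c : Fin 3 → F := fun i => f (Pi.single i 1)
        refine hf0 (LinearMap.pi_ext' fun i => LinearMap.ext_ring ?_)
        have hsum : ∀ z, ∑ i, c i * L z i = 0 := fun z => by
          have : f (L z) = 0 := by
            have := Submodule.mem_map_of_mem (f := f) (LinearMap.mem_range_self L z)
            rwa [hf, Submodule.mem_bot] at this
          rw [pi_eq_sum_univ' (L z), map_sum] at this
          simpa [c, mul_comm] using this
        have h0 : ∑ i, qEnd hF (c i) • (T ^ i.1) u = 0 := hh.sep _ fun z => by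
          rw [map_sum, LinearMap.sum_apply, ← hsum z]
          exact Finset.sum_congr rfl fun i _ => by
            rw [LinearMap.map_smulₛₗ, LinearMap.smul_apply, qEnd_qEnd hF]; rfl
        have := Fintype.linearIndependent_iff.1 hli _ h0 i
        simpa [c] using (map_eq_zero (qEnd hF)).1 this
      intro z hz
      have h1 := LinearMap.finrank_range_add_finrank_ker L
      have hzk : z ∈ LinearMap.ker L := funext fun i => by
        have := hz (X ^ i.1)
        rwa [map_pow, aeval_X] at this
      have hk : LinearMap.ker L = F ∙ x := (Submodule.eq_of_le_of_finrank_le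
        (Submodule.span_le.2 (Set.singleton_subset_iff.2 hx)) (by rw [finrank_span_singleton hx0]; omega)).symm
      rw [hk, Submodule.mem_span_singleton] at hzk
      obtain ⟨c, hc⟩ := hzk
      exact ⟨c, hc.symm⟩
    obtain ⟨c, hc⟩ := hsurj (T x) fun p => by
      rw [hSTx]
      have : Finite V := Module.finite_of_finite F
      have : Finite (Module.End F V) :=
        Finite.of_injective (fun (f : Module.End F V) => (f : V → V)) DFunLike.coe_injective
      let U : (Module.End F V)ˣ := ⟨T, S, hTS, mul_eq_one_comm.1 hTS⟩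
      obtain ⟨m, hm0, hmT⟩ := isOfFinOrder_iff_pow_eq_one.1 (isOfFinOrder_of_finite U)
      have e : S = aeval T (X ^ (m - 1) : F[X]) := by
        rw [map_pow, aeval_X]
        have e : U ^ (m - 1) = U⁻¹ :=
          eq_inv_of_mul_eq_one_left (by rw [← pow_succ, Nat.sub_add_cancel hm0, hmT])
        exact (congrArg Units.val e).symm
      rw [e, ← Module.End.mul_apply, ← map_mul]
      exact hperp _
    exact heig x c hx0 hc
  · exfalso
    have hli : LinearIndependent F fun i : Fin 4 => (T ^ i.1) u := by
      rw [Fintype.linearIndependent_iff]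
      intro c hc
      let p : F[X] := ∑ i : Fin 4, C (c i) * X ^ i.1
      have hp : aeval T p u = 0 := by
        simp only [p, map_sum, LinearMap.sum_apply, map_mul, aeval_C, map_pow, aeval_X, Module.End.mul_apply,
          Module.algebraMap_end_apply]
        exact hc
      have hp0 : p = 0 := eq_zero_of_dvd_of_natDegree_lt (dvd_of_kill hirr hu hπ hp) (by
        rw [hd]
        refine lt_of_le_of_lt (natDegree_sum_le_of_forall_le (n := 3) _ _ fun i _ => ?_) (by norm_num)
        exact (natDegree_C_mul_X_pow_le _ _).trans (by omega))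
      intro i
      have := congrArg (fun f => coeff f i.1) hp0
      simpa [p, finsetSum_coeff, coeff_X_pow, Fin.val_inj] using this
    have hspan := hli.span_eq_top_of_card_eq_finrank (by rw [Fintype.card_fin, h4])
    obtain ⟨hodd, -⟩ := selfdual_of_cyclic hF hT hTS hm hirr hu hπ fun f hf => by
      refine hh.sep _ fun y => ?_
      have hy : y ∈ Submodule.span F (Set.range fun i : Fin 4 => (T ^ i.1) u) := hspan ▸ Submodule.mem_top
      induction hy using Submodule.span_induction with
      | mem z hz =>
        obtain ⟨i, rfl⟩ := hz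
        have := hf (X ^ i.1)
        rwa [map_pow, aeval_X] at this
      | zero => rw [map_zero]
      | add a b _ _ ha hb => rw [map_add, ha, hb, add_zero]
      | smul c a _ ha => rw [map_smul, ha, smul_zero]
    rw [hd] at hodd
    exact absurd hodd (by decide)

end Invariant

end Cfsg.Agent.NormalCover
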