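import Cfsg.Agent.Lib.NormalCover.UnitaryFour

/-!
The covering of `PSU₄(q)`.
-/

set_option autoImplicit false

namespace Cfsg.Agent.NormalCover

open Forms Matrix

variable {F : Type*} [Field F] [Fintype F] {q : ℕ} (hF : Fintype.card F = q ^ 2)

/-- The standard totally isotropic plane. -/
def isoPlane (ε : F) : Submodule F (Fin 4 → F) := Submodule.span F {![1, ε, 0, 0], ![0, 0, 1, ε]}

omit [Fintype F] in
theorem mem_isoPlane {ε : F} {v : Fin 4 → F} : v ∈ isoPlane ε ↔ v 1 = ε * v 0 ∧ v 3 = ε * v 2 := by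
  rw [isoPlane, Submodule.mem_span_pair]
  constructor
  · rintro ⟨a, b, rfl⟩
    simp [mul_comm]
  · rintro ⟨h1, h3⟩
    refine ⟨v 0, v 2, ?_⟩
    funext i
    fin_cases i <;> simp [h1, h3, mul_comm]

include hF in
theorem hermForm_pow_add (a b : F) : (a + b) ^ q = a ^ q + b ^ q := by
  rw [← qEnd_apply hF, map_add, qEnd_apply, qEnd_apply]

include hF in
/-- Isometries of every determinant preserving the plane. -/
theorem exists_plane_adjust {ε : F} (hε : ε ^ (q + 1) = -1) {δ : F} (hδ : δ ^ (q + 1) = 1) :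
    ∃ D : Matrix (Fin 4) (Fin 4) F, D.det = δ ∧
      (∀ u v, hermForm 4 F q (D *ᵥ u) (D *ᵥ v) = hermForm 4 F q u v) ∧
      ∀ v ∈ isoPlane ε, D *ᵥ v ∈ isoPlane ε := by
  classical
  set σ := qEnd hF with hσdef
  have hσ : ∀ x, σ x = x ^ q := qEnd_apply hF
  -- `c` with `σ c * δ = c`
  obtain ⟨t, ht⟩ : ∃ t, t + δ * σ t ≠ 0 := by
    by_contra! h
    have h1 : δ = -1 := by
      have := h 1
      rw [map_one, mul_one] at this
      linear_combination this
    refine qEnd_ne_id hF (RingHom.ext fun x => ?_)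
    show σ x = x
    have := h x
    rw [h1] at this
    linear_combination -this
  have hδ' : σ δ * δ = 1 := by rw [hσ, ← pow_succ, hδ]
  set c := t + δ * σ t
  have hc : σ c * δ = c := by
    simp only [c, map_add, map_mul, qEnd_qEnd hF, σ]
    linear_combination t * hδ'
  have hσc : σ c ≠ 0 := (map_ne_zero σ).2 ht
  -- the second isotropic direction
  obtain ⟨μ, hμ, hμ1⟩ : ∃ μ : F, μ ^ (q + 1) = 1 ∧ μ ≠ 1 := by
    by_contra! h
    have hc1 := card_norm_kernel hF
    have : (powMonoidHom (α := Fˣ) (q + 1)).ker = ⊥ := by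
      rw [Subgroup.eq_bot_iff_forall]
      intro x hx
      refine Units.ext (h x ?_)
      simpa using congrArg Units.val hx
    rw [this, Subgroup.card_bot] at hc1
    have := one_lt_q hF
    omega
  have hε0 : ε ≠ 0 := fun e => by
    rw [e, zero_pow (Nat.succ_ne_zero q)] at hε
    exact neg_ne_zero.2 one_ne_zero hε.symm
  set ε' := ε * μ
  have hε' : ε' ^ (q + 1) = -1 := by rw [mul_pow, hε, hμ, mul_one]
  have hε'0 : ε' ≠ 0 := mul_ne_zero hε0 fun e => by
    rw [e, zero_pow (Nat.succ_ne_zero q)] at hμ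
    exact zero_ne_one hμ
  have hk : ε' - ε ≠ 0 := by
    intro e
    exact hμ1 (mul_left_cancel₀ hε0 (by linear_combination e))
  have sε : σ ε = -ε⁻¹ := by
    rw [hσ, eq_comm, neg_eq_iff_eq_neg, inv_eq_iff_eq_inv]
    refine eq_inv_of_mul_eq_one_left ?_
    rw [mul_neg, ← pow_succ', hε, neg_neg]
  have sε' : σ ε' = -ε'⁻¹ := by
    rw [hσ, eq_comm, neg_eq_iff_eq_neg, inv_eq_iff_eq_inv]
    refine eq_inv_of_mul_eq_one_left ?_
    rw [mul_neg, ← pow_succ', hε', neg_neg]
  set c' := (σ c)⁻¹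
  have sc : σ c = c'⁻¹ := (inv_inv _).symm
  have sc' : σ c' = c⁻¹ := by rw [map_inv₀, qEnd_qEnd hF]
  have hc'0 : c' ≠ 0 := inv_ne_zero hσc
  set p := (c * ε' - c' * ε) / (ε' - ε)
  set r := (c' - c) / (ε' - ε)
  set s := ε * ε' * (c - c') / (ε' - ε)
  set w := (c' * ε' - c * ε) / (ε' - ε)
  let D : Matrix (Fin 4) (Fin 4) F := !![p, r, 0, 0; s, w, 0, 0; 0, 0, 1, 0; 0, 0, 0, 1]
  have hD : ∀ v, D *ᵥ v = ![p * v 0 + r * v 1, s * v 0 + w * v 1, v 2, v 3] := fun v => by
    funext i; fin_cases i <;> simp [D, mulVec, dotProduct, Fin.sum_univ_four]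
  have hc0 : c ≠ 0 := ht
  have hdet : p * w - r * s = c * c' := by
    simp only [p, r, s, w]
    field_simp
    ring
  have sk : σ (ε' - ε) = (ε' - ε) / (ε * ε') := by
    rw [map_sub, sε, sε']
    field_simp
    ring
  have sp : σ p = w / (c * c') := by
    simp only [p, w]
    rw [map_div₀, sk]
    simp only [map_sub, map_mul, sc, sc', sε, sε']
    field_simp
    ring
  have sw : σ w = p / (c * c') := by
    simp only [p, w]
    rw [map_div₀, sk]
    simp only [map_sub, map_mul, sc, sc', sε, sε']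
    field_simp
    ring
  have sr : σ r = -s / (c * c') := by
    simp only [r, s]
    rw [map_div₀, sk]
    simp only [map_sub, sc, sc']
    field_simp
    ring
  have ss : σ s = -r / (c * c') := by
    simp only [r, s]
    rw [map_div₀, sk]
    simp only [map_sub, map_mul, sc, sc', sε, sε']
    field_simp
    ring
  have e1 : p * σ p + s * σ s = 1 := by rw [sp, ss]; field_simp; linear_combination hdet
  have e2 : p * σ r + s * σ w = 0 := by rw [sr, sw]; field_simp; ring
  have e3 : r * σ r + w * σ w = 1 := by rw [sr, sw]; field_simp; linear_combination hdet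
  have e4 : r * σ p + w * σ s = 0 := by rw [sp, ss]; field_simp; ring
  refine ⟨D, ?_, fun u v => ?_, fun v hv => ?_⟩
  · have : D.det = p * w - r * s := by
      simp [D, det_succ_row_zero, Fin.sum_univ_four, Fin.sum_univ_three, Fin.succAbove]
      ring
    rw [this, hdet]
    show c * (σ c)⁻¹ = δ
    field_simp
    linear_combination -hc
  · simp only [hσ] at e1 e2 e3 e4
    simp [hD, hermForm, Fin.sum_univ_four, hermForm_pow_add hF, mul_pow]
    linear_combination u 0 * v 0 ^ q * e1 + u 0 * v 1 ^ q * e2 + u 1 * v 1 ^ q * e3 + u 1 * v 0 ^ q * e4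
  · rw [mem_isoPlane] at hv ⊢
    rw [hD]
    obtain ⟨h1, h3⟩ := hv
    simp [h3]
    simp only [p, r, s, w, h1]
    field_simp
    ring

include hF in
theorem psu4_cover : ∃ H K : Subgroup (Cfsg.PSU 4 F q), H ≠ ⊤ ∧ K ≠ ⊤ ∧
    ∀ g : Cfsg.PSU 4 F q, ∃ x : Cfsg.PSU 4 F q, x * g * x⁻¹ ∈ H ∨ x * g * x⁻¹ ∈ K := by
  classical
  obtain ⟨ε, hε0, hε⟩ := exists_norm_eq hF (c := (-1 : F)) (neg_ne_zero.2 one_ne_zero)
    (by rw [← qEnd_apply hF, map_neg, map_one])
  have hq0 : q ≠ 0 := by have := one_lt_q hF; omega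
  have hneg : ((-1 : F)) ^ (q + 1) = 1 := by
    rw [pow_succ, ← qEnd_apply hF, map_neg, map_one, neg_mul_neg, one_mul]
  let e₀ : Fin 4 → F := ![1, 0, 0, 0]
  let a₀ : Fin 4 → F := ![1, ε, 0, 0]
  let b₀ : Fin 4 → F := ![0, 0, 1, ε]
  have hneg1 : ((-1 : F)) ^ q = -1 := by rw [← qEnd_apply hF, map_neg, map_one]
  have hεq : ε * ε ^ q = -1 := by rw [← pow_succ', hε]
  have hperm : ∀ u v : Fin 4 → F, hermForm 4 F q (![-u 1, u 0, u 2, u 3]) (![-v 1, v 0, v 2, v 3]) =
      hermForm 4 F q u v := fun u v => by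
    simp [hermForm, Fin.sum_univ_four, neg_pow (v 1) q, hneg1]
    ring
  have hperm' : ∀ u v : Fin 4 → F, hermForm 4 F q (![u 0, -u 2, u 1, u 3]) (![v 0, -v 2, v 1, v 3]) =
      hermForm 4 F q u v := fun u v => by
    simp [hermForm, Fin.sum_univ_four, neg_pow (v 2) q, hneg1]
    ring
  refine exists_cover_quotient (H := subStab (F ∙ e₀)) (K := subStab (isoPlane ε)) ?_ ?_
    (center_le_subStab hF (by norm_num) _) (center_le_subStab hF (by norm_num) _) ?_
  · intro e
    obtain ⟨x, hx⟩ := exists_suMat (q := q)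
      (M := (!![0, -1, 0, 0; 1, 0, 0, 0; 0, 0, 1, 0; 0, 0, 0, 1] : Matrix (Fin 4) (Fin 4) F))
      (by simp [det_succ_row_zero, Fin.sum_univ_four, Fin.sum_univ_three, Fin.succAbove])
      (fun u v => by
        rw [← hperm u v]
        congr 1 <;> funext i <;> fin_cases i <;> simp [mulVec, dotProduct, Fin.sum_univ_four])
    have h1 := ((e ▸ Subgroup.mem_top x : x ∈ subStab (F ∙ e₀)) e₀).2 (Submodule.mem_span_singleton_self _)
    obtain ⟨c, hc⟩ := Submodule.mem_span_singleton.1 h1
    have := congrFun hc 1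
    simp [hx, e₀, mulVec, dotProduct, Fin.sum_univ_four] at this
  · intro e
    obtain ⟨x, hx⟩ := exists_suMat (q := q)
      (M := (!![1, 0, 0, 0; 0, 0, -1, 0; 0, 1, 0, 0; 0, 0, 0, 1] : Matrix (Fin 4) (Fin 4) F))
      (by simp [det_succ_row_zero, Fin.sum_univ_four, Fin.sum_univ_three, Fin.succAbove])
      (fun u v => by
        rw [← hperm' u v]
        congr 1 <;> funext i <;> fin_cases i <;> simp [mulVec, dotProduct, Fin.sum_univ_four])
    have h1 := ((e ▸ Subgroup.mem_top x : x ∈ subStab (isoPlane ε)) a₀).2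
      (mem_isoPlane.2 (by simp [a₀]))
    rw [hx, mem_isoPlane] at h1
    simp [a₀, mulVec, dotProduct, Fin.sum_univ_four] at h1
    exact hε0 h1.1.symm
  intro g
  set T := (suMat g).mulVecLin
  set S := (suMat g⁻¹).mulVecLin
  have hTS : T * S = 1 := LinearMap.ext fun v => by
    show suMat g *ᵥ (suMat g⁻¹ *ᵥ v) = v
    have := suMat_inv_mulVec g⁻¹ v
    rwa [inv_inv] at this
  rcases exists_invariant hF (hermB_polar hF 4) (T := T) (S := S) (fun x y => suMat_isometry g y x) hTS
    (Module.finrank_fin_fun F) with ⟨v, α, hv, hTv⟩ | ⟨a, b, hli, haa, hab, hbb, hTa, hTb⟩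
  · -- nonsingular point
    rw [hermB_apply] at hv
    obtain ⟨l, hl0, hl⟩ := exists_norm_eq hF (inv_ne_zero hv) (by rw [inv_pow, hermForm_self_fixed hF])
    have hlv : hermForm 4 F q (l • v) (l • v) = 1 := by rw [hermForm_smul, hl, inv_mul_cancel₀ hv]
    have hne : l • v ≠ 0 := smul_ne_zero hl0 fun e => hv (by simp [e, hermForm, zero_pow hq0])
    obtain ⟨φ, hφ, hφv⟩ := witt_herm_tuple hF (v := fun _ : Unit => l • v) (w := fun _ : Unit => e₀)
      (linearIndependent_unique_iff.2 hne) (linearIndependent_unique_iff.2 (by simp [e₀])) (fun _ _ => by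
        rw [hlv]
        simp [e₀, hermForm, Fin.sum_univ_four, zero_pow hq0])
    have hφ' : ∀ u w, hermForm 4 F q (φ u) (φ w) = hermForm 4 F q u w := hφ
    set δ := LinearMap.det (φ : (Fin 4 → F) →ₗ[F] (Fin 4 → F))
    have hδ : δ ^ (q + 1) = 1 := det_isom_pow hF hφ'
    obtain ⟨x, hx⟩ := exists_suMat_comp hφ' (D := diagonal ![1, δ⁻¹, 1, 1])
      (diag_isometry (fun i => by fin_cases i <;> simp [inv_pow, hδ]))
      (by rw [det_diagonal]; simp [Fin.prod_univ_four]; exact inv_mul_cancel₀ (LinearEquiv.isUnit_det' φ).ne_zero)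
    have hxv : suMat x *ᵥ (l • v) = e₀ := by
      rw [hx, hφv ()]
      funext i; fin_cases i <;> simp [e₀, mulVec_diagonal]
    refine ⟨x, Or.inl (conj_mem_subStab (W := F ∙ v) (fun w => ?_) fun w hw => ?_)⟩
    · rw [Submodule.mem_span_singleton, Submodule.mem_span_singleton]
      constructor
      · rintro ⟨c, hc⟩
        refine ⟨c * l, ?_⟩
        have := congrArg (fun y => suMat x⁻¹ *ᵥ y) hc
        simp only [mulVec_smul, ← hxv, suMat_inv_mulVec] at this
        rw [← this, smul_smul]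
      · rintro ⟨c, rfl⟩
        refine ⟨c / l, ?_⟩
        rw [← hxv, mulVec_smul, mulVec_smul, smul_smul, div_mul_cancel₀ _ hl0]
    · obtain ⟨c, rfl⟩ := Submodule.mem_span_singleton.1 hw
      rw [mulVec_smul, show suMat g *ᵥ v = α • v from hTv, smul_smul]
      exact Submodule.smul_mem _ _ (Submodule.mem_span_singleton_self _)
  · -- totally isotropic line
    rw [hermB_apply] at haa hab hbb
    have hba : hermForm 4 F q a b = 0 := by rw [← hermForm_swap hF, hab, map_zero]
    have hli0 : LinearIndependent F ![a₀, b₀] := by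
      rw [LinearIndependent.pair_iff]
      intro s t hst
      exact ⟨by simpa [a₀, b₀] using congrFun hst 0, by simpa [a₀, b₀] using congrFun hst 2⟩
    obtain ⟨φ, hφ, hφv⟩ := witt_herm_tuple hF hli hli0 (fun i j => by
      fin_cases i <;> fin_cases j <;>
        simp [a₀, b₀, haa, hab, hbb, hba, hεq, hermForm, Fin.sum_univ_four, zero_pow hq0] <;>
        simp only [hermForm, Fin.sum_univ_four] at haa hab hbb hba ⊢ <;>
        simp [haa, hab, hbb, hba, hεq, zero_pow hq0])
    have hφ' : ∀ u w, hermForm 4 F q (φ u) (φ w) = hermForm 4 F q u w := hφ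
    set δ := LinearMap.det (φ : (Fin 4 → F) →ₗ[F] (Fin 4 → F))
    have hδ : δ ^ (q + 1) = 1 := det_isom_pow hF hφ'
    obtain ⟨D, hDd, hD, hDW⟩ := exists_plane_adjust hF hε (δ := δ⁻¹) (by rw [inv_pow, hδ, inv_one])
    obtain ⟨x, hx⟩ := exists_suMat_comp hφ' hD (by
      rw [hDd]; exact inv_mul_cancel₀ (LinearEquiv.isUnit_det' φ).ne_zero)
    refine ⟨x, Or.inr (conj_mem_subStab (W := Submodule.span F {a, b}) (fun w => ?_) fun w hw => ?_)⟩
    · have hWle : ∀ y ∈ Submodule.span F {a, b}, suMat x *ᵥ y ∈ isoPlane ε := by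
        intro y hy
        obtain ⟨s, t, rfl⟩ := Submodule.mem_span_pair.1 hy
        rw [hx]
        refine hDW _ ?_
        rw [map_add, map_smul, map_smul, show φ a = a₀ from hφv 0, show φ b = b₀ from hφv 1]
        exact Submodule.mem_span_pair.2 ⟨s, t, rfl⟩
      refine ⟨fun hw => ?_, hWle w⟩
      have hmap : (Submodule.span F {a, b}).map (suMat x).mulVecLin = isoPlane ε := by
        refine Submodule.eq_of_le_of_finrank_le (Submodule.map_le_iff_le_comap.2 hWle) ?_
        have hinj : Function.Injective (suMat x).mulVecLin := fun y z e => by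
          have := congrArg (fun u => suMat x⁻¹ *ᵥ u) (show suMat x *ᵥ y = suMat x *ᵥ z from e)
          simpa only [suMat_inv_mulVec] using this
        rw [← LinearEquiv.finrank_eq (Submodule.equivMapOfInjective _ hinj (Submodule.span F {a, b}))]
        have h1 := finrank_span_eq_card hli
        rw [Matrix.range_cons, Matrix.range_cons, Matrix.range_empty, Set.union_empty, Set.singleton_union] at h1
        rw [h1]
        exact (finrank_range_le_card ![a₀, b₀]).trans_eq' (by
          rw [Matrix.range_cons, Matrix.range_cons, Matrix.range_empty, Set.union_empty, Set.singleton_union]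
          rfl)
      rw [← hmap] at hw
      obtain ⟨y, hy, e⟩ := hw
      have := congrArg (fun u => suMat x⁻¹ *ᵥ u) (show suMat x *ᵥ y = suMat x *ᵥ w from e)
      simp only [suMat_inv_mulVec] at this
      exact this ▸ hy
    · obtain ⟨s, t, rfl⟩ := Submodule.mem_span_pair.1 hw
      rw [mulVec_add, mulVec_smul, mulVec_smul]
      exact Submodule.add_mem _ (Submodule.smul_mem _ _ hTa) (Submodule.smul_mem _ _ hTb)

end Cfsg.Agent.NormalCover
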