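import Cfsg.Agent.Lib.NormalCover.UnitaryCubic

/-!
Isometries of hermitian three-spaces in characteristic three.
-/

set_option autoImplicit false
set_option linter.unusedSectionVars false

namespace Cfsg.Agent.NormalCover

open Polynomial Forms

variable {F : Type*} [Field F] [Fintype F] {q : ℕ} (hF : Fintype.card F = q ^ 2)
variable {V : Type*} [AddCommGroup V] [Module F V] [FiniteDimensional F V]
  {B : V →ₛₗ[qEnd hF] V →ₗ[F] F} (hB : IsHermitianPolar (qEnd hF) 1 B)

section Gram

variable {T S : Module.End F V} (hT : ∀ x y, B (T x) (T y) = B x y) (hTS : T * S = 1)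
  (hN : (T - 1 : Module.End F V) ^ 3 = 0)

include hT hTS in
omit [FiniteDimensional F V] in
theorem left_adjoint (u v : V) : B (T u) v = B u (S v) := by
  conv_lhs => rw [show v = T (S v) from (LinearMap.congr_fun hTS v).symm, hT]

include hTS hN in
theorem inv_eq_of_cube : S = 1 - (T - 1) + (T - 1) * (T - 1) := by
  have h1 : T * (1 - (T - 1) + (T - 1) * (T - 1)) = 1 := by
    have : T * (1 - (T - 1) + (T - 1) * (T - 1)) = 1 + (T - 1 : Module.End F V) ^ 3 := by noncomm_ring
    rw [this, hN, add_zero]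
  calc S = S * (T * (1 - (T - 1) + (T - 1) * (T - 1))) := by rw [h1, mul_one]
    _ = _ := by rw [← mul_assoc, mul_eq_one_comm.1 hTS, one_mul]

include hT hTS hN in
theorem gram_rec (x : V) (i j : ℕ) : B (((T - 1 : Module.End F V) ^ (i + 1)) x) (((T - 1 : Module.End F V) ^ j) x) =
    - B (((T - 1 : Module.End F V) ^ i) x) (((T - 1 : Module.End F V) ^ (j + 1)) x) + B (((T - 1 : Module.End F V) ^ i) x) (((T - 1 : Module.End F V) ^ (j + 2)) x) := by
  set N := T - 1 with hNdef
  have e : ∀ u v, B (N u) v = - B u (N v) + B u (N (N v)) := fun u v => by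
    have h1 := left_adjoint hF hT hTS u v
    rw [inv_eq_of_cube hTS hN, ← hNdef] at h1
    simp only [hNdef, LinearMap.sub_apply, Module.End.one_apply, map_sub, LinearMap.sub_apply] at h1 ⊢
    simp only [LinearMap.add_apply, LinearMap.sub_apply, Module.End.one_apply, Module.End.mul_apply, map_add,
      map_sub, LinearMap.sub_apply] at h1
    linear_combination h1
  rw [pow_succ' N i, Module.End.mul_apply, e, pow_succ' N j, pow_succ' N (j + 1), pow_succ' N j,
    Module.End.mul_apply, Module.End.mul_apply, Module.End.mul_apply]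

include hT hTS hN in
theorem gram_values (x : V) :
    B (((T - 1 : Module.End F V) ^ 2) x) x = B x (((T - 1 : Module.End F V) ^ 2) x) ∧
    B ((T - 1) x) x = - B x ((T - 1) x) + B x (((T - 1 : Module.End F V) ^ 2) x) ∧
    B ((T - 1) x) ((T - 1) x) = - B x (((T - 1 : Module.End F V) ^ 2) x) ∧
    B ((T - 1) x) (((T - 1 : Module.End F V) ^ 2) x) = 0 ∧
    B (((T - 1 : Module.End F V) ^ 2) x) ((T - 1) x) = 0 ∧
    B (((T - 1 : Module.End F V) ^ 2) x) (((T - 1 : Module.End F V) ^ 2) x) = 0 := by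
  have r := gram_rec hF hT hTS hN x
  generalize T - 1 = N at hN r ⊢
  have z : ∀ k, (N ^ (k + 3)) x = 0 := fun k => by rw [pow_add, hN, mul_zero, LinearMap.zero_apply]
  have z3 : (N ^ 3) x = 0 := z 0
  have z4 : (N ^ 4) x = 0 := z 1
  have r00 : B ((N ^ 1) x) ((N ^ 0) x) = - B ((N ^ 0) x) ((N ^ 1) x) + B ((N ^ 0) x) ((N ^ 2) x) := r 0 0
  have r01 : B ((N ^ 1) x) ((N ^ 1) x) = - B ((N ^ 0) x) ((N ^ 2) x) + B ((N ^ 0) x) ((N ^ 3) x) := r 0 1
  have r02 : B ((N ^ 1) x) ((N ^ 2) x) = - B ((N ^ 0) x) ((N ^ 3) x) + B ((N ^ 0) x) ((N ^ 4) x) := r 0 2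
  have r10 : B ((N ^ 2) x) ((N ^ 0) x) = - B ((N ^ 1) x) ((N ^ 1) x) + B ((N ^ 1) x) ((N ^ 2) x) := r 1 0
  have r11 : B ((N ^ 2) x) ((N ^ 1) x) = - B ((N ^ 1) x) ((N ^ 2) x) + B ((N ^ 1) x) ((N ^ 3) x) := r 1 1
  have r12 : B ((N ^ 2) x) ((N ^ 2) x) = - B ((N ^ 1) x) ((N ^ 3) x) + B ((N ^ 1) x) ((N ^ 4) x) := r 1 2
  simp only [pow_zero, pow_one, Module.End.one_apply, z3, z4, map_zero, neg_zero, add_zero] at r00 r01 r02 r10 r11 r12
  refine ⟨?_, r00, r01, r02, ?_, r12⟩
  · rw [r10, r01, r02]; ring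
  · rw [r11, r02, neg_zero]

include hT hTS hN in
theorem independent {x : V} (hx : ((T - 1 : Module.End F V) ^ 2) x ≠ 0) :
    LinearIndependent F ![x, (T - 1) x, ((T - 1 : Module.End F V) ^ 2) x] := by
  clear hT hTS
  generalize T - 1 = N at hN hx ⊢
  rw [Fintype.linearIndependent_iff]
  intro c hc
  have h3 : (N ^ 3) x = 0 := by rw [hN, LinearMap.zero_apply]
  have h4 : (N ^ 4) x = 0 := by rw [pow_succ' N 3, Module.End.mul_apply, h3, map_zero]
  simp [Fin.sum_univ_three] at hc
  have k1 : (N ^ 2) (N x) = (N ^ 3) x := rfl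
  have k2 : (N ^ 2) ((N ^ 2) x) = (N ^ 4) x := rfl
  have k3 : N (N x) = (N ^ 2) x := rfl
  have k4 : N ((N ^ 2) x) = (N ^ 3) x := rfl
  have e1 := congrArg (fun v => (N ^ 2) v) hc
  have e2 := congrArg (fun v => N v) hc
  simp only [map_add, map_smul, map_zero, k1, k2, h3, h4, smul_zero, add_zero, smul_eq_zero] at e1
  have c0 := e1.resolve_right hx
  simp only [map_add, map_smul, map_zero, c0, zero_smul, zero_add, k3, k4, h3, smul_zero, add_zero, smul_eq_zero] at e2
  have c1 := e2.resolve_right hx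
  rw [c0, c1, zero_smul, zero_smul, zero_add, zero_add, smul_eq_zero] at hc
  have c2 := hc.resolve_right hx
  intro i
  fin_cases i <;> assumption

include hB hT hTS hN in
/-- A generator with standard Gram values. -/
theorem exists_standard (h3 : (3 : F) = 0) (hN2 : (T - 1 : Module.End F V) ^ 2 ≠ 0) :
    ∃ x : V, B x x = 0 ∧ B x ((T - 1) x) = -1 ∧ B x (((T - 1 : Module.End F V) ^ 2) x) = 1 := by
  have gv := fun z => gram_values hF hT hTS hN z
  clear hT hTS
  generalize T - 1 = N at hN hN2 gv ⊢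
  obtain ⟨t, ht⟩ := exists_trace_one (qEnd_ne_id hF) (qEnd_qEnd hF)
  obtain ⟨x, hx⟩ : ∃ x, B x ((N ^ 2) x) ≠ 0 := by
    by_contra! h0
    refine hN2 (LinearMap.ext fun v => hB.sep_right _ fun y => ?_)
    have key : ∀ l : F, (qEnd hF) l * B y ((N ^ 2) v) + l * B v ((N ^ 2) y) = 0 := fun l => by
      have h1 := h0 (v + l • y)
      simp only [map_add, map_smul, LinearMap.add_apply, LinearMap.map_smulₛₗ, LinearMap.smul_apply,
        smul_eq_mul] at h1
      linear_combination h1 - h0 v - ((qEnd hF) l * l) * h0 y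
    obtain ⟨l, hl⟩ : ∃ l, (qEnd hF) l ≠ l := by
      by_contra! h
      exact qEnd_ne_id hF (RingHom.ext h)
    have k1 := key 1
    have k2 := key l
    rw [map_one] at k1
    have : ((qEnd hF) l - l) * B y ((N ^ 2) v) = 0 := by linear_combination k2 - l * k1
    exact (mul_eq_zero.1 this).resolve_left (sub_ne_zero.2 hl)
  have hself : ∀ y, (qEnd hF) (B y ((N ^ 2) y)) = B y ((N ^ 2) y) := fun y => by
    have h1 := (gv y).1
    have h2 := hB.swap y ((N ^ 2) y)
    rw [one_mul] at h2
    exact h2.symm.trans h1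
  -- scale
  obtain ⟨l, -, hl⟩ := exists_norm_eq hF (inv_ne_zero hx) (by rw [inv_pow, ← qEnd_apply hF, hself])
  set y := l • x
  have hy : B y ((N ^ 2) y) = 1 := by
    simp only [y, map_smul, LinearMap.map_smulₛₗ, LinearMap.smul_apply, smul_eq_mul]
    rw [← mul_assoc, qEnd_apply, mul_comm l, ← pow_succ, hl, inv_mul_cancel₀ hx]
  -- fix the middle value
  obtain ⟨-, y10, y11, y12, y21, -⟩ := gv y
  have hb : (qEnd hF) (B y (N y)) + B y (N y) = 1 := by
    have h2 := hB.swap y (N y)
    rw [one_mul] at h2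
    linear_combination y10 - h2 + hy
  set d := -1 - B y (N y)
  have hd : d + (qEnd hF) d = 0 := by
    simp only [d, map_sub, map_neg, map_one]
    linear_combination -hb - h3
  set r := d * t
  have hr : r - (qEnd hF) r = d := by
    simp only [r, map_mul]
    linear_combination d * ht - (qEnd hF) t * hd
  have hN3 : ∀ v, (N ^ 2) (N v) = 0 := fun v => by
    rw [← Module.End.mul_apply, ← pow_succ, hN, LinearMap.zero_apply]
  have hN4 : ∀ v, N ((N ^ 2) v) = 0 := fun v => by
    rw [← Module.End.mul_apply, ← pow_succ', hN, LinearMap.zero_apply]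
  have hNN : ∀ v, N (N v) = (N ^ 2) v := fun v => by rw [pow_two, Module.End.mul_apply]
  set z := y + r • N y
  have hz2 : B z ((N ^ 2) z) = 1 := by
    simp only [z, map_add, map_smul, hN3, smul_zero, add_zero, LinearMap.add_apply, LinearMap.map_smulₛₗ,
      LinearMap.smul_apply, smul_eq_mul, y12, mul_zero]
    exact hy
  have hz1 : B z (N z) = -1 := by
    simp only [z, map_add, map_smul, hNN, LinearMap.add_apply, LinearMap.map_smulₛₗ, LinearMap.smul_apply,
      smul_eq_mul, y12, y11, mul_zero, add_zero, hy]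
    linear_combination hr
  obtain ⟨z20, -, -, z12, z21, z22⟩ := gv z
  set s := -(B z z) * t
  have hzz : (qEnd hF) (B z z) = B z z := by
    conv_rhs => rw [hB.swap z z, one_mul]
  refine ⟨z + s • (N ^ 2) z, ?_, ?_, ?_⟩
  · have e := z22
    simp only [map_add, map_smul, LinearMap.add_apply, LinearMap.map_smulₛₗ, LinearMap.smul_apply, smul_eq_mul,
      z20, e, mul_zero, add_zero, hz2]
    simp only [s, map_mul, map_neg]
    rw [hzz]
    linear_combination -(B z z) * ht
  · simp only [map_add, map_smul, hN4, smul_zero, add_zero, LinearMap.add_apply, LinearMap.map_smulₛₗ,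
      LinearMap.smul_apply, smul_eq_mul, z21, mul_zero]
    exact hz1
  · have e : (N ^ 2) ((N ^ 2) z) = 0 := by rw [← hNN, hN4, map_zero]
    simp only [map_add, map_smul, e, smul_zero, add_zero, LinearMap.add_apply, LinearMap.map_smulₛₗ,
      LinearMap.smul_apply, smul_eq_mul]
    have e' := z22
    rw [e', mul_zero, add_zero]
    exact hz2

end Gram

include hB in
/-- Regular unipotent isometries are conjugate by isometries. -/
theorem regular_similar (h3 : (3 : F) = 0) (hd : Module.finrank F V = 3) {T₁ S₁ T₂ S₂ : Module.End F V}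
    (hT₁ : ∀ x y, B (T₁ x) (T₁ y) = B x y) (hTS₁ : T₁ * S₁ = 1) (hN₁ : (T₁ - 1 : Module.End F V) ^ 3 = 0) (hR₁ : (T₁ - 1 : Module.End F V) ^ 2 ≠ 0)
    (hT₂ : ∀ x y, B (T₂ x) (T₂ y) = B x y) (hTS₂ : T₂ * S₂ = 1) (hN₂ : (T₂ - 1 : Module.End F V) ^ 3 = 0) (hR₂ : (T₂ - 1 : Module.End F V) ^ 2 ≠ 0) :
    ∃ φ : V ≃ₗ[F] V, (∀ x y, B (φ x) (φ y) = B x y) ∧ ∀ v, φ (T₁ v) = T₂ (φ v) := by
  classical
  obtain ⟨x, x0, x1, x2⟩ := exists_standard hF hB hT₁ hTS₁ hN₁ h3 hR₁
  obtain ⟨y, y0, y1, y2⟩ := exists_standard hF hB hT₂ hTS₂ hN₂ h3 hR₂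
  have hx : ((T₁ - 1 : Module.End F V) ^ 2) x ≠ 0 := fun e => by
    rw [e, map_zero] at x2
    exact zero_ne_one x2
  have hy : ((T₂ - 1 : Module.End F V) ^ 2) y ≠ 0 := fun e => by
    rw [e, map_zero] at y2
    exact zero_ne_one y2
  let bx := basisOfLinearIndependentOfCardEqFinrank (independent hF hT₁ hTS₁ hN₁ hx) (by rw [hd, Fintype.card_fin])
  let bz := basisOfLinearIndependentOfCardEqFinrank (independent hF hT₂ hTS₂ hN₂ hy) (by rw [hd, Fintype.card_fin])
  let φ := bx.equiv bz (Equiv.refl _)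
  have hbx : ∀ i, bx i = ![x, (T₁ - 1) x, ((T₁ - 1 : Module.End F V) ^ 2) x] i := fun i =>
    congrFun (coe_basisOfLinearIndependentOfCardEqFinrank _ _) i
  have hbz : ∀ i, bz i = ![y, (T₂ - 1) y, ((T₂ - 1 : Module.End F V) ^ 2) y] i := fun i =>
    congrFun (coe_basisOfLinearIndependentOfCardEqFinrank _ _) i
  have hφ : ∀ i, φ (bx i) = bz i := fun i => by simp [φ]
  obtain ⟨x20, x10, x11, x12, x21, x22⟩ := gram_values hF hT₁ hTS₁ hN₁ x
  obtain ⟨y20, y10, y11, y12, y21, y22⟩ := gram_values hF hT₂ hTS₂ hN₂ y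
  refine ⟨φ, ?_, ?_⟩
  · intro u v
    rw [← bx.sum_repr u, ← bx.sum_repr v]
    simp only [map_sum, map_smul, LinearMap.sum_apply, LinearMap.map_smulₛₗ, LinearMap.smul_apply, hφ]
    refine Finset.sum_congr rfl fun i _ => ?_
    congr 1
    refine Finset.sum_congr rfl fun j _ => ?_
    congr 1
    rw [hbx, hbx, hbz, hbz]
    fin_cases i <;> fin_cases j <;>
      simp [-LinearMap.sub_apply, x0, x1, x2, x20, x10, x11, x12, x21, y0, y1, y2, y20, y10, y11, y12, y21,
        x22, y22]
  · have key : (φ.toLinearMap) ∘ₗ (T₁ - 1) = (T₂ - 1) ∘ₗ φ.toLinearMap := by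
      refine bx.ext fun i => ?_
      simp only [LinearMap.comp_apply, LinearEquiv.coe_coe]
      rw [hφ, hbx, hbz]
      have h0 := hφ 0
      have h1 := hφ 1
      have h2 := hφ 2
      rw [hbx, hbz] at h0 h1 h2
      simp at h0 h1 h2
      have z1 : ((T₁ - 1 : Module.End F V) ^ 2) x = (T₁ - 1) ((T₁ - 1) x) := by rw [pow_two, Module.End.mul_apply]
      have z2 : ((T₂ - 1 : Module.End F V) ^ 2) y = (T₂ - 1) ((T₂ - 1) y) := by rw [pow_two, Module.End.mul_apply]
      have w1 : (T₁ - 1) (((T₁ - 1 : Module.End F V) ^ 2) x) = 0 := by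
        rw [← Module.End.mul_apply, ← pow_succ', hN₁, LinearMap.zero_apply]
      have w2 : (T₂ - 1) (((T₂ - 1 : Module.End F V) ^ 2) y) = 0 := by
        rw [← Module.End.mul_apply, ← pow_succ', hN₂, LinearMap.zero_apply]
      fin_cases i
      · simpa using h1
      · show φ ((T₁ - 1) ((T₁ - 1) x)) = (T₂ - 1) ((T₂ - 1) y)
        rw [← z1, ← z2]
        simpa using h2
      · show φ ((T₁ - 1) (((T₁ - 1 : Module.End F V) ^ 2) x)) = (T₂ - 1) (((T₂ - 1 : Module.End F V) ^ 2) y)
        rw [w1, w2, map_zero]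
    intro v
    have := LinearMap.congr_fun key v
    simpa [LinearMap.sub_apply, map_sub] using this

include hB in
/-- A fixed nonsingular point, a commuting self-adjoint root of the cubic, or regular unipotent. -/
theorem trichotomy (h3 : (3 : F) = 0) (hd : Module.finrank F V = 3) {T S : Module.End F V}
    (hT : ∀ x y, B (T x) (T y) = B x y) (hTS : T * S = 1) (hdet : LinearMap.det T = 1)
    {h : F[X]} (hirr : Irreducible h) (hd3 : h.natDegree = 3)
    (hdiv : h ∣ X ^ (q ^ 3) - X) :
    (∃ (v : V) (α : F), B v v ≠ 0 ∧ T v = α • v) ∨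
    (∃ J : Module.End F V, aeval J h = 0 ∧ (∀ u v, B (J u) v = B u (J v)) ∧ T * J = J * T) ∨
    ((T - 1 : Module.End F V) ^ 3 = 0 ∧ (T - 1 : Module.End F V) ^ 2 ≠ 0) := by
  classical
  by_cases hroot : ∃ c, T.charpoly.IsRoot c
  swap
  · right; left
    push Not at hroot
    have hdeg : T.charpoly.natDegree = 3 := by rw [LinearMap.charpoly_natDegree, hd]
    have hm := T.charpoly_monic
    have hπ : Irreducible T.charpoly :=
      (Polynomial.irreducible_iff_roots_eq_zero_of_degree_le_three (by omega) (by omega)).2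
        (Multiset.eq_zero_of_forall_notMem fun x hx => hroot x (isRoot_of_mem_roots hx))
    have : Nontrivial V := Module.nontrivial_of_finrank_pos (by omega : 0 < Module.finrank F V)
    obtain ⟨u, hu⟩ := exists_ne (0 : V)
    have hπu : aeval T T.charpoly u = 0 := by rw [LinearMap.aeval_self_charpoly, LinearMap.zero_apply]
    obtain ⟨-, hdvd⟩ := selfdual_of_cyclic hF hT hTS hm hπ hu hπu fun f hf => by
      refine hB.sep _ fun y => ?_
      have hli : LinearIndependent F fun i : Fin 3 => (T ^ i.1) u := by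
        rw [Fintype.linearIndependent_iff]
        intro c hc
        let p : F[X] := ∑ i : Fin 3, C (c i) * X ^ i.1
        have hp : aeval T p u = 0 := by
          simp only [p, map_sum, LinearMap.sum_apply, map_mul, aeval_C, map_pow, aeval_X, Module.End.mul_apply,
            Module.algebraMap_end_apply]
          exact hc
        have hp0 : p = 0 := eq_zero_of_dvd_of_natDegree_lt (dvd_of_kill hπ hu hπu hp) (by
          rw [hdeg]
          refine lt_of_le_of_lt (natDegree_sum_le_of_forall_le (n := 2) _ _ fun i _ => ?_) (by norm_num)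
          exact (natDegree_C_mul_X_pow_le _ _).trans (by omega))
        intro i
        have := congrArg (fun f => coeff f i.1) hp0
        simpa [p, finsetSum_coeff, coeff_X_pow, Fin.val_inj] using this
      have hy : y ∈ Submodule.span F (Set.range fun i : Fin 3 => (T ^ i.1) u) :=
        hli.span_eq_top_of_card_eq_finrank (by rw [Fintype.card_fin, hd]) ▸ Submodule.mem_top
      induction hy using Submodule.span_induction with
      | mem z hz =>
        obtain ⟨i, rfl⟩ := hz
        have := hf (X ^ i.1)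
        rwa [map_pow, aeval_X] at this
      | zero => rw [map_zero]
      | add a b _ _ ha hb => rw [map_add, ha, hb, add_zero]
      | smul c a _ ha => rw [map_smul, ha, smul_zero]
    rw [hdeg] at hdvd
    have hS : S = T ^ q ^ 3 := by
      obtain ⟨τ, hτ⟩ := hdvd
      have h1 := congrArg (aeval T) hτ
      rw [map_sub, map_pow, aeval_X, map_one, map_mul, LinearMap.aeval_self_charpoly, zero_mul, sub_eq_zero,
        pow_succ] at h1
      calc S = T ^ q ^ 3 * T * S := by rw [h1, one_mul]
        _ = _ := by rw [mul_assoc, hTS, mul_one]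
    have : Finite (AdjoinRoot T.charpoly) :=
      have := hm.finite_adjoinRoot
      Module.finite_of_finite F
    obtain ⟨a, ha⟩ := exists_root (x := AdjoinRoot.root T.charpoly) (AdjoinRoot.eval₂_root _) hirr
      fun π hπm hπi hπd => by
        rw [hd3, ← natDegree_eq_of_degree_eq (degree_eq_degree_of_associated
          ((hπi.dvd_irreducible_iff_associated hπ).1 hπd)).symm, hdeg]
    obtain ⟨p, rfl⟩ := AdjoinRoot.mk_surjective a
    set J := aeval T p
    have hJ0 : aeval J h = 0 := by
      have e1 : T.charpoly ∣ h.comp p := by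
        rw [← AdjoinRoot.mk_eq_zero, comp_eq_aeval, ← ha]
        exact (aeval_algHom_apply (AdjoinRoot.mkₐ T.charpoly) p h).symm
      obtain ⟨τ, hτ⟩ := e1
      rw [← aeval_comp, hτ, map_mul, LinearMap.aeval_self_charpoly, zero_mul]
    have hJq : J ^ q ^ 3 = J := by
      obtain ⟨τ, hτ⟩ := hdiv
      have h1 := congrArg (aeval J) hτ
      rw [map_sub, map_pow, aeval_X, map_mul, hJ0, zero_mul, sub_eq_zero] at h1
      exact h1
    refine ⟨J, hJ0, fun u v => ?_, (Algebra.commute_of_mem_adjoin_self (aeval_mem_adjoin_singleton F T)).eq⟩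
    rw [show B u (J v) = B (aeval S (p.map (qEnd hF)) u) v from adjoint_aeval hF hT hTS p u v, hS,
      show T ^ q ^ 3 = aeval T (X ^ q ^ 3 : F[X]) by rw [map_pow, aeval_X], ← aeval_comp, ← frob_poly_cube hF,
      map_pow, hJq]
  -- an eigenvector
  obtain ⟨α, hα⟩ := hroot
  obtain ⟨v, hv⟩ := ((Module.End.hasEigenvalue_iff_isRoot_charpoly T α).2 hα).exists_hasEigenvector
  have hTv : T v = α • v := hv.apply_eq_smul
  have hv0 : v ≠ 0 := hv.2
  by_cases hvv : B v v = 0
  swap
  · exact Or.inl ⟨v, α, hvv, hTv⟩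
  -- isotropic eigenvector
  have hswap : ∀ x y, B y x = qEnd hF (B x y) := fun x y => by rw [hB.swap x y, one_mul]
  obtain ⟨u₀, hu₀⟩ : ∃ u, B v u ≠ 0 := by
    by_contra! h0
    exact hv0 (hB.sep v h0)
  set u := (B v u₀)⁻¹ • u₀
  have hvu : B v u = 1 := by rw [map_smul, smul_eq_mul, inv_mul_cancel₀ hu₀]
  obtain ⟨w, hw, hwne⟩ : ∃ w, B v w = 0 ∧ ∀ c : F, w ≠ c • v := by
    by_contra! hcon
    have := Submodule.finrank_mono (show LinearMap.ker (B v) ≤ F ∙ v from fun w hw => by
      obtain ⟨c, hc⟩ := hcon w hw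
      exact Submodule.mem_span_singleton.2 ⟨c, hc.symm⟩)
    rw [finrank_span_singleton hv0] at this
    have h1 := LinearMap.finrank_range_add_finrank_ker (B v)
    have h2 := Submodule.finrank_le (LinearMap.range (B v))
    rw [Module.finrank_self] at h2
    omega
  have hwv : B w v = 0 := by rw [hswap, hw, map_zero]
  have hli : LinearIndependent F ![v, w, u] := by
    rw [Fintype.linearIndependent_iff]
    intro c hc
    simp [Fin.sum_univ_three] at hc
    have h2 : c 2 = 0 := by
      have := congrArg (B v) hc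
      simpa [map_add, map_smul, hvv, hw, hvu] using this
    rw [h2, zero_smul, add_zero] at hc
    have h1 : c 1 = 0 := by
      by_contra h1
      refine hwne (-(c 0 / c 1)) ?_
      calc w = (c 1)⁻¹ • (c 1 • w) := by rw [smul_smul, inv_mul_cancel₀ h1, one_smul]
        _ = _ := by rw [eq_neg_of_add_eq_zero_right hc, smul_neg, smul_smul, neg_smul]; congr 2; ring
    rw [h1, zero_smul, add_zero, smul_eq_zero] at hc
    intro i
    fin_cases i
    · exact hc.resolve_right hv0
    · exact h1
    · exact h2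
  let bas := basisOfLinearIndependentOfCardEqFinrank hli (by rw [hd, Fintype.card_fin])
  have hbas : ∀ i, bas i = ![v, w, u] i := fun i =>
    congrFun (coe_basisOfLinearIndependentOfCardEqFinrank _ _) i
  have hex : ∀ z, ∃ c : Fin 3 → F, z = c 0 • v + c 1 • w + c 2 • u := fun z => ⟨bas.repr z, by
    conv_lhs => rw [← bas.sum_repr z]
    simp [Fin.sum_univ_three, hbas]⟩
  have hww : B w w ≠ 0 := by
    intro h0
    refine hwne (B u w) ?_
    refine sub_eq_zero.1 (hB.sep _ fun z => ?_)
    obtain ⟨c, rfl⟩ := hex z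
    rw [map_sub, LinearMap.sub_apply, LinearMap.map_smulₛₗ, LinearMap.smul_apply]
    simp only [map_add, map_smul, hwv, h0, hvv, hw, hvu, smul_eq_mul, mul_zero, mul_one, add_zero, zero_add]
    rw [hswap u w]
    ring
  have hα0 : α ≠ 0 := fun e => hv0 (by
    have : S (T v) = v := by rw [← Module.End.mul_apply, mul_eq_one_comm.1 hTS, Module.End.one_apply]
    rw [← this, hTv, e, zero_smul, map_zero])
  obtain ⟨c, hc⟩ := hex (T w)
  have hc2 : c 2 = 0 := by
    have := hT v w
    rw [hTv, LinearMap.map_smulₛₗ, LinearMap.smul_apply, hc, hw] at this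
    simpa [map_add, map_smul, hvv, hw, hvu, hα0] using this
  rw [hc2, zero_smul, add_zero] at hc
  set β := c 1
  set e := c 0
  by_cases hβ : β = α
  swap
  · refine Or.inl ⟨w + (e / (β - α)) • v, β, ?_, ?_⟩
    · simpa [hw, hwv, hvv] using hww
    · rw [map_add, map_smul, hTv, hc, smul_add, smul_smul, smul_smul, add_comm (e • v), add_assoc, ← add_smul]
      congr 2
      field_simp [sub_ne_zero.2 hβ]
      ring
  rw [hβ] at hc
  have hαn : qEnd hF α * α = 1 := by
    have := hT w w
    simp only [hc, map_add, map_smul, LinearMap.add_apply, LinearMap.map_smulₛₗ, LinearMap.smul_apply,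
      hvv, hw, hwv, smul_eq_mul, mul_zero, zero_add, add_zero] at this
    refine mul_right_cancel₀ hww ?_
    linear_combination this
  by_cases he : e = 0
  · refine Or.inl ⟨w, α, hww, ?_⟩
    rw [hc, he, zero_smul, zero_add]
  obtain ⟨d, hd'⟩ := hex (T u)
  have hd2 : d 2 = α := by
    have := hT v u
    simp only [hTv, hd', map_add, map_smul, LinearMap.map_smulₛₗ, LinearMap.smul_apply, hvv, hw, hvu,
      smul_eq_mul, mul_zero, zero_add, mul_one] at this
    linear_combination α * this - d 2 * hαn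
  set M : Matrix (Fin 3) (Fin 3) F := !![α, e, d 0; 0, α, d 1; 0, 0, α]
  have hTM : T = Matrix.toLin bas bas M := bas.ext fun j => by
    rw [Matrix.toLin_self]
    fin_cases j <;> simp [M, Fin.sum_univ_three, hbas, hTv, hc, hd', hd2]
  have hα3 : α ^ 3 = 1 := by
    rw [hTM, LinearMap.det_toLin] at hdet
    rw [← hdet, Matrix.det_fin_three]
    simp [M]
    ring
  have hα1 : α = 1 := by
    have : (α - 1) ^ 3 = 0 := by linear_combination hα3 + (α - α ^ 2) * h3
    exact sub_eq_zero.1 (eq_zero_of_pow_eq_zero this)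
  subst hα1
  have n0 : (T - 1) v = 0 := by simp [hTv]
  have n1 : (T - 1) w = e • v := by simp [hc]
  have n2 : (T - 1) u = d 0 • v + d 1 • w := by simp [hd', hd2]
  have hd1 : d 1 ≠ 0 := by
    intro h0
    have := hT w u
    simp only [hc, hd', hd2, h0, zero_smul, add_zero, one_smul, map_add, map_smul, LinearMap.add_apply,
      LinearMap.map_smulₛₗ, LinearMap.smul_apply, hvv, hwv, hvu, smul_eq_mul, mul_zero, mul_one, zero_add] at this
    refine he ((map_eq_zero (qEnd hF)).1 ?_)
    linear_combination this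
  refine Or.inr (Or.inr ⟨bas.ext fun j => ?_, fun h0 => ?_⟩)
  · have hp : ∀ z, ((T - 1 : Module.End F V) ^ 3) z = (T - 1) ((T - 1) ((T - 1) z)) := fun z => rfl
    rw [hp, hbas, LinearMap.zero_apply]
    fin_cases j <;> simp only [Fin.zero_eta, Fin.mk_one, Fin.reduceFinMk, Matrix.cons_val] <;>
      simp [-LinearMap.sub_apply, n0, n1, n2]
  · have hp : ((T - 1 : Module.End F V) ^ 2) u = (T - 1) ((T - 1) u) := rfl
    rw [h0, LinearMap.zero_apply, n2, map_add, map_smul, map_smul, n0, n1, smul_zero, zero_add, smul_smul] at hp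
    exact smul_ne_zero (mul_ne_zero hd1 he) hv0 hp.symm

end Cfsg.Agent.NormalCover
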