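import Cfsg.Agent.Lib.SUGen.Transfer
import Cfsg.Agent.Lib.NormalCover.Unitary
import Cfsg.Agent.Lib.NormalCover.UnitaryThree
import Cfsg.Agent.Lib.NormalCover.Normalizer
import Cfsg.Agent.Lib.NormalCover.Basic

/-!
The covering of `PSU₃(3^a)`.
-/

set_option autoImplicit false

namespace Cfsg.Agent.NormalCover

open Polynomial Forms
open scoped Matrix

variable {F : Type*} [Field F] [Fintype F] {q : ℕ} (hF : Fintype.card F = q ^ 2)

include hF in
theorem psu3_cover {a : ℕ} (ha : 1 ≤ a) (hq : q = 3 ^ a) :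
    ∃ H K : Subgroup (Cfsg.PSU 3 F q), H ≠ ⊤ ∧ K ≠ ⊤ ∧
      ∀ g : Cfsg.PSU 3 F q, ∃ x : Cfsg.PSU 3 F q, x * g * x⁻¹ ∈ H ∨ x * g * x⁻¹ ∈ K := by
  classical
  have h3 : (3 : F) = 0 := by
    have h1 := FiniteField.cast_card_eq_zero F
    rw [hF, hq, Nat.cast_pow, Nat.cast_pow] at h1
    exact_mod_cast eq_zero_of_pow_eq_zero (eq_zero_of_pow_eq_zero h1)
  have hq0 : q ≠ 0 := by have := one_lt_q hF; omega
  obtain ⟨h, -, hirr, hd, -, hdiv⟩ := exists_cubic hF
  have : Fact (Irreducible h) := ⟨hirr⟩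
  have := (AdjoinRoot.powerBasis hirr.ne_zero).finite
  have : Finite (AdjoinRoot h) := Module.finite_of_finite F
  let _ : Fintype (AdjoinRoot h) := Fintype.ofFinite _
  have hE : Module.finrank F (AdjoinRoot h) = 3 := adjoinRoot_finrank hd
  have hV : Module.finrank F (Fin 3 → F) = 3 := Module.finrank_fin_fun F
  have htp := trForm_polar hF hd (h := h)
  obtain ⟨Φ, hΦ⟩ := SUGen.exists_isometry hF hE (h := trForm hF (h := h))
    ⟨fun x y => (htp.swap x y).trans (one_mul _), qEnd_qEnd hF, by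
      by_contra! hc; exact qEnd_ne_id hF (RingHom.ext hc), htp.sep⟩
  have hB := hermB_polar hF 3
  set r := AdjoinRoot.root h
  let b : Module.End F (Fin 3 → F) := Φ.toLinearMap ∘ₗ LinearMap.mulLeft F r ∘ₗ Φ.symm.toLinearMap
  set bM := LinearMap.toMatrix' b with hbM
  have hbMv : ∀ v, bM.mulVec v = Φ (r * Φ.symm v) := fun v => by rw [hbM, LinearMap.toMatrix'_mulVec]; rfl
  let fr : AdjoinRoot h →ₗ[F] AdjoinRoot h := (FiniteField.frobeniusAlgHom F (AdjoinRoot h)).toLinearMap
  have hfr : ∀ z, fr z = z ^ Fintype.card F := fun z => rfl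
  let U : Module.End F (Fin 3 → F) := Φ.toLinearMap ∘ₗ fr ∘ₗ Φ.symm.toLinearMap
  have hUv : ∀ v, U v = Φ ((Φ.symm v) ^ Fintype.card F) := fun v => rfl
  have hUv' : ∀ z, U (Φ z) = Φ (z ^ Fintype.card F) := fun z => by rw [hUv, Φ.symm_apply_apply]
  have hU3 : U * (U * U) = 1 := LinearMap.ext fun v => by
    obtain ⟨z, rfl⟩ := Φ.surjective v
    show U (U (U (Φ z))) = Φ z
    rw [hUv', hUv', hUv', ← pow_mul, ← pow_mul]
    congr 1
    rw [show Fintype.card F * (Fintype.card F * Fintype.card F) = Fintype.card (AdjoinRoot h) by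
      rw [adjoinRoot_card hF hd, hF]; ring, FiniteField.pow_card]
  have hUiso : ∀ x y, hermB hF 3 (U x) (U y) = hermB hF 3 x y := fun x y => by
    obtain ⟨z, rfl⟩ := Φ.surjective x
    obtain ⟨w, rfl⟩ := Φ.surjective y
    rw [hUv', hUv', hΦ, hΦ, trForm_apply, trForm_apply, pow_right_comm, ← mul_pow]
    exact Algebra.trace_eq_of_algEquiv (FiniteField.frobeniusAlgEquivOfAlgebraic F (AdjoinRoot h)) _
  have hUdet : LinearMap.det U = 1 := by
    have h1 := congrArg LinearMap.det hU3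
    rw [map_mul, map_mul, map_one] at h1
    have : (LinearMap.det U - 1) ^ 3 = 0 := by
      linear_combination h1 + (LinearMap.det U - LinearMap.det U ^ 2) * h3
    exact sub_eq_zero.1 (eq_zero_of_pow_eq_zero this)
  have hUN : (U - 1 : Module.End F (Fin 3 → F)) ^ 3 = 0 ∧ (U - 1 : Module.End F (Fin 3 → F)) ^ 2 ≠ 0 := by
    have e3 : ∀ v, U (U (U v)) = v := fun v => LinearMap.congr_fun hU3 v
    have three : ∀ v : Fin 3 → F, v + v + v = 0 := fun v => by
      funext i
      simp only [Pi.add_apply, Pi.zero_apply]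
      linear_combination v i * h3
    refine ⟨LinearMap.ext fun v => ?_, fun h0 => ?_⟩
    · show (U - 1) ((U - 1) ((U - 1) v)) = 0
      simp only [LinearMap.sub_apply, Module.End.one_apply, map_sub, e3]
      linear_combination (norm := module) three (U v) - three (U (U v))
    · obtain ⟨z, hz⟩ : ∃ z, Algebra.trace F (AdjoinRoot h) z ≠ 0 := by
        by_contra! h1
        exact one_ne_zero ((traceForm_nondegenerate F (AdjoinRoot h)).1 1 fun y => h1 (1 * y))
      refine hz ((algebraMap F (AdjoinRoot h)).injective (Φ.injective ?_))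
      rw [map_zero, FiniteField.algebraMap_trace_eq_sum_pow, hE, map_zero, map_sum, Nat.card_eq_fintype_card]
      simp only [Finset.sum_range_succ, Finset.sum_range_zero, zero_add, pow_zero, pow_one, pow_two, pow_mul,
        ← hUv']
      have h2 : (U - 1) ((U - 1) (Φ z)) = 0 := LinearMap.congr_fun h0 (Φ z)
      simp only [LinearMap.sub_apply, Module.End.one_apply, map_sub] at h2
      linear_combination (norm := module) h2 + three (U (Φ z))
  obtain ⟨u₀, hu₀⟩ := exists_suMat (q := q) (M := LinearMap.toMatrix' U)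
    (by rw [LinearMap.det_toMatrix', hUdet])
    (fun u v => by
      rw [LinearMap.toMatrix'_mulVec, LinearMap.toMatrix'_mulVec, ← hermB_apply hF, ← hermB_apply hF]
      exact hUiso v u)
  let ρ : ↥(Cfsg.SU 3 F q) →* Matrix (Fin 3) (Fin 3) F := (slToMat 3 F).comp (Cfsg.SU 3 F q).subtype
  have hρ : ∀ g, ρ g = suMat g := fun g => rfl
  have hρinv : ∀ (g : ↥(Cfsg.SU 3 F q)) v, (ρ g).mulVec ((ρ g⁻¹).mulVec v) = v := fun g v => by
    rw [Matrix.mulVec_mulVec, ← map_mul, mul_inv_cancel, map_one, Matrix.one_mulVec]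
  have hu₀mem : u₀ ∈ algNorm ρ bM := by
    refine mem_algNorm ρ ?_
    have : conjAlg ρ u₀ bM = bM ^ Fintype.card F := by
      refine Matrix.ext_iff_mulVec.2 fun v => ?_
      obtain ⟨w, rfl⟩ : ∃ w, (ρ u₀).mulVec w = v := ⟨_, hρinv u₀ v⟩
      obtain ⟨z, rfl⟩ := Φ.surjective w
      rw [conjAlg_apply, ← Matrix.mulVec_mulVec, ← Matrix.mulVec_mulVec,
        Matrix.mulVec_mulVec (Φ z) (ρ u₀⁻¹), ← map_mul, inv_mul_cancel, map_one, Matrix.one_mulVec, hbMv,
        Φ.symm_apply_apply, hρ, hu₀, LinearMap.toMatrix'_mulVec, hUv', LinearMap.toMatrix'_mulVec, hUv',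
        mul_pow]
      have e : ∀ (k : ℕ) (y : AdjoinRoot h), (bM ^ k).mulVec (Φ y) = Φ (r ^ k * y) := by
        intro k
        induction k with
        | zero => simp
        | succ k ih =>
          intro y
          rw [pow_succ', ← Matrix.mulVec_mulVec, ih, hbMv, Φ.symm_apply_apply, ← mul_assoc, ← pow_succ']
      rw [e]
    rw [this]
    exact pow_mem (Algebra.self_mem_adjoin_singleton F bM) _
  have hbM0 : aeval bM h = 0 := by
    have h1 : aeval b h = 0 := by
      have : b = Φ.conjAlgEquiv F (LinearMap.mulLeft F r) := rfl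
      have e : LinearMap.mulLeft F r = Algebra.lmul F (AdjoinRoot h) r := rfl
      rw [this, e]
      show aeval ((Φ.conjAlgEquiv F).toAlgHom (Algebra.lmul F (AdjoinRoot h) r)) h = 0
      rw [aeval_algHom_apply, aeval_algHom_apply, AdjoinRoot.aeval_eq, AdjoinRoot.mk_self, map_zero, map_zero]
    rw [hbM]
    show aeval ((LinearMap.toMatrixAlgEquiv' : Module.End F (Fin 3 → F) ≃ₐ[F] _).toAlgHom b) h = 0
    rw [aeval_algHom_apply, h1, map_zero]
  -- a transvection
  obtain ⟨ε, hε0, hε⟩ := exists_norm_eq hF (c := (-1 : F)) (neg_ne_zero.2 one_ne_zero)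
    (by rw [← qEnd_apply hF, map_neg, map_one])
  obtain ⟨t, ht⟩ : ∃ t, qEnd hF t ≠ t := by
    by_contra! hc; exact qEnd_ne_id hF (RingHom.ext hc)
  set θ := qEnd hF t - t
  have hθ : qEnd hF θ = -θ := by simp only [θ, map_sub, qEnd_qEnd hF]; ring
  have hεε : qEnd hF ε * ε = -1 := by rw [qEnd_apply, ← pow_succ, hε]
  let c : Fin 3 → F := ![1, ε, 0]
  let f : (Fin 3 → F) →ₗ[F] F := θ • hermB hF 3 c
  let tM : Matrix (Fin 3) (Fin 3) F := !![1 + θ, θ * qEnd hF ε, 0; θ * ε, 1 + θ * ε * qEnd hF ε, 0; 0, 0, 1]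
  have htM : ∀ v, tM.mulVec v = v + f v • c := fun v => by
    funext i
    fin_cases i <;>
      simp [tM, f, c, hermB_apply, hermForm, Matrix.mulVec, dotProduct, Fin.sum_univ_three, qEnd_apply,
        zero_pow hq0] <;> ring
  obtain ⟨tr, htr⟩ := exists_suMat (q := q) (M := tM)
    (by simp [tM, Matrix.det_fin_three]; linear_combination θ * hεε)
    (fun u v => by
      rw [← hermB_apply hF, ← hermB_apply hF, htM, htM]
      have hcc : hermB hF 3 c c = 0 := by
        simp [c, hermB_apply, hermForm, Fin.sum_univ_three, zero_pow hq0, ← qEnd_apply hF]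
        linear_combination hεε
      simp only [f, LinearMap.smul_apply, map_add, map_smul, LinearMap.add_apply, LinearMap.map_smulₛₗ,
        smul_eq_mul, hcc, mul_zero, add_zero, map_mul, hθ]
      rw [(hermB_polar hF 3).swap c v, (hermB_polar hF 3).swap v c, one_mul, one_mul, qEnd_qEnd hF]
      ring)
  let e₀ : Fin 3 → F := ![1, 0, 0]
  refine exists_cover_quotient (H := subStab (F ∙ e₀)) (K := algNorm ρ bM) ?_ ?_
    (center_le_subStab hF (by norm_num) _) ?_ ?_
  · intro e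
    have h1 := ((e ▸ Subgroup.mem_top tr : tr ∈ subStab (F ∙ e₀)) e₀).2 (Submodule.mem_span_singleton_self _)
    obtain ⟨d, hd'⟩ := Submodule.mem_span_singleton.1 h1
    have := congrFun hd' 1
    simp [htr, tM, e₀, Matrix.mulVec, dotProduct, Fin.sum_univ_three] at this
    exact this.elim (fun h0 => ht (sub_eq_zero.1 h0)) hε0
  · intro e
    refine not_mem_algNorm ρ hirr hd.ge hbM0 (c := c) (f := f) (by simp [c]) ?_ (fun v => by rw [hρ, htr, htM])
      (e ▸ Subgroup.mem_top tr)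
    intro h0
    have := LinearMap.congr_fun h0 ![1, 0, 0]
    simp [f, c, hermB_apply, hermForm, Fin.sum_univ_three, sub_eq_zero, θ] at this
    exact ht this
  · intro z hz
    obtain ⟨d, hd'⟩ := center_scalar hF (by norm_num) hz
    refine commute_mem_algNorm ρ ?_
    rw [hρ, hd']
    exact (Commute.one_left bM).smul_left d
  intro g
  set T := (suMat g).mulVecLin
  set S := (suMat g⁻¹).mulVecLin
  have hTS : T * S = 1 := LinearMap.ext fun v => hρinv g v
  have hT : ∀ x y, hermB hF 3 (T x) (T y) = hermB hF 3 x y := fun x y => suMat_isometry g y x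
  have hTdet : LinearMap.det T = 1 := by
    rw [show T = Matrix.toLin' (suMat g) from rfl, LinearMap.det_toLin']
    exact g.1.2
  -- transport by an isometry
  have adjust : ∀ φ : (Fin 3 → F) ≃ₗ[F] (Fin 3 → F), (∀ x y, hermB hF 3 (φ x) (φ y) = hermB hF 3 x y) →
      ∃ (x : ↥(Cfsg.SU 3 F q)) (s : F), s ≠ 0 ∧ ∀ v, (ρ x).mulVec v = s • φ v := by
    intro φ hφ
    have hφ' : ∀ u w, hermForm 3 F q (φ u) (φ w) = hermForm 3 F q u w := fun u w => hφ w u
    set δ := LinearMap.det (φ : (Fin 3 → F) →ₗ[F] (Fin 3 → F))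
    have hδ : δ ^ (q + 1) = 1 := det_isom_pow hF hφ'
    have hqs : q / 3 * 3 = q := by
      rw [hq, Nat.div_mul_cancel (dvd_pow_self 3 (by omega))]
    set s := δ ^ (q / 3)
    obtain ⟨x, hx⟩ := exists_suMat_comp hφ' (D := Matrix.diagonal fun _ => s)
      (diag_isometry (fun _ => by rw [← pow_mul, mul_comm, pow_mul, hδ, one_pow]))
      (by rw [Matrix.det_diagonal, Fin.prod_const, ← pow_mul, hqs, ← pow_succ, hδ])
    refine ⟨x, s, pow_ne_zero _ (LinearEquiv.isUnit_det' φ).ne_zero, fun v => ?_⟩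
    rw [hρ, hx]
    funext i
    simp [Matrix.mulVec_diagonal]
  rcases trichotomy hF hB h3 hV hT hTS hTdet hirr hd hdiv with ⟨v, α, hv, hTv⟩ | ⟨J, hJ0, hJ, hJT⟩ | ⟨hN, hR⟩
  · rw [hermB_apply] at hv
    obtain ⟨l, hl0, hl⟩ := exists_norm_eq hF (inv_ne_zero hv) (by rw [inv_pow, hermForm_self_fixed hF])
    have hlv : hermForm 3 F q (l • v) (l • v) = 1 := by rw [hermForm_smul, hl, inv_mul_cancel₀ hv]
    have hne : l • v ≠ 0 := smul_ne_zero hl0 fun e => hv (by simp [e, hermForm, zero_pow hq0])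
    obtain ⟨φ, hφ, hφv⟩ := witt_herm_tuple hF (v := fun _ : Unit => l • v) (w := fun _ : Unit => e₀)
      (linearIndependent_unique_iff.2 hne) (linearIndependent_unique_iff.2 (by simp [e₀])) (fun _ _ => by
        rw [hlv]
        simp [e₀, hermForm, Fin.sum_univ_three, zero_pow hq0])
    obtain ⟨x, s, hs, hx⟩ := adjust φ fun u w => hφ w u
    have hxv : suMat x *ᵥ v = (s / l) • e₀ := by
      have h1 := hx (l • v)
      rw [hρ, Matrix.mulVec_smul, hφv ()] at h1
      rw [div_eq_inv_mul, ← smul_smul, ← h1, smul_smul, inv_mul_cancel₀ hl0, one_smul]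
    refine ⟨x, Or.inl (conj_mem_subStab (W := F ∙ v) (fun w => ?_) fun w hw => ?_)⟩
    · rw [Submodule.mem_span_singleton, Submodule.mem_span_singleton]
      constructor
      · rintro ⟨d, hd'⟩
        refine ⟨d / (s / l), ?_⟩
        have h2 : suMat x *ᵥ ((d / (s / l)) • v) = suMat x *ᵥ w := by
          rw [Matrix.mulVec_smul, hxv, smul_smul, div_mul_cancel₀ _ (div_ne_zero hs hl0), hd']
        have := congrArg (fun y => suMat x⁻¹ *ᵥ y) h2
        simpa only [suMat_inv_mulVec] using this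
      · rintro ⟨d, rfl⟩
        exact ⟨d * (s / l), by rw [Matrix.mulVec_smul, hxv, smul_smul]⟩
    · obtain ⟨d, rfl⟩ := Submodule.mem_span_singleton.1 hw
      rw [Matrix.mulVec_smul, show suMat g *ᵥ v = α • v from hTv, smul_smul]
      exact Submodule.smul_mem _ _ (Submodule.mem_span_singleton_self _)
  · obtain ⟨Ψ, hΨ, hΨJ⟩ := exists_model hF hd hdiv hB hV hJ hJ0
    obtain ⟨x, s, hs, hx⟩ := adjust (Ψ.symm.trans Φ) fun u w => by
      obtain ⟨y, rfl⟩ := Ψ.surjective u
      obtain ⟨z, rfl⟩ := Ψ.surjective w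
      rw [LinearEquiv.trans_apply, LinearEquiv.trans_apply, Ψ.symm_apply_apply, Ψ.symm_apply_apply, hΦ, hΨ]
    set JM := LinearMap.toMatrix' J
    have hxJ : conjAlg ρ x JM = bM := by
      refine Matrix.ext_iff_mulVec.2 fun v => ?_
      obtain ⟨w, rfl⟩ : ∃ w, (ρ x).mulVec w = v := ⟨_, hρinv x v⟩
      rw [conjAlg_apply, ← Matrix.mulVec_mulVec, ← Matrix.mulVec_mulVec,
        Matrix.mulVec_mulVec w (ρ x⁻¹), ← map_mul, inv_mul_cancel, map_one, Matrix.one_mulVec]
      obtain ⟨z, rfl⟩ := Ψ.surjective w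
      rw [hx, hx, LinearMap.toMatrix'_mulVec, hΨJ, LinearEquiv.trans_apply, LinearEquiv.trans_apply,
        Ψ.symm_apply_apply, Ψ.symm_apply_apply, Matrix.mulVec_smul, hbMv, Φ.symm_apply_apply]
    refine ⟨x, Or.inr (conj_mem_algNorm ρ hxJ ?_)⟩
    have : conjAlg ρ g JM = JM := by
      refine Matrix.ext_iff_mulVec.2 fun v => ?_
      obtain ⟨w, rfl⟩ : ∃ w, (ρ g).mulVec w = v := ⟨_, hρinv g v⟩
      rw [conjAlg_apply, ← Matrix.mulVec_mulVec, ← Matrix.mulVec_mulVec,
        Matrix.mulVec_mulVec w (ρ g⁻¹), ← map_mul, inv_mul_cancel, map_one, Matrix.one_mulVec,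
        LinearMap.toMatrix'_mulVec, LinearMap.toMatrix'_mulVec]
      exact LinearMap.congr_fun hJT w
    rw [this]
    exact Algebra.self_mem_adjoin_singleton F JM
  · obtain ⟨φ, hφ, hφT⟩ := regular_similar hF hB h3 hV hT hTS hN hR hUiso (S₂ := U * U) hU3 hUN.1 hUN.2
    obtain ⟨x, s, hs, hx⟩ := adjust φ hφ
    refine ⟨x, Or.inr ?_⟩
    have hxg : x * g = u₀ * x := by
      refine Subtype.ext (Subtype.ext ?_)
      show ρ (x * g) = ρ (u₀ * x)
      refine Matrix.ext_iff_mulVec.2 fun v => ?_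
      rw [map_mul, map_mul, ← Matrix.mulVec_mulVec, ← Matrix.mulVec_mulVec, hx, hx, hρ u₀, hu₀,
        LinearMap.toMatrix'_mulVec, map_smul, show (ρ g).mulVec v = T v from rfl, hφT]
    rw [hxg, mul_inv_cancel_right]
    exact hu₀mem

end Cfsg.Agent.NormalCover
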